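import Mathlib

/-! Powers of a product in groups of nilpotency class at most three. -/

set_option autoImplicit false

open scoped commutatorElement

namespace CfsgLib.Class3

variable {G : Type*} [Group G]

/-- `[y, x] = y⁻¹ x⁻¹ y x` in the right-hand convention. -/
def rc (y x : G) : G := y⁻¹ * x⁻¹ * y * x

theorem mul_rc (y x : G) : y * x = x * y * rc y x := by simp [rc, mul_assoc]

theorem rc_mem_commutator (y x : G) : rc y x ∈ commutator G := by
  have h := Subgroup.commutator_mem_commutator (Subgroup.mem_top (y⁻¹)) (Subgroup.mem_top (x⁻¹))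
  simpa [rc, commutatorElement_def, commutator_def] using h

theorem rc_mem_of_mem_left {H K : Subgroup G} {y : G} (hy : y ∈ H) (x : G) (h : ⁅H, (⊤ : Subgroup G)⁆ ≤ K) :
    rc y x ∈ K := by
  have := h (Subgroup.commutator_mem_commutator (H.inv_mem hy) (Subgroup.mem_top (x⁻¹)))
  simpa [rc, commutatorElement_def] using this

theorem rc_mem_center (h : ⁅⁅commutator G, (⊤ : Subgroup G)⁆, (⊤ : Subgroup G)⁆ = ⊥) {u : G}
    (hu : u ∈ commutator G) (x : G) : rc u x ∈ Subgroup.center G := by
  have h1 : ⁅commutator G, (⊤ : Subgroup G)⁆ ≤ Subgroup.center G := by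
    rw [Subgroup.commutator_eq_bot_iff_le_centralizer, Subgroup.coe_top,
      Subgroup.centralizer_univ] at h
    exact h
  exact rc_mem_of_mem_left hu x h1

variable {x y u v w : G}

theorem pow_mul_comm_of_central (hv : v ∈ Subgroup.center G) (h : u * x = x * u * v) (m : ℕ) :
    u ^ m * x = x * u ^ m * v ^ m := by
  induction m with
  | zero => simp
  | succ m ih =>
    have hc : ∀ g : G, v * g = g * v := fun g => (Subgroup.mem_center_iff.1 hv g).symm
    rw [pow_succ, mul_assoc, h, ← mul_assoc, ← mul_assoc, ih, pow_succ v]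
    simp only [mul_assoc]
    congr 2
    rw [← mul_assoc (v ^ m), ((Commute.pow_left (hc u) m).eq), mul_assoc]

theorem pow_mul_swap (hw : w ∈ Subgroup.center G) (h1 : y * x = x * y * u)
    (h3 : u * y = y * u * w) (n : ℕ) :
    y ^ n * x = x * y ^ n * u ^ n * w ^ n.choose 2 := by
  induction n with
  | zero => simp
  | succ n ih =>
    have hc : ∀ (k : ℕ) (g : G), w ^ k * g = g * w ^ k := fun k g =>
      (Subgroup.mem_center_iff.1 (Subgroup.pow_mem _ hw k) g).symm
    have h3' := pow_mul_comm_of_central hw h3 n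
    calc y ^ (n + 1) * x = y ^ n * (y * x) := by rw [pow_succ, mul_assoc]
      _ = y ^ n * x * (y * u) := by rw [h1]; simp [mul_assoc]
      _ = x * y ^ n * u ^ n * (w ^ n.choose 2 * (y * u)) := by rw [ih]; simp [mul_assoc]
      _ = x * y ^ n * (u ^ n * y) * u * w ^ n.choose 2 := by rw [hc]; simp [mul_assoc]
      _ = x * y ^ n * y * u ^ n * (w ^ n * u) * w ^ n.choose 2 := by rw [h3']; simp [mul_assoc]
      _ = x * y ^ (n + 1) * u ^ (n + 1) * (w ^ n * w ^ n.choose 2) := by
        rw [hc, pow_succ, pow_succ]; simp [mul_assoc]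
      _ = x * y ^ (n + 1) * u ^ (n + 1) * w ^ (n + 1).choose 2 := by
        rw [← pow_add, Nat.choose_succ_succ' n 1, Nat.choose_one_right]

/-- The expansion of `(x y) ^ n` in class three. -/
theorem mul_pow_formula (hv : v ∈ Subgroup.center G) (hw : w ∈ Subgroup.center G)
    (h1 : y * x = x * y * u) (h2 : u * x = x * u * v) (h3 : u * y = y * u * w) (n : ℕ) :
    (x * y) ^ n = x ^ n * y ^ n * u ^ n.choose 2 * v ^ n.choose 3
      * w ^ (2 * n.choose 3 + n.choose 2) := by
  induction n with
  | zero => simp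
  | succ n ih =>
    have hcv : ∀ (k : ℕ) (g : G), v ^ k * g = g * v ^ k := fun k g =>
      (Subgroup.mem_center_iff.1 (Subgroup.pow_mem _ hv k) g).symm
    have hcw : ∀ (k : ℕ) (g : G), w ^ k * g = g * w ^ k := fun k g =>
      (Subgroup.mem_center_iff.1 (Subgroup.pow_mem _ hw k) g).symm
    set a := n.choose 2
    set b := n.choose 3
    set c := 2 * b + a
    have e2 := pow_mul_comm_of_central hv h2 a
    have e3 := pow_mul_comm_of_central hw h3 a
    have e3' := pow_mul_comm_of_central hw h3 n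
    have e4 := pow_mul_swap hw h1 h3 n
    calc (x * y) ^ (n + 1) = x ^ n * y ^ n * u ^ a * (v ^ b * (w ^ c * (x * y))) := by
          rw [pow_succ, ih]; simp [mul_assoc]
      _ = x ^ n * y ^ n * (u ^ a * x) * y * v ^ b * w ^ c := by
          rw [hcw c (x * y), hcv b (x * y * w ^ c)]
          simp only [mul_assoc]
          rw [hcw c (v ^ b)]
      _ = x ^ n * y ^ n * x * u ^ a * (v ^ a * y) * v ^ b * w ^ c := by rw [e2]; simp [mul_assoc]
      _ = x ^ n * (y ^ n * x) * (u ^ a * y) * v ^ a * v ^ b * w ^ c := by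
          rw [hcv a y]; simp [mul_assoc]
      _ = x ^ n * x * y ^ n * u ^ n * (w ^ a * (y * u ^ a * w ^ a)) * v ^ a * v ^ b * w ^ c := by
          rw [e3, e4]; simp [mul_assoc, a]
      _ = x ^ (n + 1) * y ^ n * (u ^ n * y) * u ^ a * (w ^ a * w ^ a) * v ^ a * v ^ b * w ^ c := by
          rw [hcw a (y * u ^ a * w ^ a), pow_succ x n]; simp [mul_assoc]
      _ = x ^ (n + 1) * y ^ (n + 1) * u ^ n * (w ^ n * u ^ a) * (w ^ a * w ^ a) * v ^ a * v ^ b * w ^ c := by
          rw [e3', pow_succ y n]; simp [mul_assoc]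
      _ = x ^ (n + 1) * y ^ (n + 1) * (u ^ n * u ^ a) * (w ^ n * (w ^ a * w ^ a) * (v ^ a * v ^ b)) * w ^ c := by
          rw [hcw n (u ^ a)]; simp [mul_assoc]
      _ = x ^ (n + 1) * y ^ (n + 1) * u ^ (n + a) * v ^ (a + b) * w ^ (n + (a + a) + c) := by
          rw [hcw n _, ← pow_add, ← pow_add, ← pow_add, ← pow_add]
          simp only [mul_assoc]
          rw [← hcw]
          simp only [← mul_assoc, ← pow_add]
          rw [mul_assoc (_ : G) (v ^ (a + b)) (w ^ _), hcv]
          simp only [← mul_assoc, ← pow_add]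
          simp [add_comm, add_left_comm]
      _ = _ := by
          have h2' : (n + 1).choose 2 = n + a := by
            rw [Nat.choose_succ_succ' n 1, Nat.choose_one_right]
          have h3' : (n + 1).choose 3 = a + b := by rw [Nat.choose_succ_succ' n 2]
          rw [h2', h3']
          congr 2
          omega

/-- If the three iterated commutators of `x, y` have order dividing `p` (and `3 < p`, or the weight three ones
vanish and `p` is odd), then `(x y) ^ p = x ^ p * y ^ p`. -/
theorem mul_pow_prime {p : ℕ} (hp : p.Prime) (hp2 : p ≠ 2) (hv : v ∈ Subgroup.center G)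
    (hw : w ∈ Subgroup.center G) (h1 : y * x = x * y * u) (h2 : u * x = x * u * v)
    (h3 : u * y = y * u * w) (hu : u ^ p = 1) (hvp : v ^ p = 1) (hwp : w ^ p = 1)
    (h : 3 < p ∨ (v = 1 ∧ w = 1)) : (x * y) ^ p = x ^ p * y ^ p := by
  have hlt : 2 < p := lt_of_le_of_ne hp.two_le (Ne.symm hp2)
  obtain ⟨m, hm⟩ := hp.dvd_choose_self (k := 2) (by norm_num) hlt
  rw [mul_pow_formula hv hw h1 h2 h3]
  rcases h with h | ⟨rfl, rfl⟩
  · obtain ⟨l, hl⟩ := hp.dvd_choose_self (k := 3) (by norm_num) h
    rw [hl, hm, show 2 * (p * l) + p * m = p * (2 * l + m) by ring]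
    simp [pow_mul, hu, hvp, hwp]
  · rw [hm]
    simp [pow_mul, hu]

theorem mul_pow_comm_of_central (hv : v ∈ Subgroup.center G) (h : u * x = x * u * v) (m : ℕ) :
    u * x ^ m = x ^ m * u * v ^ m := by
  induction m with
  | zero => simp
  | succ m ih =>
    rw [pow_succ x, ← mul_assoc, ih, mul_assoc _ (v ^ m) x,
      ← Subgroup.mem_center_iff.1 (Subgroup.pow_mem _ hv m) x, ← mul_assoc, mul_assoc _ u x, h,
      pow_succ' v]
    simp [mul_assoc]

variable {R : Type*} [Group R]

/-- The class hypotheses used below: class two for an odd prime, or class three for a prime above three. -/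
def SmallClass (p : ℕ) (R : Type*) [Group R] : Prop :=
  (p ≠ 2 ∧ ⁅commutator R, (⊤ : Subgroup R)⁆ = ⊥) ∨
    (3 < p ∧ ⁅⁅commutator R, (⊤ : Subgroup R)⁆, (⊤ : Subgroup R)⁆ = ⊥)

theorem SmallClass.ne_two {p : ℕ} (h : SmallClass p R) : p ≠ 2 := by
  rcases h with ⟨h, -⟩ | ⟨h, -⟩
  · exact h
  · omega

theorem SmallClass.class_three {p : ℕ} (h : SmallClass p R) :
    ⁅⁅commutator R, (⊤ : Subgroup R)⁆, (⊤ : Subgroup R)⁆ = ⊥ := by
  rcases h with ⟨-, h⟩ | ⟨-, h⟩
  · rw [h, Subgroup.commutator_bot_left]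
  · exact h

theorem SmallClass.gt_or_trivial {p : ℕ} (h : SmallClass p R) {a : R} (ha : a ∈ commutator R)
    (x y : R) : 3 < p ∨ (rc a x = 1 ∧ rc a y = 1) := by
  rcases h with ⟨-, h⟩ | ⟨h, -⟩
  · refine Or.inr ⟨?_, ?_⟩ <;> rw [← Subgroup.mem_bot] <;> exact rc_mem_of_mem_left ha _ h.le
  · exact Or.inl h

theorem mul_pow_eq_one {p : ℕ} (hp : p.Prime) (hcl : SmallClass p R) {x y : R} (hx : x ^ p = 1)
    (hy : y ^ p = 1) : (x * y) ^ p = 1 := by
  have h3 := hcl.class_three
  have hu := rc_mem_commutator y x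
  have hv := rc_mem_center h3 hu x
  have hw := rc_mem_center h3 hu y
  have hwp : rc (rc y x) y ^ p = 1 := by
    have := mul_pow_comm_of_central hw (mul_rc (rc y x) y) p
    rw [hy, mul_one, one_mul] at this
    exact left_eq_mul.1 this
  have hvp : rc (rc y x) x ^ p = 1 := by
    have := mul_pow_comm_of_central hv (mul_rc (rc y x) x) p
    rw [hx, mul_one, one_mul] at this
    exact left_eq_mul.1 this
  have hup : rc y x ^ p = 1 := by
    have := pow_mul_swap hw (mul_rc y x) (mul_rc (rc y x) y) p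
    obtain ⟨m, hm⟩ := hp.dvd_choose_self (k := 2) (by norm_num)
      (lt_of_le_of_ne hp.two_le (Ne.symm hcl.ne_two))
    rw [hy, hm, pow_mul, hwp, one_pow, mul_one, mul_one, one_mul] at this
    exact left_eq_mul.1 this
  rw [mul_pow_prime hp hcl.ne_two hv hw (mul_rc y x) (mul_rc _ x) (mul_rc _ y) hup hvp hwp
    (hcl.gt_or_trivial hu x y), hx, hy, one_mul]

/-- The elements of order dividing `p` generate a subgroup of exponent dividing `p`. -/
theorem pow_eq_one_of_mem_closure {p : ℕ} (hp : p.Prime) (hcl : SmallClass p R) {g : R}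
    (hg : g ∈ Subgroup.closure {x : R | x ^ p = 1}) : g ^ p = 1 := by
  induction hg using Subgroup.closure_induction with
  | mem x hx => exact hx
  | one => exact one_pow p
  | mul x y _ _ hx hy => exact mul_pow_eq_one hp hcl hx hy
  | inv x _ hx => rw [inv_pow, hx, inv_one]

/-- The `p`-th power map is multiplicative when the derived subgroup is generated by elements of order `p`. -/
theorem mul_pow_of_commutator_le {p : ℕ} (hp : p.Prime) (hcl : SmallClass p R)
    (hder : commutator R ≤ Subgroup.closure {x : R | x ^ p = 1}) (x y : R) :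
    (x * y) ^ p = x ^ p * y ^ p := by
  have hexp : ∀ a ∈ commutator R, a ^ p = 1 := fun a ha =>
    pow_eq_one_of_mem_closure hp hcl (hder ha)
  have h3 := hcl.class_three
  have hu := rc_mem_commutator y x
  exact mul_pow_prime hp hcl.ne_two (rc_mem_center h3 hu x) (rc_mem_center h3 hu y)
    (mul_rc y x) (mul_rc _ x) (mul_rc _ y) (hexp _ hu) (hexp _ (rc_mem_commutator _ _))
    (hexp _ (rc_mem_commutator _ _)) (hcl.gt_or_trivial hu x y)

end CfsgLib.Class3
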