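import Mathlib

/-! Normal subgroups of finite `p`-groups: central elements, normal subgroups of index `p`, the bound
for the automizer of a normal abelian subgroup. -/

set_option autoImplicit false

namespace CfsgLib.PGroupBasic

variable {G : Type*} [Group G] [Finite G] {p : ℕ} [hp : Fact p.Prime]

theorem exists_central_orderOf_eq (hG : IsPGroup p G) (M : Subgroup G) [M.Normal] (hM : M ≠ ⊥) :
    ∃ z ∈ M, z ∈ Subgroup.center G ∧ orderOf z = p := by
  have hM' : Nontrivial M := (Subgroup.nontrivial_iff_ne_bot M).2 hM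
  have hd : p ∣ Nat.card M := (hG.to_subgroup M).card_eq_or_dvd.resolve_left
    (fun h => by have := Finite.one_lt_card (α := M); omega)
  have hG' : IsPGroup p (ConjAct G) := hG.of_equiv ConjAct.toConjAct
  obtain ⟨z, hz, hne⟩ := hG'.exists_fixed_point_of_prime_dvd_card_of_fixed_point M hd
    (a := (1 : M)) (fun g => Subtype.ext (smul_one g))
  have hzc : (z : G) ∈ Subgroup.center G := by
    rw [Subgroup.mem_center_iff]
    intro g
    have h : g * (z : G) * g⁻¹ = (z : G) := congrArg Subtype.val (hz (ConjAct.toConjAct g))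
    exact mul_inv_eq_iff_eq_mul.1 h
  obtain ⟨k, hk⟩ := IsPGroup.iff_orderOf.1 hG (z : G)
  rcases Nat.eq_zero_or_pos k with rfl | hk0
  · rw [pow_zero, orderOf_eq_one_iff] at hk
    exact absurd (Subtype.ext hk).symm hne
  refine ⟨(z : G) ^ p ^ (k - 1), Subgroup.pow_mem _ z.2 _, Subgroup.pow_mem _ hzc _, ?_⟩
  rw [orderOf_pow, hk, Nat.gcd_eq_right (pow_dvd_pow p (Nat.sub_le k 1)),
    Nat.pow_div (Nat.sub_le k 1) hp.out.pos, Nat.sub_sub_self hk0, pow_one]

/-- A nontrivial normal subgroup `M` strictly above the normal subgroup `A` contains `A⟨x⟩`, normal, with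
`x ^ p ∈ A` and all commutators of `x` in `A`. -/
theorem exists_mem_centralMod (hG : IsPGroup p G) {A M : Subgroup G} [A.Normal] [M.Normal]
    (h : A < M) : ∃ x ∈ M, x ∉ A ∧ x ^ p ∈ A ∧ ∀ g : G, g * x * g⁻¹ * x⁻¹ ∈ A := by
  have hne : M.map (QuotientGroup.mk' A) ≠ ⊥ := by
    rw [Ne, Subgroup.map_eq_bot_iff, QuotientGroup.ker_mk']
    exact not_le_of_gt h
  have : (M.map (QuotientGroup.mk' A)).Normal :=
    Subgroup.Normal.map inferInstance _ (QuotientGroup.mk'_surjective A)
  obtain ⟨z, hz, hzc, hzo⟩ := exists_central_orderOf_eq (hG.to_quotient A) _ hne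
  obtain ⟨x, hx, rfl⟩ := hz
  refine ⟨x, hx, fun hxA => ?_, ?_, fun g => ?_⟩
  · rw [QuotientGroup.mk'_apply, (QuotientGroup.eq_one_iff x).2 hxA, orderOf_one] at hzo
    exact hp.out.ne_one hzo.symm
  · rw [← QuotientGroup.eq_one_iff, QuotientGroup.mk_pow, ← hzo]
    exact pow_orderOf_eq_one _
  · rw [← QuotientGroup.eq_one_iff]
    have h2 := Subgroup.mem_center_iff.1 hzc (QuotientGroup.mk g)
    simp only [QuotientGroup.mk'_apply] at h2
    rw [QuotientGroup.mk_mul, QuotientGroup.mk_mul, QuotientGroup.mk_mul, QuotientGroup.mk_inv,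
      QuotientGroup.mk_inv, h2, mul_inv_cancel_right, mul_inv_cancel]

theorem normal_sup_zpowers {A : Subgroup G} [hA : A.Normal] {x : G}
    (hx : ∀ g : G, g * x * g⁻¹ * x⁻¹ ∈ A) : (A ⊔ Subgroup.zpowers x).Normal := by
  refine ⟨fun y hy g => ?_⟩
  have hle : A ⊔ Subgroup.zpowers x ≤
      (A ⊔ Subgroup.zpowers x).comap (MulAut.conj g).toMonoidHom := by
    refine sup_le (fun a ha => Subgroup.mem_sup_left ?_) ?_
    · exact hA.conj_mem a ha g
    · rw [Subgroup.zpowers_le, Subgroup.mem_comap]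
      have h1 : g * x * g⁻¹ = g * x * g⁻¹ * x⁻¹ * x := by group
      rw [MulEquiv.coe_toMonoidHom, MulAut.conj_apply, h1]
      exact Subgroup.mul_mem_sup (hx g) (Subgroup.mem_zpowers x)
  exact hle hy

/-- A maximal abelian normal subgroup of a `p`-group is self-centralizing. -/
theorem centralizer_eq_of_maximal (hG : IsPGroup p G) (A : Subgroup G) [A.Normal]
    (hA : IsMulCommutative A)
    (hmax : ∀ B : Subgroup G, B.Normal → IsMulCommutative B → A ≤ B → B = A) :
    Subgroup.centralizer (A : Set G) = A := by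
  by_contra hne
  have hle : A ≤ Subgroup.centralizer (A : Set G) := A.le_centralizer
  obtain ⟨x, hx, hxA, -, hxc⟩ := exists_mem_centralMod hG (lt_of_le_of_ne hle (Ne.symm hne))
  have hab : IsMulCommutative ↥(A ⊔ Subgroup.zpowers x) := by
    rw [show A ⊔ Subgroup.zpowers x = Subgroup.closure ((A : Set G) ∪ {x}) by
      rw [Subgroup.closure_union, Subgroup.closure_eq, ← Subgroup.zpowers_eq_closure]]
    refine Subgroup.isMulCommutative_closure ?_
    rintro a (ha | rfl) b (hb | rfl)
    · exact congrArg Subtype.val (mul_comm' (⟨a, ha⟩ : A) ⟨b, hb⟩)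
    · exact Subgroup.mem_centralizer_iff.1 hx a ha
    · exact (Subgroup.mem_centralizer_iff.1 hx b hb).symm
    · rfl
  have h := hmax _ (normal_sup_zpowers hxc) hab le_sup_left
  exact hxA (h.le (Subgroup.mem_sup_right (Subgroup.mem_zpowers x)))

/-- A nontrivial normal subgroup contains a normal subgroup of index `p` in it. -/
theorem exists_normal_relIndex_eq (hG : IsPGroup p G) (M : Subgroup G) [M.Normal] (hM : M ≠ ⊥) :
    ∃ B : Subgroup G, B.Normal ∧ B ≤ M ∧ B.relIndex M = p ∧
      ∃ e ∈ M, B ⊔ Subgroup.zpowers e = M ∧ ∀ g : G, g * e * g⁻¹ * e⁻¹ ∈ B := by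
  classical
  obtain ⟨B, ⟨hBn, hBM⟩, hBmax⟩ :=
    (Set.toFinite {B : Subgroup G | B.Normal ∧ B < M}).exists_maximal
      ⟨⊥, inferInstance, bot_lt_iff_ne_bot.2 hM⟩
  have := hBn
  obtain ⟨x, hx, hxB, hxp, hxc⟩ := exists_mem_centralMod hG hBM
  have hle : B ⊔ Subgroup.zpowers x ≤ M := sup_le hBM.le (by rwa [Subgroup.zpowers_le])
  have heq : B ⊔ Subgroup.zpowers x = M := by
    by_contra hne
    exact hxB (hBmax ⟨normal_sup_zpowers hxc, lt_of_le_of_ne hle hne⟩ le_sup_left
      (Subgroup.mem_sup_right (Subgroup.mem_zpowers x)))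
  refine ⟨B, hBn, hBM.le, ?_, x, hx, heq, hxc⟩
  have h2 : B.relIndex M = B.relIndex (Subgroup.zpowers x) := by
    rw [← heq, sup_comm, Subgroup.relIndex_sup_right]
  have hb : (⊥ : Subgroup (G ⧸ B)).comap (QuotientGroup.mk' B) = B := by
    rw [MonoidHom.comap_bot, QuotientGroup.ker_mk']
  have hc : B.relIndex (Subgroup.zpowers x) = Nat.card ((Subgroup.zpowers x).map (QuotientGroup.mk' B)) := by
    conv_lhs => rw [← hb]
    rw [Subgroup.relIndex_comap, Subgroup.relIndex_bot_left]
  rw [h2, hc, MonoidHom.map_zpowers, Nat.card_zpowers]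
  refine orderOf_eq_prime ?_ ?_
  · rw [QuotientGroup.mk'_apply, ← QuotientGroup.mk_pow, (QuotientGroup.eq_one_iff _).2 hxp]
  · rw [QuotientGroup.mk'_apply, Ne, QuotientGroup.eq_one_iff]; exact hxB

theorem index_centralizer_le (hG : IsPGroup p G) :
    ∀ (a : ℕ) (A : Subgroup G), A.Normal → IsMulCommutative A → Nat.card A = p ^ a →
      (Subgroup.centralizer (A : Set G)).index ≤ p ^ (a * (a - 1) / 2) := by
  intro a
  induction a with
  | zero =>
    intro A _ _ h
    rw [pow_zero, Subgroup.card_eq_one] at h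
    subst h
    rw [show Subgroup.centralizer ((⊥ : Subgroup G) : Set G) = ⊤ from top_le_iff.1 fun g _ => by
      rw [Subgroup.mem_centralizer_iff]; intro x hx; rw [Subgroup.coe_bot] at hx; rw [Set.mem_singleton_iff] at hx; simp [hx]]
    simp
  | succ a ih =>
    intro A hAn hA h
    have hne : A ≠ ⊥ := fun he => by
      rw [he, Subgroup.card_bot] at h
      exact (Nat.one_lt_pow (Nat.succ_ne_zero a) hp.out.one_lt).ne h
    obtain ⟨B, hBn, hBA, hidx, e, he, hsup, hec⟩ := exists_normal_relIndex_eq hG A hne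
    have hB : Nat.card B = p ^ a := by
      have := Subgroup.relIndex_mul_relIndex ⊥ B A bot_le hBA
      rw [Subgroup.relIndex_bot_left, Subgroup.relIndex_bot_left, hidx, h, pow_succ] at this
      exact Nat.eq_of_mul_eq_mul_right hp.out.pos this
    have hBc : IsMulCommutative B :=
      ⟨⟨fun x y => Subtype.ext (congrArg (fun z : A => (z : G))
        (mul_comm' (⟨x, hBA x.2⟩ : A) ⟨y, hBA y.2⟩))⟩⟩
    set CA := Subgroup.centralizer (A : Set G) with hCA
    set CB := Subgroup.centralizer (B : Set G) with hCB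
    have hle : CA ≤ CB := Subgroup.centralizer_le hBA
    let f : CB → B := fun g => ⟨g * e * (g : G)⁻¹ * e⁻¹, hec g⟩
    have hf : ∀ g₁ g₂ : CB, f g₁ = f g₂ → g₁⁻¹ * g₂ ∈ CA.subgroupOf CB := by
      intro g₁ g₂ h
      have h1 : (g₁ : G) * e * (g₁ : G)⁻¹ = g₂ * e * (g₂ : G)⁻¹ :=
        mul_right_cancel (congrArg Subtype.val h)
      have hle2 : B ⊔ Subgroup.zpowers e ≤ Subgroup.centralizer {((g₁⁻¹ * g₂ : CB) : G)} := by
        refine sup_le (fun b hb => ?_) ?_
        · rw [Subgroup.mem_centralizer_singleton_iff]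
          exact (Subgroup.mem_centralizer_iff.1 (g₁⁻¹ * g₂).2 b hb)
        · rw [Subgroup.zpowers_le, Subgroup.mem_centralizer_singleton_iff]
          push_cast
          calc e * ((g₁ : G)⁻¹ * g₂) = (g₁ : G)⁻¹ * (g₁ * e * (g₁ : G)⁻¹) * g₂ := by group
            _ = (g₁ : G)⁻¹ * g₂ * e := by rw [h1]; group
      rw [Subgroup.mem_subgroupOf, hCA, Subgroup.mem_centralizer_iff]
      intro y hy
      exact Subgroup.mem_centralizer_singleton_iff.1 (hle2 (hsup.symm ▸ hy))
    have hbound : CA.relIndex CB ≤ p ^ a := by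
      rw [← hB]
      have hinj : Function.Injective fun q : CB ⧸ CA.subgroupOf CB => f q.out := by
        intro q₁ q₂ h
        rw [← QuotientGroup.out_eq' q₁, ← QuotientGroup.out_eq' q₂, QuotientGroup.eq]
        exact hf _ _ h
      exact Nat.card_le_card_of_injective _ hinj
    rw [← Subgroup.relIndex_mul_index hle]
    have hn : (a + 1) * (a + 1 - 1) / 2 = a + a * (a - 1) / 2 := by
      rcases a with _ | b
      · simp
      · simp only [Nat.add_sub_cancel]
        rw [show (b + 1 + 1) * (b + 1) = (b + 1) * b + (b + 1) * 2 by ring,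
          Nat.add_mul_div_right _ _ (by norm_num)]
        ring
    rw [hn, pow_add]
    exact Nat.mul_le_mul hbound (ih B hBn hBc hB)

theorem card_le_of_maximal_normal_abelian (hG : IsPGroup p G) (A : Subgroup G) [A.Normal]
    (hA : IsMulCommutative A)
    (hmax : ∀ B : Subgroup G, B.Normal → IsMulCommutative B → A ≤ B → B = A) (a : ℕ)
    (ha : Nat.card A = p ^ a) : Nat.card G ≤ p ^ (a * (a + 1) / 2) := by
  rw [← Subgroup.card_mul_index A, ha]
  have h := index_centralizer_le hG a A inferInstance hA ha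
  rw [centralizer_eq_of_maximal hG A hA hmax] at h
  refine (Nat.mul_le_mul le_rfl h).trans (le_of_eq ?_)
  rw [← pow_add]
  congr 1
  rcases a with _ | b
  · simp
  · simp only [Nat.add_sub_cancel]
    rw [show (b + 1) * (b + 1 + 1) = (b + 1) * b + (b + 1) * 2 by ring,
      Nat.add_mul_div_right _ _ (by norm_num)]
    ring

theorem exists_maximal_normal_abelian :
    ∃ A : Subgroup G, A.Normal ∧ IsMulCommutative A ∧
      ∀ B : Subgroup G, B.Normal → IsMulCommutative B → A ≤ B → B = A := by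
  obtain ⟨A, ⟨hn, hA⟩, hmax⟩ :=
    (Set.toFinite {B : Subgroup G | B.Normal ∧ IsMulCommutative B}).exists_maximal
      ⟨⊥, inferInstance, inferInstance⟩
  exact ⟨A, hn, hA, fun B h1 h2 h3 => le_antisymm (hmax ⟨h1, h2⟩ h3) h3⟩

end CfsgLib.PGroupBasic
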