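import Cfsg.Prelude.Def_Transfer
import Cfsg.Agent.Lib.PLocal5.PGroupBasic
import Cfsg.Agent.Lib.PLocal5.Class3

/-! Groups of order at most `p ^ 4` have class at most three; `Ω₁` of groups of rank two for `p > 3`. -/

set_option autoImplicit false

open scoped commutatorElement

namespace CfsgLib.SmallRank

variable {R : Type*} [Group R] [Finite R] {p : ℕ} [hp : Fact p.Prime]

theorem class_three_of_card_le (hR : IsPGroup p R) (h : Nat.card R ≤ p ^ 4) :
    ⁅⁅commutator R, (⊤ : Subgroup R)⁆, (⊤ : Subgroup R)⁆ = ⊥ := by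
  by_cases hab : Subgroup.center R = ⊤
  · have h0 := (commutator_eq_bot_iff_center_eq_top R).2 hab
    rw [h0]; simp
  have hnt : (⊤ : Subgroup R) ≠ ⊥ := fun hb => hab (le_antisymm le_top (hb ▸ bot_le))
  obtain ⟨z, -, hzc, hzo⟩ := CfsgLib.PGroupBasic.exists_central_orderOf_eq hR ⊤ hnt
  obtain ⟨x, -, hxZ, -, hxc⟩ := CfsgLib.PGroupBasic.exists_mem_centralMod (A := Subgroup.center R)
    (M := ⊤) hR (lt_top_iff_ne_top.2 hab)
  set Z2 := Subgroup.upperCentralSeries R 2 with hZ2
  have hx2 : x ∈ Z2 := by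
    rw [hZ2, Subgroup.mem_upperCentralSeries_succ_iff]
    intro g
    rw [Subgroup.upperCentralSeries_one, ← commutatorElement_inv]
    exact Subgroup.inv_mem _ (by rw [commutatorElement_def]; exact hxc g)
  have h12 : Subgroup.center R ≤ Z2 :=
    Subgroup.upperCentralSeries_one R ▸ Subgroup.upperCentralSeries_mono R (by norm_num)
  obtain ⟨k, hk⟩ := IsPGroup.iff_card.1 (hR.to_subgroup Z2)
  obtain ⟨n, hn⟩ := IsPGroup.iff_card.1 hR
  obtain ⟨l, hl⟩ := IsPGroup.iff_card.1 (hR.to_subgroup (Subgroup.center R))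
  have hl1 : 1 ≤ l := by
    by_contra hc
    have hb : Subgroup.center R = ⊥ := Subgroup.card_eq_one.1 (by rw [hl, show l = 0 by omega, pow_zero])
    rw [hb, Subgroup.mem_bot] at hzc
    rw [hzc, orderOf_one] at hzo
    exact hp.out.ne_one hzo.symm
  have hk2 : 2 ≤ k := by
    have hlt : Subgroup.center R < Z2 := lt_of_le_of_ne h12 (fun he => hxZ (he ▸ hx2))
    have hc : Nat.card (Subgroup.center R) < Nat.card Z2 :=
      lt_of_le_of_ne (Subgroup.card_le_of_le hlt.le) fun he =>
        hlt.ne (Subgroup.eq_of_le_of_card_ge hlt.le he.ge)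
    rw [hl, hk] at hc
    have := (Nat.pow_lt_pow_iff_right hp.out.one_lt).1 hc
    omega
  have hn4 : n ≤ 4 := (Nat.pow_le_pow_iff_right hp.out.one_lt).1 (hn ▸ h)
  have hq : Nat.card (R ⧸ Z2) * p ^ k = p ^ n := by
    rw [← hn, ← hk, ← Subgroup.card_eq_card_quotient_mul_card_subgroup]
  obtain ⟨j, hj⟩ := IsPGroup.iff_card.1 (hR.to_quotient Z2)
  have hj2 : j ≤ 2 := by
    rw [hj, ← pow_add] at hq
    have := Nat.pow_right_injective hp.out.two_le hq
    omega
  have hcomm : IsMulCommutative (R ⧸ Z2) := by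
    rcases (show j = 0 ∨ j = 1 ∨ j = 2 by omega) with rfl | rfl | rfl
    · have : Subsingleton (R ⧸ Z2) := (Nat.card_eq_one_iff_unique.1 (by rw [hj, pow_zero])).1
      exact ⟨⟨fun a b => Subsingleton.elim _ _⟩⟩
    · have := isCyclic_of_prime_card (p := p) (by rw [hj, pow_one] : Nat.card (R ⧸ Z2) = p)
      exact inferInstance
    · exact IsPGroup.isMulCommutative_of_card_eq_prime_sq hj
  have hd : commutator R ≤ Z2 := by
    rw [commutator_def, Subgroup.commutator_le]
    intro a _ b _
    rw [← QuotientGroup.eq_one_iff, ← QuotientGroup.mk'_apply, map_commutatorElement,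
      commutatorElement_eq_one_iff_mul_comm]
    exact mul_comm' _ _
  refine le_bot_iff.1 (le_trans (Subgroup.commutator_mono (Subgroup.commutator_mono hd le_rfl)
    le_rfl) ?_)
  refine (Subgroup.commutator_mono (Subgroup.commutator_upperCentralSeries_top_le R 1) le_rfl).trans ?_
  exact (Subgroup.commutator_upperCentralSeries_top_le R 0).trans (by simp)

/-- A group of exponent `p` in which elementary abelian subgroups have order at most `p ^ 2` has order at
most `p ^ 3`. -/
theorem card_le_of_exponent_rank_two (hexp : ∀ x : R, x ^ p = 1)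
    (hrk : ∀ E : Subgroup R, Cfsg.IsElementaryAbelian p E → Nat.card E ≤ p ^ 2) :
    Nat.card R ≤ p ^ 3 := by
  have hR : IsPGroup p R := fun g => ⟨1, by rw [pow_one]; exact hexp g⟩
  obtain ⟨A, hn, hA, hmax⟩ := CfsgLib.PGroupBasic.exists_maximal_normal_abelian (G := R)
  obtain ⟨a, ha⟩ := IsPGroup.iff_card.1 (hR.to_subgroup A)
  have h2 : a ≤ 2 := (Nat.pow_le_pow_iff_right hp.out.one_lt).1
    (ha ▸ hrk A ⟨hA, fun x _ => hexp x⟩)
  refine (CfsgLib.PGroupBasic.card_le_of_maximal_normal_abelian hR A hA hmax a ha).trans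
    (Nat.pow_le_pow_right hp.out.pos ?_)
  interval_cases a <;> norm_num

universe u

/-- For `p > 3`, in a `p`-group of rank at most two the elements of order dividing `p` are closed under products. -/
theorem mul_pow_eq_one_rank_two (hp3 : 3 < p) : ∀ (n : ℕ) (R : Type u) [Group R] [Finite R],
    Nat.card R = n → IsPGroup p R →
    (∀ E : Subgroup R, Cfsg.IsElementaryAbelian p E → Nat.card E ≤ p ^ 2) →
    ∀ x y : R, x ^ p = 1 → y ^ p = 1 → (x * y) ^ p = 1 := by
  intro n
  induction n using Nat.strong_induction_on with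
  | _ n ih =>
  intro R _ _ hn hR hrk x y hx hy
  have hsub : ∀ T : Subgroup R, T ≠ ⊤ → ∀ a b : R, a ∈ T → b ∈ T → a ^ p = 1 → b ^ p = 1 →
      (a * b) ^ p = 1 := by
    intro T hT a b ha hb hap hbp
    have hlt : Nat.card T < n := by
      rw [← hn]
      exact lt_of_le_of_ne (Subgroup.card_le_card_group T)
        (fun he => hT (Subgroup.card_eq_iff_eq_top T |>.1 he))
    have := ih _ hlt T rfl (hR.to_subgroup T) (fun E hE => ?_) ⟨a, ha⟩ ⟨b, hb⟩
      (Subtype.ext hap) (Subtype.ext hbp)
    · exact congrArg Subtype.val this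
    · rw [← Subgroup.card_map_of_injective T.subtype_injective]
      have := hE.1
      refine hrk _ ⟨Subgroup.map_isMulCommutative _ _, ?_⟩
      rintro _ ⟨e, he, rfl⟩
      rw [← map_pow, hE.2 e he, map_one]
  by_cases hT : Subgroup.closure ({x, y} : Set R) = ⊤
  swap
  · exact hsub _ hT x y (Subgroup.subset_closure (by simp)) (Subgroup.subset_closure (by simp)) hx hy
  by_cases hxy : x * y = y * x
  · rw [Commute.mul_pow hxy, hx, hy, one_mul]
  have hxtop : Subgroup.zpowers x ≠ ⊤ := by
    intro he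
    obtain ⟨i, rfl⟩ := Subgroup.mem_zpowers_iff.1 (he ▸ Subgroup.mem_top y)
    exact hxy ((Commute.zpow_right (Commute.refl x) i).eq)
  obtain ⟨M, hM, hxM⟩ := (eq_top_or_exists_le_coatom (Subgroup.zpowers x)).resolve_left hxtop
  have : Group.IsNilpotent R := hR.isNilpotent
  have hMn : M.Normal := Subgroup.NormalizerCondition.normal_of_coatom M Group.normalizerCondition_of_isNilpotent hM
  set S : Set R := {m | m ∈ M ∧ m ^ p = 1} with hS
  set W := Subgroup.closure S with hW
  have hWM : W ≤ M := (Subgroup.closure_le M).2 fun m hm => hm.1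
  have hWe : ∀ w ∈ W, w ^ p = 1 := by
    intro w hw
    induction hw using Subgroup.closure_induction with
    | mem a ha => exact ha.2
    | one => exact one_pow p
    | mul a b ha hb h1 h2 => exact hsub M hM.1 a b (hWM ha) (hWM hb) h1 h2
    | inv a _ h1 => rw [inv_pow, h1, inv_one]
  have hWn : W.Normal := ⟨fun w hw g => Subgroup.subset_closure
    ⟨hMn.conj_mem w (hWM hw) g, by rw [conj_pow, hWe w hw, mul_one, mul_inv_cancel]⟩⟩
  have hW3 : Nat.card W ≤ p ^ 3 := by
    refine card_le_of_exponent_rank_two (fun w => Subtype.ext (hWe w w.2)) (fun E hE => ?_)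
    rw [← Subgroup.card_map_of_injective W.subtype_injective]
    have := hE.1
    refine hrk _ ⟨Subgroup.map_isMulCommutative _ _, ?_⟩
    rintro _ ⟨e, he, rfl⟩
    rw [← map_pow, hE.2 e he, map_one]
  have htop : W ⊔ Subgroup.zpowers y = ⊤ := by
    rw [eq_top_iff, ← hT, Subgroup.closure_le]
    rintro a (rfl | rfl)
    · exact Subgroup.mem_sup_left (Subgroup.subset_closure ⟨hxM (Subgroup.mem_zpowers _), hx⟩)
    · exact Subgroup.mem_sup_right (Subgroup.mem_zpowers _)
  have hcard : Nat.card R ≤ p ^ 4 := by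
    rw [← Subgroup.card_mul_index W, ← Subgroup.relIndex_top_right, ← htop, sup_comm,
      Subgroup.relIndex_sup_right, pow_succ]
    refine Nat.mul_le_mul hW3 (le_trans (Nat.le_of_dvd ?_ (Subgroup.relIndex_dvd_card _ _)) ?_)
    · exact Nat.card_pos
    · rw [Nat.card_zpowers]
      exact Nat.le_of_dvd hp.out.pos (orderOf_dvd_of_pow_eq_one hy)
  exact CfsgLib.Class3.mul_pow_eq_one hp.out (Or.inr ⟨hp3, class_three_of_card_le hR hcard⟩) hx hy

end CfsgLib.SmallRank
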