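import Cfsg.Prelude.Def_PLocal
import Cfsg.Agent.Lib.PCore.Basic

/-! Commutator maps on an abelian normalized subgroup, quadratic action, series stabilizers. -/

set_option autoImplicit false

open scoped commutatorElement

namespace CfsgLib.Quadratic

variable {G : Type*} [Group G] {p : ℕ}

theorem mem_centralizer_zpowers {a x : G} :
    x ∈ Subgroup.centralizer (Subgroup.zpowers a : Set G) ↔ a * x = x * a := by
  rw [Subgroup.mem_centralizer_iff]
  constructor
  · exact fun h => h a (Subgroup.mem_zpowers a)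
  · intro h y hy
    obtain ⟨i, rfl⟩ := Subgroup.mem_zpowers_iff.1 hy
    exact (Commute.zpow_left h i).eq

theorem elemAb_comm {V : Subgroup G} (hV : Cfsg.IsElementaryAbelian p V) {a b : G} (ha : a ∈ V)
    (hb : b ∈ V) : a * b = b * a :=
  congrArg Subtype.val (hV.1.is_comm.comm (⟨a, ha⟩ : V) ⟨b, hb⟩)

theorem isPGroup_of_elemAb {V : Subgroup G} (hV : Cfsg.IsElementaryAbelian p V) : IsPGroup p V :=
  fun v => ⟨1, Subtype.ext (by rw [pow_one]; exact hV.2 _ v.2)⟩

theorem commutator_mem {V : Subgroup G} {v a : G} (hv : v ∈ V)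
    (ha : a ∈ Subgroup.normalizer (V : Set G)) : ⁅v, a⁆ ∈ V := by
  have h1 : a * v⁻¹ * a⁻¹ ∈ V := (Subgroup.mem_normalizer_iff.1 ha v⁻¹).1 (V.inv_mem hv)
  have h2 : ⁅v, a⁆ = v * (a * v⁻¹ * a⁻¹) := by rw [commutatorElement_def]; group
  rw [h2]; exact V.mul_mem hv h1

theorem commutator_le_self {V A : Subgroup G} (hA : A ≤ Subgroup.normalizer (V : Set G)) :
    ⁅V, A⁆ ≤ V :=
  Subgroup.commutator_le.2 fun _ hv _ ha => commutator_mem hv (hA ha)

theorem conj_eq_comm_mul (v a : G) : a * v * a⁻¹ = ⁅v, a⁆⁻¹ * v := by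
  rw [commutatorElement_def]; group

theorem commutator_mul_left {V : Subgroup G} (hV : Cfsg.IsElementaryAbelian p V) {v w a : G}
    (hv : v ∈ V) (hw : w ∈ V) (ha : a ∈ Subgroup.normalizer (V : Set G)) :
    ⁅v * w, a⁆ = ⁅v, a⁆ * ⁅w, a⁆ := by
  have h1 : ⁅v * w, a⁆ = v * ⁅w, a⁆ * v⁻¹ * ⁅v, a⁆ := by simp [commutatorElement_def, mul_assoc]
  rw [h1, elemAb_comm hV hv (commutator_mem hw ha), mul_inv_cancel_right,
    elemAb_comm hV (commutator_mem hw ha) (commutator_mem hv ha)]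

theorem mem_centralizer_of_commutator_eq_bot {U A : Subgroup G} (h : ⁅U, A⁆ = ⊥) {a : G}
    (ha : a ∈ A) : a ∈ Subgroup.centralizer (U : Set G) := by
  have h' := h
  rw [Subgroup.commutator_comm, Subgroup.commutator_eq_bot_iff_le_centralizer] at h'
  exact h' ha

theorem pow_conj {v a : G} (hc : a * ⁅v, a⁆ = ⁅v, a⁆ * a) (n : ℕ) :
    a ^ n * v * (a ^ n)⁻¹ = (⁅v, a⁆⁻¹) ^ n * v := by
  induction n with
  | zero => simp
  | succ n ih =>
    have hcom : Commute a ((⁅v, a⁆⁻¹) ^ n) := ((show Commute a ⁅v, a⁆ from hc).inv_right).pow_right n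
    calc a ^ (n + 1) * v * (a ^ (n + 1))⁻¹ = a * (a ^ n * v * (a ^ n)⁻¹) * a⁻¹ := by
          rw [pow_succ']; group
      _ = (⁅v, a⁆⁻¹) ^ n * (a * v * a⁻¹) := by rw [ih, ← mul_assoc, hcom.eq]; simp [mul_assoc]
      _ = _ := by rw [conj_eq_comm_mul, pow_succ, mul_assoc]

/-- An element acting quadratically on an elementary abelian `p`-group acts with order dividing `p`. -/
theorem pow_mem_centralizer {V : Subgroup G} (hV : Cfsg.IsElementaryAbelian p V) {a : G}
    (ha : a ∈ Subgroup.normalizer (V : Set G)) (hq : ∀ v ∈ V, a * ⁅v, a⁆ = ⁅v, a⁆ * a) :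
    a ^ p ∈ Subgroup.centralizer (V : Set G) := by
  rw [Subgroup.mem_centralizer_iff]
  intro v hv
  have h := pow_conj (hq v hv) p
  rw [inv_pow, hV.2 _ (commutator_mem hv ha), inv_one, one_mul] at h
  exact (mul_inv_eq_iff_eq_mul.1 h).symm

theorem quadratic_commute {V A : Subgroup G} (hq : ⁅⁅V, A⁆, A⁆ = ⊥) {v a b : G}
    (hv : v ∈ V) (ha : a ∈ A) (hb : b ∈ A) : b * ⁅v, a⁆ = ⁅v, a⁆ * b :=
  ((Subgroup.mem_centralizer_iff.1 (mem_centralizer_of_commutator_eq_bot hq hb)) _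
    (Subgroup.commutator_mem_commutator hv ha)).symm

/-- Two elements fixing each other's commutators commute on `V`. -/
theorem commutator_mem_centralizer {V : Subgroup G} (hV : Cfsg.IsElementaryAbelian p V) {a b : G}
    (ha : a ∈ Subgroup.normalizer (V : Set G)) (hb : b ∈ Subgroup.normalizer (V : Set G))
    (h1 : ∀ v ∈ V, a * ⁅v, b⁆ = ⁅v, b⁆ * a) (h2 : ∀ v ∈ V, b * ⁅v, a⁆ = ⁅v, a⁆ * b) :
    ⁅a, b⁆ ∈ Subgroup.centralizer (V : Set G) := by
  have e : ∀ {x y : G}, x ∈ Subgroup.normalizer (V : Set G) → y ∈ Subgroup.normalizer (V : Set G) →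
      (∀ v ∈ V, x * ⁅v, y⁆ = ⁅v, y⁆ * x) → ∀ v ∈ V,
      (x * y) * v * (x * y)⁻¹ = ⁅v, y⁆⁻¹ * ⁅v, x⁆⁻¹ * v := by
    intro x y hx hy hxy v hv
    have hc : Commute x ⁅v, y⁆⁻¹ := (show Commute x ⁅v, y⁆ from hxy v hv).inv_right
    calc (x * y) * v * (x * y)⁻¹ = x * (y * v * y⁻¹) * x⁻¹ := by group
      _ = ⁅v, y⁆⁻¹ * (x * v * x⁻¹) := by rw [conj_eq_comm_mul v y, ← mul_assoc, hc.eq]; simp [mul_assoc]
      _ = _ := by rw [conj_eq_comm_mul v x, mul_assoc]
  rw [Subgroup.mem_centralizer_iff]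
  intro v hv
  have hab := e ha hb h1 v hv
  have hba := e hb ha h2 v hv
  rw [elemAb_comm hV (V.inv_mem (commutator_mem hv ha)) (V.inv_mem (commutator_mem hv hb))] at hba
  have h3 : a * b * v * (a * b)⁻¹ = b * a * v * (b * a)⁻¹ := hab.trans hba.symm
  have hnn : (b * a)⁻¹ ∈ Subgroup.normalizer (V : Set G) :=
    Subgroup.inv_mem _ (Subgroup.mul_mem _ hb ha)
  -- evaluate `h3` at the preimage of `v`
  set w := (b * a)⁻¹ * v * (b * a) with hw
  have hwV : w ∈ V := by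
    have := (Subgroup.mem_normalizer_iff.1 hnn v).1 hv
    rwa [inv_inv] at this
  have hab' := e ha hb h1 w hwV
  have hba' := e hb ha h2 w hwV
  rw [elemAb_comm hV (V.inv_mem (commutator_mem hwV ha)) (V.inv_mem (commutator_mem hwV hb))] at hba'
  have h4 : a * b * w * (a * b)⁻¹ = v := by
    rw [hab', ← hba', hw]; group
  calc v * ⁅a, b⁆ = (a * b * w * (a * b)⁻¹) * ⁅a, b⁆ := by rw [h4]
    _ = ⁅a, b⁆ * v := by rw [hw, commutatorElement_def]; group

/-- The homomorphism `v ↦ [v, a]` of `V`. -/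
def commHom (V : Subgroup G) (hV : Cfsg.IsElementaryAbelian p V) (a : G)
    (ha : a ∈ Subgroup.normalizer (V : Set G)) : V →* V where
  toFun v := ⟨⁅(v : G), a⁆, commutator_mem v.2 ha⟩
  map_one' := Subtype.ext (commutatorElement_one_left a)
  map_mul' v w := Subtype.ext (commutator_mul_left hV v.2 w.2 ha)

theorem card_le_sq_card_centralizer [Finite G] {V : Subgroup G} (hV : Cfsg.IsElementaryAbelian p V)
    {a : G} (ha : a ∈ Subgroup.normalizer (V : Set G))
    (hq : ∀ v ∈ V, a * ⁅v, a⁆ = ⁅v, a⁆ * a) :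
    Nat.card V ≤ Nat.card ↥(V ⊓ Subgroup.centralizer (Subgroup.zpowers a : Set G)) ^ 2 := by
  set C := V ⊓ Subgroup.centralizer (Subgroup.zpowers a : Set G) with hC
  set f := commHom V hV a ha
  rw [← Subgroup.card_mul_index f.ker, Subgroup.index_ker, sq]
  refine Nat.mul_le_mul ?_ ?_
  · refine Nat.le_of_eq ?_
    rw [← Subgroup.card_map_of_injective V.subtype_injective]
    congr 2
    ext x
    constructor
    · rintro ⟨v, hv, rfl⟩
      have h1 : ⁅(v : G), a⁆ = 1 := congrArg Subtype.val hv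
      exact ⟨v.2, mem_centralizer_zpowers.2 (commutatorElement_eq_one_iff_mul_comm.1 h1).symm⟩
    · rintro ⟨hx, hxc⟩
      exact ⟨⟨x, hx⟩, Subtype.ext
        (commutatorElement_eq_one_iff_mul_comm.2 (mem_centralizer_zpowers.1 hxc).symm), rfl⟩
  · rw [← Subgroup.card_map_of_injective V.subtype_injective]
    refine Subgroup.card_le_of_le ?_
    rintro _ ⟨_, ⟨v, rfl⟩, rfl⟩
    exact ⟨commutator_mem v.2 ha, mem_centralizer_zpowers.2 (hq v v.2)⟩

/-- A subgroup meeting `C(V)` trivially and stabilising a series `1 ≤ U ≤ V` is a `p`-group. -/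
theorem isPGroup_of_stabilizes {V U D : Subgroup G} (hV : Cfsg.IsElementaryAbelian p V)
    (hD : D ≤ Subgroup.normalizer (V : Set G)) (hVU : ⁅V, D⁆ ≤ U) (hUD : ⁅U, D⁆ = ⊥)
    (hf : D ⊓ Subgroup.centralizer (V : Set G) = ⊥) : IsPGroup p D := by
  intro d
  refine ⟨1, Subtype.ext ?_⟩
  rw [pow_one]
  have h : (d : G) ^ p ∈ D ⊓ Subgroup.centralizer (V : Set G) := by
    refine ⟨D.pow_mem d.2 p, pow_mem_centralizer hV (hD d.2) fun v hv => ?_⟩
    exact ((Subgroup.mem_centralizer_iff.1 (mem_centralizer_of_commutator_eq_bot hUD d.2)) _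
      (hVU (Subgroup.commutator_mem_commutator hv d.2))).symm
  rw [hf, Subgroup.mem_bot] at h
  simpa using h

theorem conj_mem_centralizer {U : Subgroup G} {g e : G} (hg : g ∈ Subgroup.normalizer (U : Set G))
    (he : e ∈ Subgroup.centralizer (U : Set G)) : g * e * g⁻¹ ∈ Subgroup.centralizer (U : Set G) := by
  rw [Subgroup.mem_centralizer_iff] at he ⊢
  intro u hu
  have h1 : g⁻¹ * u * g ∈ U := by
    rw [Subgroup.mem_normalizer_iff.1 hg]; simpa [mul_assoc] using hu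
  calc u * (g * e * g⁻¹) = g * ((g⁻¹ * u * g) * e) * g⁻¹ := by group
    _ = g * e * g⁻¹ * u := by rw [he _ h1]; group

theorem le_normalizer_of_commutator_le {U E : Subgroup G} (h : ⁅U, E⁆ ≤ U) :
    E ≤ Subgroup.normalizer (U : Set G) :=
  Subgroup.le_normalizer_iff_commutator_le_left.2 h

end CfsgLib.Quadratic
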