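import Cfsg.Prelude.Def_PLocal
import Cfsg.Agent.Lib.PLocal5.Quadratic
import Cfsg.Agent.Lib.Coprime.Basic
import Mathlib.GroupTheory.SemidirectProduct
import Mathlib.GroupTheory.Nilpotent

/-! Thompson replacement for abelian actions on elementary abelian groups, and best offenders. -/

set_option autoImplicit false

open scoped commutatorElement

namespace CfsgLib.Offender

variable {G : Type*} [Group G] {p : ℕ}

/-- `|B| · |C_V(B)|`. -/
noncomputable def measure (V B : Subgroup G) : ℕ :=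
  Nat.card B * Nat.card ↥(V ⊓ Subgroup.centralizer (B : Set G))

theorem measure_def (V B : Subgroup G) :
    measure V B = Nat.card B * Nat.card ↥(V ⊓ Subgroup.centralizer (B : Set G)) := rfl

/-- `{ [u, a] | a ∈ A }` generates this subgroup. -/
def moveOf (u : G) (A : Subgroup G) : Subgroup G := Subgroup.closure ((fun a => ⁅u, a⁆) '' (A : Set G))

theorem iSup_moveOf (U A : Subgroup G) : ⨆ u : U, moveOf (u : G) A = ⁅U, A⁆ := by
  refine le_antisymm (iSup_le fun u => (Subgroup.closure_le _).2 ?_) ?_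
  · rintro _ ⟨a, ha, rfl⟩
    exact Subgroup.commutator_mem_commutator u.2 ha
  · rw [Subgroup.commutator_le]
    intro u hu a ha
    exact (le_iSup (fun u : U => moveOf (u : G) A) ⟨u, hu⟩) (Subgroup.subset_closure ⟨a, ha, rfl⟩)

theorem moveOf_le {V A : Subgroup G} (hAV : A ≤ Subgroup.normalizer (V : Set G)) {u : G} (hu : u ∈ V) :
    moveOf u A ≤ V := by
  rw [moveOf, Subgroup.closure_le]
  rintro _ ⟨a, ha, rfl⟩
  exact CfsgLib.Quadratic.commutator_mem hu (hAV ha)

theorem card_sup_mul_card_inf_of_le {V X Y : Subgroup G} (hV : Cfsg.IsElementaryAbelian p V)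
    (hX : X ≤ V) (hY : Y ≤ V) :
    Nat.card ↥(X ⊔ Y) * Nat.card ↥(Y ⊓ X) = Nat.card X * Nat.card Y := by
  refine CfsgLib.Coprime.card_sup_mul_card_inf fun x hx => ?_
  refine Subgroup.centralizer_le_normalizer _ (Subgroup.mem_centralizer_iff.2 fun y hy => ?_)
  exact CfsgLib.Quadratic.elemAb_comm hV (hY hy) (hX hx)

theorem card_mul_card_le [Finite G] {S T R : Subgroup G} (hS : S ≤ R) (hT : T ≤ R) :
    Nat.card S * Nat.card T ≤ Nat.card R * Nat.card ↥(S ⊓ T) := by
  have h1 := Subgroup.relIndex_mul_relIndex (⊥ : Subgroup G) (S ⊓ T) S bot_le inf_le_left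
  rw [Subgroup.relIndex_bot_left, Subgroup.relIndex_bot_left, Subgroup.inf_relIndex_left] at h1
  have h2 := Subgroup.relIndex_mul_relIndex (⊥ : Subgroup G) T R bot_le hT
  rw [Subgroup.relIndex_bot_left, Subgroup.relIndex_bot_left] at h2
  have h3 : T.relIndex S ≤ T.relIndex R :=
    Subgroup.relIndex_le_of_le_right hS (fun h => by
      rw [h, mul_zero] at h2
      exact (Nat.card_pos (α := R)).ne h2)
  rw [← h1, ← h2]
  calc Nat.card ↥(S ⊓ T) * T.relIndex S * Nat.card T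
      ≤ Nat.card ↥(S ⊓ T) * T.relIndex R * Nat.card T :=
        Nat.mul_le_mul_right _ (Nat.mul_le_mul_left _ h3)
    _ = Nat.card T * T.relIndex R * Nat.card ↥(S ⊓ T) := by ring

/-- The state `X` of the replacement: `C_A(X)` has maximal measure and fixes exactly `X C_V(A)`. -/
def Replaced (V A X : Subgroup G) : Prop :=
  X ≤ V ∧ measure V (A ⊓ Subgroup.centralizer (X : Set G)) = measure V A ∧
    V ⊓ Subgroup.centralizer ((A ⊓ Subgroup.centralizer (X : Set G) : Subgroup G) : Set G) =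
      X ⊔ (V ⊓ Subgroup.centralizer (A : Set G))

theorem fixed_antitone {V A B : Subgroup G} (h : B ≤ A) :
    V ⊓ Subgroup.centralizer (A : Set G) ≤ V ⊓ Subgroup.centralizer (B : Set G) :=
  inf_le_inf_left _ (Subgroup.centralizer_le h)

theorem le_fixed_centralizer (V A : Subgroup G) {X : Subgroup G} (hX : X ≤ V) :
    X ⊔ (V ⊓ Subgroup.centralizer (A : Set G)) ≤
      V ⊓ Subgroup.centralizer ((A ⊓ Subgroup.centralizer (X : Set G) : Subgroup G) : Set G) := by
  refine sup_le (le_inf hX ?_) (fixed_antitone inf_le_left)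
  intro x hx
  rw [Subgroup.mem_centralizer_iff]
  intro b hb
  exact ((Subgroup.mem_centralizer_iff.1 hb.2) x hx).symm

theorem fixed_sup (V B C : Subgroup G) :
    V ⊓ Subgroup.centralizer ((B ⊔ C : Subgroup G) : Set G) =
      (V ⊓ Subgroup.centralizer (B : Set G)) ⊓ (V ⊓ Subgroup.centralizer (C : Set G)) := by
  refine le_antisymm (le_inf (fixed_antitone le_sup_left) (fixed_antitone le_sup_right)) ?_
  rintro x ⟨⟨hxV, hxB⟩, -, hxC⟩
  refine ⟨hxV, ?_⟩
  have h : B ⊔ C ≤ Subgroup.centralizer {x} := sup_le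
    (fun b hb => Subgroup.mem_centralizer_singleton_iff.2 ((Subgroup.mem_centralizer_iff.1 hxB) b hb))
    (fun c hc => Subgroup.mem_centralizer_singleton_iff.2 ((Subgroup.mem_centralizer_iff.1 hxC) c hc))
  apply Subgroup.mem_centralizer_iff.2
  exact fun y hy => Subgroup.mem_centralizer_singleton_iff.1 (h hy)

theorem replaced_bot [Finite G] (V A : Subgroup G) : Replaced V A ⊥ := by
  have h : A ⊓ Subgroup.centralizer ((⊥ : Subgroup G) : Set G) = A := by
    rw [inf_eq_left]; intro a _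
    rw [Subgroup.mem_centralizer_iff]
    intro x hx
    rw [Subgroup.coe_bot, Set.mem_singleton_iff] at hx
    simp [hx]
  exact ⟨bot_le, by rw [h], by rw [h, bot_sup_eq]⟩

theorem replaced_sup [Finite G] {V A : Subgroup G} (hV : Cfsg.IsElementaryAbelian p V)
    (hbest : ∀ B : Subgroup G, B ≤ A → measure V B ≤ measure V A) {X Y : Subgroup G}
    (hX : Replaced V A X) (hY : Replaced V A Y) : Replaced V A (X ⊔ Y) := by
  obtain ⟨hXV, hXm, hXf⟩ := hX
  obtain ⟨hYV, hYm, hYf⟩ := hY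
  set B₁ := A ⊓ Subgroup.centralizer (X : Set G) with hB₁
  set B₂ := A ⊓ Subgroup.centralizer (Y : Set G) with hB₂
  have hB : A ⊓ Subgroup.centralizer ((X ⊔ Y : Subgroup G) : Set G) = B₁ ⊓ B₂ := by
    refine le_antisymm (le_inf (inf_le_inf_left _ (Subgroup.centralizer_le
      (le_sup_left : X ≤ X ⊔ Y))) (inf_le_inf_left _ (Subgroup.centralizer_le
      (le_sup_right : Y ≤ X ⊔ Y)))) ?_
    rintro b ⟨⟨hbA, hb1⟩, -, hb2⟩
    refine ⟨hbA, ?_⟩
    have h : X ⊔ Y ≤ Subgroup.centralizer {b} := sup_le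
      (fun x hx => Subgroup.mem_centralizer_singleton_iff.2 ((Subgroup.mem_centralizer_iff.1 hb1) x hx))
      (fun x hx => Subgroup.mem_centralizer_singleton_iff.2 ((Subgroup.mem_centralizer_iff.1 hb2) x hx))
    apply Subgroup.mem_centralizer_iff.2
    exact fun y hy => Subgroup.mem_centralizer_singleton_iff.1 (h hy)
  refine ⟨sup_le hXV hYV, ?_⟩
  rw [hB]
  set C₁ := V ⊓ Subgroup.centralizer (B₁ : Set G) with hC₁
  set C₂ := V ⊓ Subgroup.centralizer (B₂ : Set G) with hC₂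
  set C₁₂ := V ⊓ Subgroup.centralizer ((B₁ ⊓ B₂ : Subgroup G) : Set G) with hC₁₂
  have hle : C₁ ⊔ C₂ ≤ C₁₂ := sup_le (fixed_antitone inf_le_left) (fixed_antitone inf_le_right)
  have hm1 := hbest (B₁ ⊔ B₂) (sup_le inf_le_left inf_le_left)
  have hm2 := hbest (B₁ ⊓ B₂) (inf_le_left.trans inf_le_left)
  rw [measure_def V (B₁ ⊔ B₂), fixed_sup, ← hC₁, ← hC₂] at hm1
  rw [measure_def V (B₁ ⊓ B₂), ← hC₁₂] at hm2
  rw [measure_def V B₁, ← hC₁] at hXm
  rw [measure_def V B₂, ← hC₂] at hYm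
  have e1 := card_mul_card_le (le_sup_left : B₁ ≤ B₁ ⊔ B₂) (le_sup_right : B₂ ≤ B₁ ⊔ B₂)
  have e2 := card_sup_mul_card_inf_of_le hV (inf_le_left : C₁ ≤ V) (inf_le_left : C₂ ≤ V)
  rw [inf_comm C₂ C₁] at e2
  have e3 : Nat.card ↥(C₁ ⊔ C₂) ≤ Nat.card C₁₂ := Subgroup.card_le_of_le hle
  set m := measure V A with hm
  set t := Nat.card ↥(B₁ ⊔ B₂)
  set b := Nat.card ↥(B₁ ⊓ B₂)
  set c := Nat.card ↥(C₁ ⊓ C₂)
  set d := Nat.card C₁₂
  set d' := Nat.card ↥(C₁ ⊔ C₂)
  have hpos : 0 < m := Nat.mul_pos Nat.card_pos Nat.card_pos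
  have hbpos : 0 < b := Nat.card_pos
  have key : m * m ≤ (t * c) * (b * d') := by
    calc m * m = (Nat.card B₁ * Nat.card B₂) * (Nat.card C₁ * Nat.card C₂) := by
          conv_lhs => arg 1; rw [← hXm]
          conv_lhs => arg 2; rw [← hYm]
          ring
      _ ≤ (t * b) * (Nat.card C₁ * Nat.card C₂) := Nat.mul_le_mul_right _ e1
      _ = (t * c) * (b * d') := by rw [← e2]; ring
  have h2' : b * d' ≤ m := (Nat.mul_le_mul_left b e3).trans hm2
  have h3 : m ≤ b * d' := by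
    by_contra hlt
    have := Nat.mul_le_mul hm1 (Nat.le_refl (b * d'))
    have : m * (b * d') < m * m := Nat.mul_lt_mul_of_pos_left (not_le.1 hlt) hpos
    omega
  have hbd : b * d = m := le_antisymm hm2 (h3.trans (Nat.mul_le_mul_left b e3))
  have hdd : d ≤ d' := Nat.le_of_mul_le_mul_left (hbd.le.trans h3) hbpos
  refine ⟨by rw [measure_def, ← hC₁₂]; exact hbd, ?_⟩
  rw [← Subgroup.eq_of_le_of_card_ge hle hdd, hXf, hYf, sup_sup_sup_comm, sup_idem]

theorem replaced_moveOf [Finite G] {V A : Subgroup G} (hV : Cfsg.IsElementaryAbelian p V)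
    (hAV : A ≤ Subgroup.normalizer (V : Set G)) (hab : ⁅A, A⁆ ≤ Subgroup.centralizer (V : Set G))
    (hbest : ∀ B : Subgroup G, B ≤ A → measure V B ≤ measure V A) {u : G} (hu : u ∈ V) :
    Replaced V A (moveOf u A) := by
  set X := moveOf u A with hXdef
  have hXV : X ≤ V := moveOf_le hAV hu
  set B := A ⊓ Subgroup.centralizer (X : Set G) with hB
  set C := V ⊓ Subgroup.centralizer (A : Set G) with hC
  have hCfix : ∀ c ∈ C, ∀ a ∈ A, a * c = c * a := fun c hc a ha =>
    Subgroup.mem_centralizer_iff.1 hc.2 a ha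
  have hstep : ∀ a ∈ A, ∀ b ∈ A, (⁅u, a⁆)⁻¹ * ⁅u, b⁆ ∈ C → a⁻¹ * b ∈ B := by
    intro a ha b hb h
    set c := a⁻¹ * b with hc
    have hcA : c ∈ A := A.mul_mem (A.inv_mem ha) hb
    have hbc : ⁅u, b⁆ = ⁅u, a⁆ * (a * ⁅u, c⁆ * a⁻¹) := by
      rw [hc]; simp [commutatorElement_def, mul_assoc]
    rw [hbc, inv_mul_cancel_left] at h
    have huc : ⁅u, c⁆ ∈ C := by
      have h1 := hCfix _ h a ha
      have : ⁅u, c⁆ = a * ⁅u, c⁆ * a⁻¹ := by
        have h2 : a * ⁅u, c⁆ * a⁻¹ = a⁻¹ * (a * (a * ⁅u, c⁆ * a⁻¹)) := by group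
        rw [h1] at h2
        calc ⁅u, c⁆ = a⁻¹ * (a * ⁅u, c⁆ * a⁻¹ * a) := by group
          _ = _ := h2.symm
      rwa [this]
    refine ⟨hcA, ?_⟩
    rw [hXdef, moveOf, Subgroup.centralizer_closure]
    apply Subgroup.mem_centralizer_iff.2
    rintro _ ⟨d, hd, rfl⟩
    -- `u` has the same image under `c d` and `d c`
    have hk : ⁅u, c * d⁆ = ⁅u, d * c⁆ := by
      have hw : (d * c)⁻¹ * (c * d) ∈ Subgroup.centralizer (V : Set G) := hab (by
        have := Subgroup.commutator_mem_commutator (A.inv_mem hcA) (A.inv_mem hd)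
        simpa [commutatorElement_def, mul_assoc] using this)
      have h1 := Subgroup.mem_centralizer_iff.1 hw u⁻¹ (V.inv_mem hu)
      rw [commutatorElement_def, commutatorElement_def]
      calc u * (c * d) * u⁻¹ * (c * d)⁻¹
          = u * (d * c) * ((d * c)⁻¹ * (c * d) * u⁻¹) * (c * d)⁻¹ := by group
        _ = u * (d * c) * u⁻¹ * (d * c)⁻¹ := by rw [← h1]; group
    have e1 : ⁅u, c * d⁆ = ⁅u, c⁆ * (c * ⁅u, d⁆ * c⁻¹) := by simp [commutatorElement_def, mul_assoc]
    have e2 : ⁅u, d * c⁆ = ⁅u, d⁆ * (d * ⁅u, c⁆ * d⁻¹) := by simp [commutatorElement_def, mul_assoc]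
    rw [e1, e2, hCfix _ huc d hd, mul_inv_cancel_right,
      CfsgLib.Quadratic.elemAb_comm hV (CfsgLib.Quadratic.commutator_mem hu (hAV hd)) huc.1] at hk
    exact (mul_inv_eq_iff_eq_mul.1 (mul_left_cancel hk)).symm
  have hrel : B.relIndex A ≤ C.relIndex (X ⊔ C) := by
    let F : A ⧸ B.subgroupOf A → ↥(X ⊔ C) ⧸ C.subgroupOf (X ⊔ C) := fun q =>
      QuotientGroup.mk ⟨⁅u, (q.out : G)⁆,
        Subgroup.mem_sup_left (Subgroup.subset_closure ⟨_, q.out.2, rfl⟩)⟩
    have hF : Function.Injective F := by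
      intro q₁ q₂ h
      rw [← QuotientGroup.out_eq' q₁, ← QuotientGroup.out_eq' q₂, QuotientGroup.eq,
        Subgroup.mem_subgroupOf]
      have := QuotientGroup.eq.1 h
      rw [Subgroup.mem_subgroupOf] at this
      exact hstep _ q₁.out.2 _ q₂.out.2 this
    exact Nat.card_le_card_of_injective F hF
  have hA := Subgroup.relIndex_mul_relIndex (⊥ : Subgroup G) B A bot_le inf_le_left
  rw [Subgroup.relIndex_bot_left, Subgroup.relIndex_bot_left] at hA
  have hX' := Subgroup.relIndex_mul_relIndex (⊥ : Subgroup G) C (X ⊔ C) bot_le le_sup_right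
  rw [Subgroup.relIndex_bot_left, Subgroup.relIndex_bot_left] at hX'
  have hle := le_fixed_centralizer V A hXV
  rw [← hB, ← hC] at hle
  have h1 : measure V A ≤ Nat.card B * Nat.card ↥(X ⊔ C) := by
    rw [measure_def, ← hC, ← hA, ← hX']
    calc Nat.card B * B.relIndex A * Nat.card C ≤ Nat.card B * C.relIndex (X ⊔ C) * Nat.card C :=
          Nat.mul_le_mul_right _ (Nat.mul_le_mul_left _ hrel)
      _ = _ := by ring
  have h2 := hbest B inf_le_left
  rw [measure_def V B] at h2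
  have h3 : Nat.card ↥(V ⊓ Subgroup.centralizer (B : Set G)) ≤ Nat.card ↥(X ⊔ C) :=
    Nat.le_of_mul_le_mul_left (h2.trans h1) Nat.card_pos
  have heq := Subgroup.eq_of_le_of_card_ge hle h3
  refine ⟨hXV, ?_, heq.symm⟩
  rw [measure_def V B]
  exact le_antisymm h2 (h1.trans (Nat.mul_le_mul_left _ (Subgroup.card_le_of_le hle)))

/-- Thompson replacement: if `A` has maximal measure then so has `C_A([U, A])`, with fixed points
`[U, A] C_V(A)`. -/
theorem replacement [Finite G] {V A : Subgroup G} (hV : Cfsg.IsElementaryAbelian p V)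
    (hAV : A ≤ Subgroup.normalizer (V : Set G)) (hab : ⁅A, A⁆ ≤ Subgroup.centralizer (V : Set G))
    (hbest : ∀ B : Subgroup G, B ≤ A → measure V B ≤ measure V A) {U : Subgroup G} (hU : U ≤ V) :
    Replaced V A ⁅U, A⁆ := by
  classical
  have := Fintype.ofFinite U
  rw [← iSup_moveOf, ← Finset.sup_univ_eq_iSup]
  refine Finset.sup_induction (replaced_bot V A) (fun X hX Y hY => replaced_sup hV hbest hX hY) ?_
  exact fun u _ => replaced_moveOf hV hAV hab hbest (hU u.2)

/-- A group acting as a `p`-group on a `p`-group does not reproduce a nontrivial subgroup by commutation. -/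
theorem eq_bot_of_le_commutator [Finite G] [hp : Fact p.Prime] {V A W : Subgroup G}
    (hV : IsPGroup p V) (hAV : A ≤ Subgroup.normalizer (V : Set G)) (hWV : W ≤ V)
    (hpow : ∀ a ∈ A, ∃ k : ℕ, a ^ p ^ k ∈ Subgroup.centralizer (V : Set G))
    (hW : W ≤ ⁅W, A⁆) : W = ⊥ := by
  let φ : A →* MulAut V := V.normalizerMonoidHom.comp (Subgroup.inclusion hAV)
  have hR : IsPGroup p φ.range := by
    rintro ⟨_, a, rfl⟩
    obtain ⟨k, hk⟩ := hpow a a.2
    refine ⟨k, Subtype.ext ?_⟩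
    push_cast
    rw [← map_pow, ← MonoidHom.mem_ker, MonoidHom.mem_ker]
    show V.normalizerMonoidHom (Subgroup.inclusion hAV (a ^ p ^ k)) = 1
    rw [← MonoidHom.mem_ker, Subgroup.normalizerMonoidHom_ker, Subgroup.mem_subgroupOf]
    simpa using hk
  let S := SemidirectProduct V φ.range φ.range.subtype
  have : Finite (MulAut V) := Finite.of_injective _ DFunLike.coe_injective
  have : Finite S := Finite.of_equiv _ SemidirectProduct.equivProd.symm
  have hS : IsPGroup p S := by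
    obtain ⟨m, hm⟩ := IsPGroup.iff_card.1 hV
    obtain ⟨n, hn⟩ := IsPGroup.iff_card.1 hR
    exact IsPGroup.of_card (n := m + n) (by
      rw [Nat.card_congr SemidirectProduct.equivProd, Nat.card_prod, hm, hn, pow_add])
  let W' : Subgroup S := (W.subgroupOf V).map SemidirectProduct.inl
  have hW' : W' ≤ ⁅W', (⊤ : Subgroup S)⁆ := by
    rintro _ ⟨w, hw, rfl⟩
    have hle : ⁅W, A⁆ ≤ ((⁅W', (⊤ : Subgroup S)⁆).comap SemidirectProduct.inl).map V.subtype := by
      rw [Subgroup.commutator_le]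
      intro x hx a ha
      refine ⟨⟨⁅x, a⁆, CfsgLib.Quadratic.commutator_mem (hWV hx) (hAV ha)⟩, ?_, rfl⟩
      rw [SetLike.mem_coe, Subgroup.mem_comap]
      have key : (SemidirectProduct.inl ⟨⁅x, a⁆, CfsgLib.Quadratic.commutator_mem (hWV hx) (hAV ha)⟩ : S) =
          ⁅(SemidirectProduct.inl ⟨x, hWV hx⟩ : S), SemidirectProduct.inr ⟨φ ⟨a, ha⟩, ⟨a, ha⟩, rfl⟩⁆ := by
        refine Eq.trans ?_ (commutatorElement_def _ _).symm
        rw [← map_inv, ← map_inv]
        have h1 := SemidirectProduct.inl_aut (φ := φ.range.subtype) ⟨φ ⟨a, ha⟩, ⟨a, ha⟩, rfl⟩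
          (⟨x, hWV hx⟩⁻¹ : V)
        rw [mul_assoc, mul_assoc, ← mul_assoc (SemidirectProduct.inr _), ← h1, ← map_mul]
        congr 1
        apply Subtype.ext
        show ⁅x, a⁆ = x * (a * x⁻¹ * a⁻¹)
        rw [commutatorElement_def]; group
      rw [key]
      exact Subgroup.commutator_mem_commutator
        (Subgroup.mem_map_of_mem _ (Subgroup.mem_subgroupOf.2 hx)) (Subgroup.mem_top _)
    obtain ⟨v, hv, hvw⟩ := hle (hW (Subgroup.mem_subgroupOf.1 hw))
    rwa [show w = v from Subtype.ext hvw.symm]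
  have hn : ∀ n, W' ≤ (⊤ : Subgroup S).lowerCentralSeries n := by
    intro n
    induction n with
    | zero => exact le_top
    | succ n ih => exact hW'.trans (Subgroup.commutator_mono ih le_rfl)
  obtain ⟨n, hn'⟩ := nilpotent_iff_lowerCentralSeries.1 hS.isNilpotent
  have hb : W' = ⊥ := le_bot_iff.1 (hn' ▸ hn n)
  rw [Subgroup.map_eq_bot_iff_of_injective _ SemidirectProduct.inl_injective,
    Subgroup.subgroupOf_eq_bot] at hb
  exact disjoint_self.1 (hb.mono_right hWV)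

theorem bestOffender_best {V A : Subgroup G} (hA : Cfsg.IsBestOffenderOn p V A) :
    ∀ B : Subgroup G, B ≤ A → measure V B ≤ measure V A := hA.1

theorem bestOffender_of_le {V A B : Subgroup G} (hA : Cfsg.IsBestOffenderOn p V A) (hBA : B ≤ A)
    (hm : measure V A ≤ measure V B) : Cfsg.IsBestOffenderOn p V B :=
  ⟨fun _ hC => (hA.1 _ (hC.trans hBA)).trans hm,
    (Subgroup.commutator_mono hBA hBA).trans hA.2.1, fun b hb => hA.2.2 b (hBA hb)⟩

theorem bestOffender_pow {V A : Subgroup G} (hA : Cfsg.IsBestOffenderOn p V A) :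
    ∀ a ∈ A, ∃ k : ℕ, a ^ p ^ k ∈ Subgroup.centralizer (V : Set G) :=
  fun a ha => ⟨1, by rw [pow_one]; exact hA.2.2 a ha⟩

/-- Timmesfeld replacement. -/
theorem timmesfeld [Finite G] [Fact p.Prime] {V A : Subgroup G} (hV : Cfsg.IsElementaryAbelian p V)
    (hAV : A ≤ Subgroup.normalizer (V : Set G)) (hA : Cfsg.IsBestOffenderOn p V A)
    {U : Subgroup G} (hU : U ≤ V) :
    Cfsg.IsBestOffenderOn p V (A ⊓ Subgroup.centralizer ((⁅U, A⁆ : Subgroup G) : Set G)) ∧
      V ⊓ Subgroup.centralizer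
        ((A ⊓ Subgroup.centralizer ((⁅U, A⁆ : Subgroup G) : Set G) : Subgroup G) : Set G) =
        ⁅U, A⁆ ⊔ (V ⊓ Subgroup.centralizer (A : Set G)) ∧
      (⁅V, A⁆ ≠ ⊥ →
        ⁅V, A ⊓ Subgroup.centralizer ((⁅U, A⁆ : Subgroup G) : Set G)⁆ ≠ ⊥) := by
  obtain ⟨hXV, hm, hf⟩ := replacement hV hAV hA.2.1 hA.1 hU
  set B := A ⊓ Subgroup.centralizer ((⁅U, A⁆ : Subgroup G) : Set G) with hB
  refine ⟨bestOffender_of_le hA inf_le_left hm.ge, hf, fun hne hb => hne ?_⟩
  have hVeq : V ≤ ⁅U, A⁆ ⊔ (V ⊓ Subgroup.centralizer (A : Set G)) := by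
    rw [← hf]
    exact le_inf le_rfl (Subgroup.commutator_eq_bot_iff_le_centralizer.1 hb)
  refine eq_bot_of_le_commutator (CfsgLib.Quadratic.isPGroup_of_elemAb hV) hAV
    (CfsgLib.Quadratic.commutator_le_self hAV) (bestOffender_pow hA) ?_
  rw [Subgroup.commutator_le]
  intro v hv a ha
  have hv' := hVeq hv
  have hle : (⁅U, A⁆ ⊔ (V ⊓ Subgroup.centralizer (A : Set G))) ≤ Subgroup.normalizer (V : Set G) :=
    sup_le (hXV.trans Subgroup.le_normalizer) (inf_le_left.trans Subgroup.le_normalizer)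
  obtain ⟨w, hw, c, hc, rfl⟩ := CfsgLib.Coprime.exists_mul_of_mem_sup (H := ⁅U, A⁆)
    (N := V ⊓ Subgroup.centralizer (A : Set G)) (fun x hx => Subgroup.centralizer_le_normalizer _
      (Subgroup.mem_centralizer_iff.2 fun y hy =>
        CfsgLib.Quadratic.elemAb_comm hV hy.1 (hXV hx))) hv'
  rw [CfsgLib.Quadratic.commutator_mul_left hV (hXV hw) hc.1 (hAV ha),
    commutatorElement_eq_one_iff_mul_comm.2 ((Subgroup.mem_centralizer_iff.1 hc.2) a ha).symm,
    mul_one]
  exact Subgroup.commutator_mem_commutator (Subgroup.commutator_mono hU le_rfl hw) ha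

end CfsgLib.Offender
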