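import Cfsg.Prelude.Def_PLocal
import Cfsg.Agent.Lib.PCore.Basic
import Cfsg.Agent.Lib.PLocal5.Quadratic
import Cfsg.Agent.Lib.PLocal.Thompson

/-! Normal subgroups generated by fixed points of Sylow subgroups, and `⟨Ω₁(Z(S))⟩`. -/

set_option autoImplicit false

namespace CfsgLib.SylowFixed

variable {G : Type*} [Group G] {p : ℕ}

theorem centralizes_iSup {ι : Sort*} {W : ι → Subgroup G} {d : G}
    (h : ∀ i, d ∈ Subgroup.centralizer (W i : Set G)) :
    d ∈ Subgroup.centralizer ((⨆ i, W i : Subgroup G) : Set G) := by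
  have hle : (⨆ i, W i) ≤ Subgroup.centralizer {d} := iSup_le fun i w hw =>
    Subgroup.mem_centralizer_singleton_iff.2 (Subgroup.mem_centralizer_iff.1 (h i) w hw)
  exact Subgroup.mem_centralizer_iff.2 fun w hw => Subgroup.mem_centralizer_singleton_iff.1 (hle hw)

theorem normal_le_centralizer [Finite G] [Fact p.Prime] {V : Subgroup G} [V.Normal]
    (hgen : V = ⨆ S : Sylow p G, V ⊓ Subgroup.centralizer ((S : Subgroup G) : Set G))
    {D : Subgroup G} [D.Normal]
    (hD : IsPGroup p (D.map (QuotientGroup.mk' (Subgroup.centralizer (V : Set G))))) :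
    D ≤ Subgroup.centralizer (V : Set G) := by
  intro d hd
  have h : ∀ S : Sylow p G,
      d ∈ Subgroup.centralizer ((V ⊓ Subgroup.centralizer ((S : Subgroup G) : Set G) : Subgroup G) : Set G) := by
    intro S
    set f := QuotientGroup.mk' (Subgroup.centralizer (V : Set G)) with hf
    have hsur : Function.Surjective f := QuotientGroup.mk'_surjective _
    have h1 : f d ∈ (S.mapSurjective hsur : Subgroup _) :=
      CfsgLib.PCore.pCore_le_sylow _
        (CfsgLib.PCore.le_pCore (Subgroup.Normal.map inferInstance f hsur) hD ⟨d, hd, rfl⟩)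
    rw [Sylow.coe_mapSurjective] at h1
    obtain ⟨s, hs, hsd⟩ := h1
    have h2 : s⁻¹ * d ∈ Subgroup.centralizer (V : Set G) := QuotientGroup.eq.1 hsd
    rw [Subgroup.mem_centralizer_iff]
    intro w hw
    have e1 := Subgroup.mem_centralizer_iff.1 h2 w hw.1
    have e2 : s * w = w * s := Subgroup.mem_centralizer_iff.1 hw.2 s hs
    calc w * d = (w * s) * (s⁻¹ * d) := by group
      _ = s * (w * (s⁻¹ * d)) := by rw [← e2]; group
      _ = d * w := by rw [e1]; group
  have h2 := centralizes_iSup h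
  rwa [← hgen] at h2

theorem pCore_quotient_centralizer [Finite G] [Fact p.Prime] {V : Subgroup G} [V.Normal]
    (hgen : V = ⨆ S : Sylow p G, V ⊓ Subgroup.centralizer ((S : Subgroup G) : Set G)) :
    Cfsg.pCore p (G ⧸ Subgroup.centralizer (V : Set G)) = ⊥ := by
  set f := QuotientGroup.mk' (Subgroup.centralizer (V : Set G)) with hf
  set D := (Cfsg.pCore p (G ⧸ Subgroup.centralizer (V : Set G))).comap f with hDdef
  have hmap : D.map f = Cfsg.pCore p _ :=
    Subgroup.map_comap_eq_self_of_surjective (QuotientGroup.mk'_surjective _) _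
  have hle := normal_le_centralizer hgen (D := D) (by rw [hmap]; exact CfsgLib.PCore.pCore_isPGroup)
  rw [← hmap, Subgroup.map_eq_bot_iff, QuotientGroup.ker_mk']
  exact hle

/-- `⟨Ω₁(Z(S)) | S ∈ Syl_p(G)⟩`. -/
def sylowCenterClosure (p : ℕ) (G : Type*) [Group G] : Subgroup G :=
  ⨆ S : Sylow p G, Cfsg.omegaOne p ((S : Subgroup G) ⊓ Subgroup.centralizer ((S : Subgroup G) : Set G))

theorem omega_le_centralizer (S : Sylow p G) :
    Cfsg.omegaOne p ((S : Subgroup G) ⊓ Subgroup.centralizer ((S : Subgroup G) : Set G)) ≤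
      (S : Subgroup G) ⊓ Subgroup.centralizer ((S : Subgroup G) : Set G) :=
  (Subgroup.closure_le _).2 fun _ hx => hx.1

theorem map_inf_centralizer {H : Type*} [Group H] (e : G ≃* H) (P : Subgroup G) :
    (P ⊓ Subgroup.centralizer (P : Set G)).map e.toMonoidHom =
      P.map e.toMonoidHom ⊓ Subgroup.centralizer (P.map e.toMonoidHom : Set H) := by
  ext x
  constructor
  · rintro ⟨y, hy, rfl⟩
    refine ⟨⟨y, hy.1, rfl⟩, Subgroup.mem_centralizer_iff.2 ?_⟩
    rintro _ ⟨z, hz, rfl⟩
    rw [← map_mul, ← map_mul, Subgroup.mem_centralizer_iff.1 hy.2 z hz]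
  · rintro ⟨⟨y, hy, rfl⟩, hx⟩
    refine ⟨y, ⟨hy, Subgroup.mem_centralizer_iff.2 fun z hz => ?_⟩, rfl⟩
    apply e.injective
    simpa using Subgroup.mem_centralizer_iff.1 hx (e z) ⟨z, hz, rfl⟩

instance sylowCenterClosure_normal_inst : (sylowCenterClosure p G).Normal := by
  refine ⟨fun x hx g => ?_⟩
  have h : (sylowCenterClosure p G).map (MulAut.conj g).toMonoidHom ≤ sylowCenterClosure p G := by
    rw [sylowCenterClosure, Subgroup.map_iSup]
    refine iSup_le fun S => ?_
    rw [← CfsgLib.PLocal.omegaOne_map (MulAut.conj g).injective, map_inf_centralizer]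
    refine le_iSup_of_le (g • S) (le_of_eq ?_)
    rfl
  exact h ⟨x, hx, rfl⟩

theorem sylowCenterClosure_gen (p : ℕ) :
    sylowCenterClosure p G = ⨆ S : Sylow p G,
      sylowCenterClosure p G ⊓ Subgroup.centralizer ((S : Subgroup G) : Set G) := by
  refine le_antisymm (iSup_mono fun S => le_inf (le_iSup (fun S : Sylow p G => Cfsg.omegaOne p ((S : Subgroup G) ⊓ Subgroup.centralizer ((S : Subgroup G) : Set G))) S) ?_) (iSup_le fun S => inf_le_left)
  exact (omega_le_centralizer S).trans inf_le_right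

theorem sylowCenterClosure_elemAb [Finite G] [Fact p.Prime]
    (hc : Subgroup.centralizer (Cfsg.pCore p G : Set G) ≤ Cfsg.pCore p G) :
    Cfsg.IsElementaryAbelian p (sylowCenterClosure p G) := by
  have hle : sylowCenterClosure p G ≤
      Cfsg.pCore p G ⊓ Subgroup.centralizer (Cfsg.pCore p G : Set G) := by
    refine iSup_le fun S => (omega_le_centralizer S).trans fun x hx => ?_
    have h := Subgroup.centralizer_le (CfsgLib.PCore.pCore_le_sylow S : _ ≤ _) hx.2
    exact ⟨hc h, h⟩
  have : IsMulCommutative ↥(Cfsg.pCore p G ⊓ Subgroup.centralizer (Cfsg.pCore p G : Set G)) :=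
    ⟨⟨fun a b => Subtype.ext (Subgroup.mem_centralizer_iff.1 b.2.2 a a.2.1)⟩⟩
  refine CfsgLib.PLocal.elemAb_of_le (CfsgLib.PLocal.omegaOne_elemAb p
    (Cfsg.pCore p G ⊓ Subgroup.centralizer (Cfsg.pCore p G : Set G))) (iSup_le fun S => ?_)
  refine (Subgroup.closure_le _).2 fun x hx => Subgroup.subset_closure ⟨?_, hx.2⟩
  exact hle ((le_iSup (fun S : Sylow p G => Cfsg.omegaOne p ((S : Subgroup G) ⊓
    Subgroup.centralizer ((S : Subgroup G) : Set G))) S) (Subgroup.subset_closure hx))

end CfsgLib.SylowFixed
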