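import Cfsg.Agent.Lib.PLocal5.FFPlane

/-! The structure theorem for failure of factorization. -/

set_option autoImplicit false
set_option linter.unusedSectionVars false
set_option linter.style.haveILetI false

open scoped commutatorElement MatrixGroups
open Subgroup

namespace CfsgLib.FFPair

open CfsgLib.SL2Unipotent

/-- Two elements of order four of `SL(2, 3)` that do not commute. -/
theorem exists_noncommuting_sl2_three :
    ∃ i j : SL(2, ZMod 3), i ^ 4 = 1 ∧ j ^ 4 = 1 ∧ i * j ≠ j * i :=
  ⟨⟨!![0, -1; 1, 0], by decide⟩, ⟨!![1, 1; 1, -1], by decide⟩, by decide, by decide, by decide⟩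

variable {G : Type*} [Group G] {p : ℕ} {V H A : Subgroup G}

theorem le_normalizer_commutator {K X Y : Subgroup G} (hX : K ≤ normalizer (X : Set G))
    (hY : K ≤ normalizer (Y : Set G)) : K ≤ normalizer ((⁅X, Y⁆ : Subgroup G) : Set G) := by
  refine le_normalizer_iff.2 fun k hk z hz => ?_
  suffices h : ⁅X, Y⁆ ≤ (⁅X, Y⁆).comap (MulAut.conj k).toMonoidHom from h hz
  refine commutator_le.2 fun x hx y hy => ?_
  show k * ⁅x, y⁆ * k⁻¹ ∈ ⁅X, Y⁆
  rw [conjugate_commutatorElement]
  exact commutator_mem_commutator (CfsgLib.Coprime.mem_normalizer_conj (hX hk) hx)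
    (CfsgLib.Coprime.mem_normalizer_conj (hY hk) hy)

theorem le_normalizer_inf_centralizer {K X Y : Subgroup G} (hX : K ≤ normalizer (X : Set G))
    (hY : K ≤ normalizer (Y : Set G)) :
    K ≤ normalizer ((X ⊓ centralizer (Y : Set G) : Subgroup G) : Set G) :=
  le_normalizer_iff.2 fun _ hk _ hz =>
    ⟨CfsgLib.Coprime.mem_normalizer_conj (hX hk) hz.1,
      CfsgLib.Quadratic.conj_mem_centralizer (hY hk) hz.2⟩

variable [Finite G] [Fact p.Prime]

theorem not_isPGroup_conj_pair (hA : IsTrans p V H A) {x : G} (hx : x ∈ core p H)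
    (hxA : x ∉ centralizer (A : Set G)) :
    ¬ IsPGroup p ↥(A ⊔ A.map (MulAut.conj x).toMonoidHom) := by
  intro hp
  refine hxA (mem_centralizer_iff.2 fun a ha => ?_)
  have h1 : ⁅x, a⁆ ∈ core p H := CfsgLib.Coprime.commutator_le_of_normalizes
    (hA.le.trans le_normalizer_core) (commutator_mem_commutator hx ha)
  have h2 : ⁅x, a⁆ ∈ A ⊔ A.map (MulAut.conj x).toMonoidHom := by
    rw [commutatorElement_def]
    exact mul_mem (mem_sup_right ⟨a, ha, rfl⟩) (inv_mem (mem_sup_left ha))
  have h := mem_inf.2 ⟨h2, h1⟩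
  rw [inf_core_eq_bot hp, mem_bot] at h
  exact (commutatorElement_eq_one_iff_mul_comm.1 h).symm

theorem conj_pair_spec (S : Setting p V H) (hA : IsTrans p V H A) {x : G} (hx : x ∈ core p H)
    (hxA : x ∉ centralizer (A : Set G)) :
    IsNatural p V (A ⊔ A.map (MulAut.conj x).toMonoidHom) ∧ (p = 2 ∨ p = 3) := by
  set X := A ⊔ A.map (MulAut.conj x).toMonoidHom with hXdef
  have hB := hA.conj S (core_le hx)
  have hnp := not_isPGroup_conj_pair hA hx hxA
  obtain ⟨-, hnat, φ, hφ, a, hza, hφa⟩ := pair_spec S hA hB hnp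
  refine ⟨hnat, (em (p = 2)).imp id fun hp2 => ?_⟩
  set Q := (core p H).subgroupOf X with hQdef
  have hXH : X ≤ H := sup_le hA.le hB.le
  have haA : (a : G) ∈ A := hza.le (mem_zpowers (a : G))
  have hQc : (Nat.card (Q.map φ)).Coprime p := by
    rw [card_map_of_injective hφ, ← card_map_of_injective X.subtype_injective, hQdef,
      subgroupOf_map_subtype]
    exact (core_coprime (H := H)).coprime_dvd_left (card_dvd_of_le inf_le_left)
  have hnorm : up (1 : ZMod p) ∈ normalizer (Q.map φ : Set SL(2, ZMod p)) := by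
    rw [← hφa]
    refine le_normalizer_map φ ⟨a, ?_, rfl⟩
    rw [SetLike.mem_coe, mem_normalizer_iff]
    intro g
    exact mem_normalizer_iff.1 (le_normalizer_core (hA.le haA)) g
  have hnc : ∃ q ∈ Q.map φ, ¬ Commute (up (1 : ZMod p)) q := by
    by_contra! hcon
    apply hnp
    have hax : ⁅x, (a : G)⁆ ∈ X := by
      rw [commutatorElement_def]
      exact mul_mem (mem_sup_right ⟨a, haA, rfl⟩) (inv_mem (mem_sup_left haA))
    have hc := hcon (φ ⟨_, hax⟩) ⟨_, mem_subgroupOf.2 (CfsgLib.Coprime.commutator_le_of_normalizes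
      (hA.le.trans le_normalizer_core) (commutator_mem_commutator hx haA)), rfl⟩
    rw [← hφa] at hc
    have hc' : Commute (a : G) (x * (a : G) * x⁻¹) := by
      have h1 : Commute a (⟨⁅x, (a : G)⁆, hax⟩ : X) := hφ (by rw [map_mul, map_mul]; exact hc.eq)
      have h2 : Commute (a : G) (⁅x, (a : G)⁆ * (a : G)) :=
        (show Commute (a : G) ⁅x, (a : G)⁆ from congrArg Subtype.val h1.eq).mul_right (Commute.refl _)
      rwa [commutatorElement_def, inv_mul_cancel_right] at h2
    refine isPGroup_elemAb (CfsgLib.PLocal.elemAb_sup hA.elemAb_self hB.elemAb_self ?_)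
    rw [← hza, zpowers_le, mem_centralizer_iff]
    rintro _ ⟨c, hc, rfl⟩
    obtain ⟨i, rfl⟩ := mem_zpowers_iff.1 hc
    have := hc'.zpow_right i
    rw [conj_zpow] at this
    exact this.eq.symm
  exact (exists_sl2_three hp2 one_ne_zero (Q.map φ) hQc hnorm hnc).1

/-- The component attached to an offender of order `p`. -/
def comp (p : ℕ) (H A : Subgroup G) : Subgroup G := ⁅core p H, A⁆ ⊔ A

theorem le_comp : A ≤ comp p H A := le_sup_right

theorem comp_le (hA : A ≤ H) : comp p H A ≤ H :=
  sup_le ((CfsgLib.Coprime.commutator_le_of_normalizes (hA.trans le_normalizer_core)).trans core_le) hA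

theorem core_le_normalizer_comp : core p H ≤ normalizer (comp p H A : Set G) := by
  refine le_normalizer_iff.2 fun y hy z hz => ?_
  suffices h : comp p H A ≤ (comp p H A).comap (MulAut.conj y).toMonoidHom from h hz
  refine sup_le (fun w hw => mem_sup_left ?_) (fun a ha => ?_)
  · exact CfsgLib.Coprime.mem_normalizer_conj
      (CfsgLib.Coprime.le_normalizer_commutator_left _ _ hy) hw
  · show y * a * y⁻¹ ∈ comp p H A
    have h := mul_mem (mem_sup_left (commutator_mem_commutator hy ha) : ⁅y, a⁆ ∈ comp p H A)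
      (mem_sup_right ha)
    rwa [commutatorElement_def, inv_mul_cancel_right] at h

theorem exists_moving_mem (S : Setting p V H) (hA : IsTrans p V H A) :
    ∃ x ∈ core p H, x ∉ centralizer (A : Set G) := by
  by_contra! h
  refine hA.ne_bot (eq_bot_iff.2 ?_)
  rw [← S.pgroup_inf_centralizer_core hA.le (isPGroup_elemAb hA.elemAb_self)]
  exact le_inf le_rfl (Subgroup.le_centralizer_iff.1 fun x hx => h x hx)

theorem map_conj_eq_self {A : Subgroup G} {k : G} (hk : k ∈ centralizer (A : Set G)) :
    A.map (MulAut.conj k).toMonoidHom = A := by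
  ext z
  constructor
  · rintro ⟨a, ha, rfl⟩
    show k * a * k⁻¹ ∈ A
    rwa [← mem_centralizer_iff.1 hk a ha, mul_inv_cancel_right]
  · intro hz
    exact ⟨z, hz, by show k * z * k⁻¹ = z; rw [← mem_centralizer_iff.1 hk z hz, mul_inv_cancel_right]⟩

/-- The component is a natural `SL(2, p)`. -/
theorem comp_natural (S : Setting p V H) (hA : IsTrans p V H A) :
    IsNatural p V (comp p H A) ∧ (p = 2 ∨ p = 3) := by
  obtain ⟨x, hx, hxA⟩ := exists_moving_mem S hA
  obtain ⟨hnat, hp23⟩ := conj_pair_spec S hA hx hxA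
  set X := A ⊔ A.map (MulAut.conj x).toMonoidHom with hXdef
  -- centres of distinct conjugates are moved
  have hpair : ∀ y ∈ core p H, ∀ z ∈ core p H,
      ⁅⁅V, A.map (MulAut.conj y).toMonoidHom⁆, A.map (MulAut.conj z).toMonoidHom⁆ = ⊥ →
        A.map (MulAut.conj z).toMonoidHom = A.map (MulAut.conj y).toMonoidHom := by
    intro y hy z hz hbot
    have hk : z * y⁻¹ ∈ core p H := mul_mem hz (inv_mem hy)
    have hmap : A.map (MulAut.conj z).toMonoidHom =
        (A.map (MulAut.conj y).toMonoidHom).map (MulAut.conj (z * y⁻¹)).toMonoidHom := by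
      rw [map_map]
      congr 1
      ext a
      simp [mul_assoc]
    by_cases hc : z * y⁻¹ ∈ centralizer ((A.map (MulAut.conj y).toMonoidHom : Subgroup G) : Set G)
    · rw [hmap, map_conj_eq_self hc]
    · have hY := hA.conj S (core_le hy)
      have h := (pair_spec S hY (hY.conj S (core_le hk)) (not_isPGroup_conj_pair hY hk hc)).1
      rw [← hmap] at h
      exact absurd hbot h
  obtain ⟨s, hs, hs1⟩ := (bot_or_exists_ne_one ⁅V, A⁆).resolve_left (hA.commutator_ne_bot S)
  have hWV : ⁅V, X⁆ ≤ V := CfsgLib.Quadratic.commutator_le_self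
    ((sup_le hA.le (hA.conj S (core_le hx)).le).trans S.le_normalizer)
  have hsW : s ∈ ⁅V, X⁆ := commutator_mono le_rfl le_sup_left hs
  have hXle : X ≤ A ⊔ core p H := by
    refine sup_le le_sup_left ?_
    rintro _ ⟨a, ha, rfl⟩
    exact mul_mem (mul_mem (mem_sup_right hx) (mem_sup_left ha)) (inv_mem (mem_sup_right hx))
  have hconjs : ∀ y ∈ core p H, A.map (MulAut.conj y).toMonoidHom ≤ X := by
    intro y hy
    set g := A.map (MulAut.conj y).toMonoidHom with hg
    have hgT := hA.conj S (core_le hy)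
    have hne : ⁅V, X⁆ ⊓ (V ⊓ centralizer (g : Set G)) ≠ ⊥ := by
      intro he
      have h := CfsgLib.Offender.card_mul_card_le (R := V) hWV
        (inf_le_left : V ⊓ centralizer (g : Set G) ≤ V)
      rw [he, card_bot, mul_one, hnat.card_plane, ← hgT.card_fixed, mul_comm] at h
      have := Nat.le_of_mul_le_mul_left h Nat.card_pos
      have hp := (Fact.out : p.Prime).one_lt
      nlinarith
    obtain ⟨t, ⟨htW, -, htg⟩, ht1⟩ := (bot_or_exists_ne_one _).resolve_left hne
    obtain ⟨h, hh, hht⟩ := hnat.transitive s hsW t htW hs1 ht1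
    obtain ⟨a, ha, q, hq, rfl⟩ :=
      CfsgLib.Coprime.exists_mul_of_mem_sup (hA.le.trans le_normalizer_core) (hXle hh)
    set y' := a * q * a⁻¹ with hy'
    have hy'c : y' ∈ core p H := CfsgLib.Coprime.mem_normalizer_conj (le_normalizer_core (hA.le ha)) hq
    set f := A.map (MulAut.conj y').toMonoidHom with hf
    have hfX : f ≤ X := by
      rintro _ ⟨b, hb, rfl⟩
      show y' * b * y'⁻¹ ∈ X
      have e : y' * b * y'⁻¹ = (a * q) * (a⁻¹ * b * a) * (a * q)⁻¹ := by rw [hy']; group
      rw [e]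
      exact mul_mem (mul_mem hh (mem_sup_left (mul_mem (mul_mem (inv_mem ha) hb) ha))) (inv_mem hh)
    have htc : t ∈ ⁅V, f⁆ := by
      have hsA : a * s * a⁻¹ = s := CfsgLib.Coprime.conj_eq_of_mem_centralizer
        (Subgroup.commutator_eq_bot_iff_le_centralizer.1 (hA.quadratic S) hs) ha
      have e : t = y' * s * y'⁻¹ := by
        conv_rhs => rw [← hsA]
        rw [← hht, hy']
        group
      have hle : (⁅V, A⁆).map (MulAut.conj y').toMonoidHom ≤ ⁅V, f⁆ := by
        rw [map_commutator]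
        refine commutator_mono ?_ le_rfl
        rintro _ ⟨v, hv, rfl⟩
        exact CfsgLib.Coprime.mem_normalizer_conj (S.le_normalizer (core_le hy'c)) hv
      rw [e]
      exact hle ⟨s, hs, rfl⟩
    have hbot : ⁅⁅V, f⁆, g⁆ = ⊥ := by
      have hfT := hA.conj S (core_le hy'c)
      have hd := card_dvd_of_le (inf_le_left : ⁅V, f⁆ ⊓ centralizer (g : Set G) ≤ ⁅V, f⁆)
      rw [hfT.card_center S] at hd
      rcases (Nat.dvd_prime Fact.out).1 hd with e | e
      · exfalso
        have h := (mem_inf.2 ⟨htc, htg⟩ : t ∈ ⁅V, f⁆ ⊓ centralizer (g : Set G))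
        rw [card_eq_one.1 e, mem_bot] at h
        exact ht1 h
      · rw [Subgroup.commutator_eq_bot_iff_le_centralizer]
        exact inf_eq_left.1 (eq_of_le_of_card_ge inf_le_left (by rw [hfT.card_center S, e]))
    rw [hg, hpair y' hy'c y hy hbot]
    exact hfX
  have hE : comp p H A = X := by
    refine le_antisymm (sup_le (commutator_le.2 fun y hy a ha => ?_) le_sup_left) (sup_le le_comp ?_)
    · rw [commutatorElement_def]
      exact mul_mem (hconjs y hy ⟨a, ha, rfl⟩) (inv_mem (mem_sup_left ha))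
    · rintro _ ⟨a, ha, rfl⟩
      exact CfsgLib.Coprime.mem_normalizer_conj (core_le_normalizer_comp hx) (le_comp ha)
  rw [hE]
  exact ⟨hnat, hp23⟩

variable (S : Setting p V H) (hA : IsTrans p V H A)
include S hA

theorem comp_plane_le : ⁅V, comp p H A⁆ ≤ V :=
  CfsgLib.Quadratic.commutator_le_self ((comp_le hA.le).trans S.le_normalizer)

theorem core_le_normalizer_plane :
    core p H ≤ normalizer ((⁅V, comp p H A⁆ : Subgroup G) : Set G) :=
  le_normalizer_commutator (core_le.trans S.le_normalizer) core_le_normalizer_comp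

theorem irreducible {T : Subgroup G} (hT : T ≤ ⁅V, comp p H A⁆)
    (hR : ⁅core p H, A⁆ ≤ normalizer (T : Set G)) : T = ⊥ ∨ T = ⁅V, comp p H A⁆ := by
  obtain ⟨hnat, -⟩ := comp_natural S hA
  set E := comp p H A with hE
  have hp : p.Prime := Fact.out
  rcases eq_or_ne T ⊥ with h | hTb
  · exact Or.inl h
  refine Or.inr ?_
  have hd := card_dvd_of_le hT
  rw [hnat.card_plane] at hd
  obtain ⟨k, hk, hkc⟩ := (Nat.dvd_prime_pow hp).1 hd
  interval_cases k
  · exact absurd (card_eq_one.1 (by simpa using hkc)) hTb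
  · exfalso
    rw [pow_one] at hkc
    obtain ⟨t, ht, ht1⟩ := (bot_or_exists_ne_one T).resolve_left hTb
    obtain ⟨s, hs, hs1⟩ := (bot_or_exists_ne_one ⁅V, A⁆).resolve_left (hA.commutator_ne_bot S)
    have hcW : ⁅V, A⁆ ≤ ⁅V, E⁆ := commutator_mono le_rfl le_comp
    obtain ⟨h, hh, hst⟩ := hnat.transitive s (hcW hs) t (hT ht) hs1 ht1
    have hEW : E ≤ normalizer ((⁅V, E⁆ : Subgroup G) : Set G) :=
      le_normalizer_commutator ((comp_le hA.le).trans S.le_normalizer) Subgroup.le_normalizer
    have hTeq : (⁅V, A⁆).map (MulAut.conj h).toMonoidHom = T := by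
      have hc : Nat.card ↥((⁅V, A⁆).map (MulAut.conj h).toMonoidHom) = p := by
        rw [card_map_of_injective (MulAut.conj h).injective, hA.card_center S]
      have hd := card_dvd_of_le
        (inf_le_left : (⁅V, A⁆).map (MulAut.conj h).toMonoidHom ⊓ T ≤ _)
      rw [hc] at hd
      rcases (Nat.dvd_prime hp).1 hd with e | e
      · exfalso
        have hm : t ∈ (⁅V, A⁆).map (MulAut.conj h).toMonoidHom ⊓ T :=
          mem_inf.2 ⟨⟨s, hs, hst⟩, ht⟩
        rw [card_eq_one.1 e, mem_bot] at hm
        exact ht1 hm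
      · have h1 := eq_of_le_of_card_ge (inf_le_left :
          (⁅V, A⁆).map (MulAut.conj h).toMonoidHom ⊓ T ≤ _) (by rw [hc, e])
        exact eq_of_le_of_card_ge (inf_eq_left.1 h1) (by rw [hc, hkc])
    have hEc : E ≤ normalizer ((⁅V, A⁆ : Subgroup G) : Set G) := by
      refine sup_le (le_normalizer_iff.2 fun r hr z hz => ?_)
        (le_normalizer_commutator (hA.le_normalizer S) Subgroup.le_normalizer)
      have hr' : h * r * h⁻¹ ∈ ⁅core p H, A⁆ := by
        refine CfsgLib.Coprime.mem_normalizer_conj ?_ hr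
        exact (sup_le Subgroup.le_normalizer
          (CfsgLib.Coprime.le_normalizer_commutator_right _ _) :
          E ≤ normalizer ((⁅core p H, A⁆ : Subgroup G) : Set G)) hh
      have hzT : h * z * h⁻¹ ∈ T := hTeq ▸ ⟨z, hz, rfl⟩
      have h2 := CfsgLib.Coprime.mem_normalizer_conj (hR hr') hzT
      rw [← hTeq] at h2
      obtain ⟨z', hz', he⟩ := h2
      have he' : h * z' * h⁻¹ = h * r * h⁻¹ * (h * z * h⁻¹) * (h * r * h⁻¹)⁻¹ := he
      have e : r * z * r⁻¹ = z' := by
        calc r * z * r⁻¹ = h⁻¹ * (h * r * h⁻¹ * (h * z * h⁻¹) * (h * r * h⁻¹)⁻¹) * h := by group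
          _ = z' := by rw [← he']; group
      rw [e]; exact hz'
    have hle : ⁅V, E⁆ ≤ ⁅V, A⁆ := by
      intro w hw
      by_cases hw1 : w = 1
      · rw [hw1]; exact one_mem _
      obtain ⟨g, hg, rfl⟩ := hnat.transitive s (hcW hs) w hw hs1 hw1
      exact CfsgLib.Coprime.mem_normalizer_conj (hEc hg) hs
    have := Subgroup.card_le_of_le hle
    rw [hnat.card_plane, hA.card_center S] at this
    nlinarith [hp.one_lt]
  · exact eq_of_le_of_card_ge hT (by rw [hkc, hnat.card_plane])

theorem fixed_core_commutator :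
    V ⊓ centralizer ((⁅core p H, A⁆ : Subgroup G) : Set G) =
      V ⊓ centralizer (comp p H A : Set G) := by
  obtain ⟨hnat, -⟩ := comp_natural S hA
  refine le_antisymm ?_ (CfsgLib.Offender.fixed_antitone le_sup_left)
  rintro v ⟨hv, hvR⟩
  have hRH : ⁅core p H, A⁆ ≤ core p H :=
    CfsgLib.Coprime.commutator_le_of_normalizes (hA.le.trans le_normalizer_core)
  have hv' : v ∈ ⁅V, comp p H A⁆ ⊔ (V ⊓ centralizer (comp p H A : Set G)) := by
    rw [hnat.sup_fixed]; exact hv
  obtain ⟨w, hw, u, hu, rfl⟩ := CfsgLib.Coprime.exists_mul_of_mem_sup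
    (H := ⁅V, comp p H A⁆) (N := V ⊓ centralizer (comp p H A : Set G))
    (fun y hy => centralizer_le_normalizer _ (mem_centralizer_iff.2 fun z hz =>
      CfsgLib.Quadratic.elemAb_comm S.elemAb hz.1 (comp_plane_le S hA hy))) hv'
  have hwR : w ∈ centralizer ((⁅core p H, A⁆ : Subgroup G) : Set G) := by
    have hu' : u ∈ centralizer ((⁅core p H, A⁆ : Subgroup G) : Set G) :=
      centralizer_le (le_sup_left : _ ≤ comp p H A) hu.2
    simpa using Subgroup.mul_mem _ hvR (Subgroup.inv_mem _ hu')
  rcases irreducible S hA (T := ⁅V, comp p H A⁆ ⊓ centralizer ((⁅core p H, A⁆ : Subgroup G) : Set G))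
      inf_le_left (le_normalizer_inf_centralizer (hRH.trans (core_le_normalizer_plane S hA))
        Subgroup.le_normalizer) with h | h
  · have hm := (mem_inf.2 ⟨hw, hwR⟩ : w ∈ _)
    rw [h, mem_bot] at hm
    rw [hm, one_mul]
    exact hu
  · exfalso
    obtain ⟨x, hx, hxA⟩ := exists_moving_mem S hA
    refine hxA (mem_centralizer_iff.2 fun a ha => ?_)
    have h1 : ⁅x, a⁆ ∈ comp p H A ⊓ centralizer ((⁅V, comp p H A⁆ : Subgroup G) : Set G) :=
      ⟨mem_sup_left (commutator_mem_commutator hx ha), mem_centralizer_iff.2 fun z hz =>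
        (mem_centralizer_iff.1 (inf_eq_left.1 h hz) _ (commutator_mem_commutator hx ha)).symm⟩
    rw [hnat.faithful, mem_bot] at h1
    exact (commutatorElement_eq_one_iff_mul_comm.1 h1).symm

theorem comp_subset_of_plane_eq {B : Subgroup G} (hB : IsTrans p V H B)
    (hW : ⁅V, comp p H B⁆ = ⁅V, comp p H A⁆)
    (hU : V ⊓ centralizer (comp p H B : Set G) = V ⊓ centralizer (comp p H A : Set G)) :
    comp p H B ≤ comp p H A := by
  obtain ⟨hnat, -⟩ := comp_natural S hA
  have hBE : B ≤ comp p H A := by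
    intro b hb
    have hbN : b ∈ normalizer ((⁅V, comp p H A⁆ : Subgroup G) : Set G) := by
      rw [← hW]
      exact le_normalizer_commutator ((comp_le hB.le).trans S.le_normalizer)
        Subgroup.le_normalizer (le_comp hb)
    obtain ⟨x, hx, hxw⟩ := hnat.exists_match b hbN
      (by rw [hB.elemAb_self.2 b hb]; exact one_mem _)
    have h1 : x⁻¹ * b ∈ H ⊓ centralizer (V : Set G) := by
      refine ⟨H.mul_mem (H.inv_mem (comp_le hA.le hx)) (hB.le hb), mem_centralizer_iff.2 fun v hv => ?_⟩
      have hV' : V ≤ centralizer {x⁻¹ * b} := by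
        rw [← hnat.sup_fixed]
        refine sup_le (fun w hw => mem_centralizer_singleton_iff.2 ?_)
          (fun u hu => mem_centralizer_singleton_iff.2 ?_)
        · have := hxw w hw
          calc w * (x⁻¹ * b) = x⁻¹ * (x * w * x⁻¹) * b := by group
            _ = x⁻¹ * b * w := by rw [← this]; group
        · have hb' : b * u = u * b := mem_centralizer_iff.1 (hU ▸ hu :
            u ∈ V ⊓ centralizer (comp p H B : Set G)).2 b (le_comp hb)
          have hx' : Commute x⁻¹ u := (show Commute x u from mem_centralizer_iff.1 hu.2 x hx).inv_left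
          exact ((hx'.mul_left hb').eq).symm
      exact mem_centralizer_singleton_iff.1 (hV' hv)
    rw [S.faithful, mem_bot, inv_mul_eq_one] at h1
    exact h1 ▸ hx
  refine sup_le ((commutator_mono le_rfl hBE).trans ?_) hBE
  rw [Subgroup.commutator_comm]
  exact CfsgLib.Coprime.commutator_le_of_normalizes core_le_normalizer_comp

theorem fixed_le_fixed {B : Subgroup G} (hB : IsTrans p V H B)
    (hW : ⁅V, comp p H B⁆ = ⁅V, comp p H A⁆) :
    V ⊓ centralizer (comp p H A : Set G) ≤ V ⊓ centralizer (comp p H B : Set G) := by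
  obtain ⟨hnat, -⟩ := comp_natural S hA
  rw [← fixed_core_commutator S hB]
  refine le_inf inf_le_left ?_
  rw [← Subgroup.commutator_eq_bot_iff_le_centralizer, eq_bot_iff, ← hnat.inf_fixed]
  have hR : ⁅core p H, B⁆ ≤ core p H :=
    CfsgLib.Coprime.commutator_le_of_normalizes (hB.le.trans le_normalizer_core)
  refine le_inf ?_ (CfsgLib.Coprime.commutator_le_of_normalizes (hR.trans
    (le_normalizer_inf_centralizer (core_le.trans S.le_normalizer) core_le_normalizer_comp)))
  rw [← hW]
  exact commutator_mono inf_le_left le_sup_left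

theorem plane_le_fixed {B : Subgroup G} (hB : IsTrans p V H B)
    (hdis : ⁅V, comp p H B⁆ ⊓ ⁅V, comp p H A⁆ = ⊥) :
    ⁅V, comp p H B⁆ ≤ V ⊓ centralizer (comp p H A : Set G) := by
  rw [← fixed_core_commutator S hA]
  refine le_inf (comp_plane_le S hB) ?_
  rw [← Subgroup.commutator_eq_bot_iff_le_centralizer, eq_bot_iff, ← hdis]
  refine le_inf ?_ (commutator_mono (comp_plane_le S hB) le_sup_left)
  exact CfsgLib.Coprime.commutator_le_of_normalizes
    ((CfsgLib.Coprime.commutator_le_of_normalizes (hA.le.trans le_normalizer_core)).trans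
      (core_le_normalizer_plane S hB))

theorem comp_eq_or_commute {B : Subgroup G} (hB : IsTrans p V H B) :
    comp p H B = comp p H A ∨ (⁅comp p H A, comp p H B⁆ = ⊥ ∧
      ⁅V, comp p H B⁆ ≤ V ⊓ centralizer (comp p H A : Set G) ∧
      ⁅V, comp p H A⁆ ≤ V ⊓ centralizer (comp p H B : Set G)) := by
  obtain ⟨hnatA, -⟩ := comp_natural S hA
  obtain ⟨hnatB, -⟩ := comp_natural S hB
  have hR : ⁅core p H, A⁆ ≤ core p H :=
    CfsgLib.Coprime.commutator_le_of_normalizes (hA.le.trans le_normalizer_core)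
  have hN : ⁅core p H, A⁆ ≤
      normalizer ((⁅V, comp p H B⁆ ⊓ ⁅V, comp p H A⁆ : Subgroup G) : Set G) :=
    le_normalizer_iff.2 fun r hr z hz =>
      ⟨CfsgLib.Coprime.mem_normalizer_conj (core_le_normalizer_plane S hB (hR hr)) hz.1,
        CfsgLib.Coprime.mem_normalizer_conj (core_le_normalizer_plane S hA (hR hr)) hz.2⟩
  rcases irreducible S hA (T := ⁅V, comp p H B⁆ ⊓ ⁅V, comp p H A⁆) inf_le_right hN with h | h
  · right
    have h1 := plane_le_fixed S hA hB h
    have h2 := plane_le_fixed S hB hA (by rw [inf_comm]; exact h)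
    refine ⟨?_, h1, h2⟩
    refine eq_bot_iff.2 (commutator_le.2 fun e he f hf => ?_)
    refine S.faithful.le ⟨?_, ?_⟩
    · have he' := comp_le hA.le he
      have hf' := comp_le hB.le hf
      rw [commutatorElement_def]
      exact H.mul_mem (H.mul_mem (H.mul_mem he' hf') (H.inv_mem he')) (H.inv_mem hf')
    · exact CfsgLib.Quadratic.commutator_mem_centralizer S.elemAb
        (S.le_normalizer (comp_le hA.le he)) (S.le_normalizer (comp_le hB.le hf))
        (fun v hv => mem_centralizer_iff.1 (h1 (commutator_mem_commutator hv hf)).2 e he)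
        (fun v hv => mem_centralizer_iff.1 (h2 (commutator_mem_commutator hv he)).2 f hf)
  · left
    have hW : ⁅V, comp p H A⁆ = ⁅V, comp p H B⁆ :=
      eq_of_le_of_card_ge (h.ge.trans inf_le_left) (by rw [hnatA.card_plane, hnatB.card_plane])
    have hU := le_antisymm (fixed_le_fixed S hB hA hW) (fixed_le_fixed S hA hB hW.symm)
    exact le_antisymm (comp_subset_of_plane_eq S hA hB hW.symm hU)
      (comp_subset_of_plane_eq S hB hA hW hU.symm)

omit hA in
theorem le_iSup_trans
    (hgen : H = ⨆ A : {A : Subgroup G // A ≤ H ∧ Cfsg.IsBestOffenderOn p V A}, (A : Subgroup G)) :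
    H ≤ ⨆ B : {B : Subgroup G // IsTrans p V H B}, (B : Subgroup G) := by
  conv_lhs => rw [hgen]
  refine iSup_le fun A => ?_
  obtain ⟨s, hs, hsup⟩ := exists_trans_family S A A.2.1 A.2.2
  rw [← hsup]
  exact Finset.sup_le fun B hB =>
    le_iSup (fun B : {B : Subgroup G // IsTrans p V H B} => (B : Subgroup G)) ⟨B, (hs B hB).2⟩

/-- The component is a direct factor of `H`. -/
theorem direct_factor
    (hgen : H = ⨆ A : {A : Subgroup G // A ≤ H ∧ Cfsg.IsBestOffenderOn p V A}, (A : Subgroup G)) :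
    ⁅comp p H A, H ⊓ centralizer ((⁅V, comp p H A⁆ : Subgroup G) : Set G)⁆ = ⊥ ∧
      comp p H A ⊔ (H ⊓ centralizer ((⁅V, comp p H A⁆ : Subgroup G) : Set G)) = H ∧
      ⁅V, H ⊓ centralizer ((⁅V, comp p H A⁆ : Subgroup G) : Set G)⁆ ≤
        V ⊓ centralizer (comp p H A : Set G) := by
  obtain ⟨hnat, -⟩ := comp_natural S hA
  set E := comp p H A with hEdef
  set K := H ⊓ centralizer ((⁅V, E⁆ : Subgroup G) : Set G) with hKdef
  set L := ⨆ B : {B : Subgroup G // IsTrans p V H B ∧ comp p H B ≠ E}, (B : Subgroup G) with hLdef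
  have hL : L ≤ K ⊓ centralizer (E : Set G) := by
    refine iSup_le fun B => ?_
    obtain ⟨h1, -, h3⟩ := (comp_eq_or_commute S hA B.2.1).resolve_left B.2.2
    refine le_inf (le_inf B.2.1.le ?_) ?_
    · exact (le_comp (p := p) (H := H)).trans (Subgroup.le_centralizer_iff.1 (h3.trans inf_le_right))
    · exact (le_comp (p := p) (H := H)).trans (Subgroup.le_centralizer_iff.1
        (Subgroup.commutator_eq_bot_iff_le_centralizer.1 h1))
  have hH : H ≤ E ⊔ L := by
    refine (le_iSup_trans S hgen).trans (iSup_le fun B => ?_)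
    by_cases h : comp p H B = E
    · exact le_sup_of_le_left (le_comp.trans h.le)
    · exact le_sup_of_le_right (le_iSup (fun B : {B : Subgroup G // IsTrans p V H B ∧
        comp p H B ≠ E} => (B : Subgroup G)) ⟨B, B.2, h⟩)
  have hKL : K ≤ L := by
    intro k hk
    obtain ⟨e, he, l, hl, rfl⟩ := CfsgLib.Coprime.exists_mul_of_mem_sup
      ((Subgroup.le_centralizer_iff.1 (hL.trans inf_le_right)).trans (centralizer_le_normalizer _))
      (hH hk.1)
    have h1 : e ∈ E ⊓ centralizer ((⁅V, E⁆ : Subgroup G) : Set G) :=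
      ⟨he, by simpa using Subgroup.mul_mem _ hk.2 (Subgroup.inv_mem _ (hL hl).1.2)⟩
    rw [hnat.faithful, mem_bot] at h1
    rwa [h1, one_mul]
  have hEK : ⁅E, K⁆ = ⊥ := by
    rw [Subgroup.commutator_eq_bot_iff_le_centralizer, Subgroup.le_centralizer_iff]
    exact hKL.trans (hL.trans inf_le_right)
  refine ⟨hEK, le_antisymm (sup_le (comp_le hA.le) inf_le_left)
    (hH.trans (sup_le_sup_left (hL.trans inf_le_left) E)), ?_⟩
  have hrot : ⁅⁅V, K⁆, ⁅core p H, A⁆⁆ = ⊥ := by
    refine Subgroup.commutator_commutator_eq_bot_of_rotate ?_ ?_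
    · have h : ⁅K, ⁅core p H, A⁆⁆ = ⊥ := eq_bot_iff.2 (by
        rw [Subgroup.commutator_comm]
        exact (commutator_mono le_sup_left le_rfl).trans hEK.le)
      rw [h, Subgroup.commutator_eq_bot_iff_le_centralizer]
      exact bot_le
    · rw [Subgroup.commutator_comm ⁅core p H, A⁆ V, Subgroup.commutator_eq_bot_iff_le_centralizer]
      exact (commutator_mono le_rfl le_sup_left).trans
        (Subgroup.le_centralizer_iff.1 inf_le_right)
  rw [← fixed_core_commutator S hA]
  exact le_inf (CfsgLib.Quadratic.commutator_le_self (inf_le_left.trans S.le_normalizer))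
    (Subgroup.commutator_eq_bot_iff_le_centralizer.1 hrot)

omit hA

/-- `E` is a component. -/
def IsComp (p : ℕ) (V H E : Subgroup G) : Prop := ∃ A, IsTrans p V H A ∧ E = comp p H A

/-- The structure theorem. -/
theorem structure_theorem {P : Subgroup G → Prop} (hP : ∀ E, P E ↔ IsComp p V H E)
    (hgen : H = ⨆ A : {A : Subgroup G // A ≤ H ∧ Cfsg.IsBestOffenderOn p V A}, (A : Subgroup G))
    (hH1 : H ≠ ⊥) :
    (p = 2 ∨ p = 3) ∧
      (∀ E : {E : Subgroup G // P E}, H ≤ normalizer ((E : Subgroup G) : Set G) ∧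
        Nonempty (↥(E : Subgroup G) ≃* Matrix.SpecialLinearGroup (Fin 2) (ZMod p)) ∧
        Nat.card ↥(⁅V, (E : Subgroup G)⁆) = p ^ 2) ∧
      iSupIndep (fun E : {E : Subgroup G // P E} => (E : Subgroup G)) ∧
      (⨆ E : {E : Subgroup G // P E}, (E : Subgroup G)) = H ∧
      iSupIndep (fun o : Option {E : Subgroup G // P E} =>
        o.elim (V ⊓ centralizer (H : Set G)) (fun E => ⁅V, (E : Subgroup G)⁆)) ∧
      (V ⊓ centralizer (H : Set G)) ⊔
        (⨆ E : {E : Subgroup G // P E}, ⁅V, (E : Subgroup G)⁆) = V := by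
  classical
  haveI : Fintype {E : Subgroup G // P E} := Fintype.ofFinite _
  have hcomp : ∀ E : {E : Subgroup G // P E}, ∃ A, IsTrans p V H A ∧ (E : Subgroup G) = comp p H A :=
    fun E => (hP E).1 E.2
  have hEH : ∀ E : {E : Subgroup G // P E}, (E : Subgroup G) ≤ H := fun E => by
    obtain ⟨A, hA, hE⟩ := hcomp E
    rw [hE]; exact comp_le hA.le
  have hnat : ∀ E : {E : Subgroup G // P E}, IsNatural p V (E : Subgroup G) := fun E => by
    obtain ⟨A, hA, hE⟩ := hcomp E
    rw [hE]; exact (comp_natural S hA).1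
  have hother : ∀ E F : {E : Subgroup G // P E}, E ≠ F →
      ⁅V, (F : Subgroup G)⁆ ≤ V ⊓ centralizer ((E : Subgroup G) : Set G) := fun E F hne => by
    obtain ⟨A, hA, hE⟩ := hcomp E
    obtain ⟨B, hB, hF⟩ := hcomp F
    rw [hE, hF]
    exact ((comp_eq_or_commute S hA hB).resolve_left fun h =>
      hne (Subtype.ext (hE.trans (h.symm.trans hF.symm)))).2.1
  have htr := le_iSup_trans S hgen
  have hsupH : (⨆ E : {E : Subgroup G // P E}, (E : Subgroup G)) = H := by
    refine le_antisymm (iSup_le hEH) (htr.trans (iSup_le fun B => ?_))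
    exact le_comp.trans (le_iSup (fun E : {E : Subgroup G // P E} => (E : Subgroup G))
      ⟨comp p H B, (hP _).2 ⟨B, B.2, rfl⟩⟩)
  refine ⟨?_, fun E => ?_, fun E => ?_, hsupH, ?_, ?_⟩
  · by_contra hp23
    refine hH1 (eq_bot_iff.2 (htr.trans (iSup_le fun B => ?_)))
    exact absurd (comp_natural S B.2).2 hp23
  · obtain ⟨A, hA, hE⟩ := hcomp E
    refine ⟨?_, (hnat E).iso, (hnat E).card_plane⟩
    obtain ⟨h1, h2, -⟩ := direct_factor S hA hgen
    rw [hE]
    conv_lhs => rw [← h2]
    exact sup_le Subgroup.le_normalizer ((Subgroup.le_centralizer_iff.1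
      (Subgroup.commutator_eq_bot_iff_le_centralizer.1 h1)).trans (centralizer_le_normalizer _))
  · rw [disjoint_iff, eq_bot_iff, ← (hnat E).faithful]
    refine inf_le_inf_left _ (iSup₂_le fun F hF => ?_)
    exact Subgroup.le_centralizer_iff.1 ((hother F E hF).trans inf_le_right)
  · rintro (_ | E)
    · -- the fixed points
      have key : ∀ s : Finset {E : Subgroup G // P E},
          (V ⊓ centralizer (H : Set G)) ⊓ s.sup (fun E => ⁅V, (E : Subgroup G)⁆) = ⊥ := by
        intro s
        induction s using Finset.induction_on with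
        | empty => simp
        | @insert E s hEs ih =>
          rw [Finset.sup_insert, eq_bot_iff]
          rintro z ⟨hzH, hz⟩
          have hsU : s.sup (fun F : {E : Subgroup G // P E} => ⁅V, (F : Subgroup G)⁆) ≤
              V ⊓ centralizer ((E : Subgroup G) : Set G) :=
            Finset.sup_le fun F hF => hother E F fun h => hEs (h ▸ hF)
          have hEV : ⁅V, (E : Subgroup G)⁆ ≤ V :=
            CfsgLib.Quadratic.commutator_le_self ((hEH E).trans S.le_normalizer)
          obtain ⟨w, hw, r, hr, rfl⟩ := CfsgLib.Coprime.exists_mul_of_mem_sup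
            (fun y hy => centralizer_le_normalizer _ (mem_centralizer_iff.2 fun r hr =>
              CfsgLib.Quadratic.elemAb_comm S.elemAb (hsU hr).1 (hEV hy))) hz
          have h1 : w ∈ ⁅V, (E : Subgroup G)⁆ ⊓ (V ⊓ centralizer ((E : Subgroup G) : Set G)) :=
            ⟨hw, by simpa using mul_mem (inf_le_inf_left V (centralizer_le (hEH E)) hzH) (inv_mem (hsU hr))⟩
          rw [(hnat E).inf_fixed, mem_bot] at h1
          subst h1
          rw [one_mul] at hzH ⊢
          exact ih.le ⟨hzH, hr⟩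
      rw [disjoint_iff, eq_bot_iff, ← key Finset.univ]
      refine inf_le_inf le_rfl (iSup₂_le fun o ho => ?_)
      cases o with
      | none => exact absurd rfl ho
      | some F =>
        exact Finset.le_sup (f := fun F : {E : Subgroup G // P E} => ⁅V, (F : Subgroup G)⁆)
          (Finset.mem_univ F)
    · rw [disjoint_iff, eq_bot_iff, ← (hnat E).inf_fixed]
      refine inf_le_inf le_rfl (iSup₂_le fun o ho => ?_)
      cases o with
      | none => exact inf_le_inf_left V (centralizer_le (hEH E))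
      | some F => exact hother E F fun h => ho (h ▸ rfl)
  · refine le_antisymm (sup_le inf_le_left (iSup_le fun E =>
      CfsgLib.Quadratic.commutator_le_self ((hEH E).trans S.le_normalizer))) fun v hv => ?_
    have key : ∀ s : Finset {E : Subgroup G // P E},
        ∃ u ∈ V, v * u⁻¹ ∈ (⨆ E : {E : Subgroup G // P E}, ⁅V, (E : Subgroup G)⁆) ∧
          ∀ E ∈ s, u ∈ centralizer ((E : Subgroup G) : Set G) := by
      intro s
      induction s using Finset.induction_on with
      | empty => exact ⟨v, hv, by simp, by simp⟩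
      | @insert E s hEs ih =>
        obtain ⟨u, hu, hvu, hus⟩ := ih
        have hEV : ⁅V, (E : Subgroup G)⁆ ≤ V :=
          CfsgLib.Quadratic.commutator_le_self ((hEH E).trans S.le_normalizer)
        have hu' : u ∈ ⁅V, (E : Subgroup G)⁆ ⊔ (V ⊓ centralizer ((E : Subgroup G) : Set G)) := by
          rw [(hnat E).sup_fixed]; exact hu
        obtain ⟨w, hw, r, hr, rfl⟩ := CfsgLib.Coprime.exists_mul_of_mem_sup
          (H := ⁅V, (E : Subgroup G)⁆) (N := V ⊓ centralizer ((E : Subgroup G) : Set G))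
          (fun y hy => centralizer_le_normalizer _ (mem_centralizer_iff.2 fun r hr =>
            CfsgLib.Quadratic.elemAb_comm S.elemAb hr.1 (hEV hy))) hu'
        refine ⟨r, hr.1, ?_, fun F hF => ?_⟩
        · have e : v * r⁻¹ = v * (w * r)⁻¹ * w := by
            have hc : Commute w r⁻¹ :=
              (show Commute w r from CfsgLib.Quadratic.elemAb_comm S.elemAb (hEV hw) hr.1).inv_right
            rw [mul_inv_rev, mul_assoc, mul_assoc, inv_mul_cancel, mul_one]
          rw [e]
          exact mul_mem hvu (le_iSup (fun E : {E : Subgroup G // P E} => ⁅V, (E : Subgroup G)⁆) E hw)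
        · rcases Finset.mem_insert.1 hF with rfl | hF
          · exact hr.2
          · have hwF : w ∈ centralizer ((F : Subgroup G) : Set G) :=
              ((hother F E fun h => hEs (h ▸ hF)) hw).2
            simpa using mul_mem (inv_mem hwF) (hus F hF)
    obtain ⟨u, hu, hvu, hus⟩ := key Finset.univ
    have huH : u ∈ V ⊓ centralizer (H : Set G) := by
      refine ⟨hu, mem_centralizer_iff.2 fun h hh => ?_⟩
      have hle : H ≤ centralizer {u} := by
        rw [← hsupH]
        exact iSup_le fun E e he => mem_centralizer_singleton_iff.2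
          (mem_centralizer_iff.1 (hus E (Finset.mem_univ E)) e he)
      exact mem_centralizer_singleton_iff.1 (hle hh)
    have := mul_mem (mem_sup_right hvu :
      v * u⁻¹ ∈ (V ⊓ centralizer (H : Set G)) ⊔ _) (mem_sup_left huH)
    rwa [inv_mul_cancel_right] at this

theorem commutator_core_type (hA : IsTrans p V H A) :
    (p = 2 ∧ IsPGroup 3 ↥(⁅core p H, A⁆)) ∨
      (p = 3 ∧ IsPGroup 2 ↥(⁅core p H, A⁆) ∧ ¬ IsMulCommutative ↥(⁅core p H, A⁆)) := by
  obtain ⟨hnat, hp23⟩ := comp_natural S hA
  obtain ⟨φ⟩ := hnat.iso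
  set R := ⁅core p H, A⁆ with hR
  have hRc : R ≤ core p H :=
    CfsgLib.Coprime.commutator_le_of_normalizes (hA.le.trans le_normalizer_core)
  have hcard : Nat.card SL(2, ZMod p) = p * Nat.card R := by
    rw [← Nat.card_congr φ.toEquiv, comp, sup_comm,
      CfsgLib.Coprime.card_sup_of_disjoint (CfsgLib.Coprime.le_normalizer_commutator_right _ _)
        (eq_bot_iff.2 ((inf_le_inf_right _ hRc).trans
          (by rw [inf_comm]; exact (inf_core_eq_bot (isPGroup_elemAb hA.elemAb_self)).le))),
      hA.card_eq]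
  rcases hp23 with rfl | rfl
  · have h6 : Nat.card SL(2, ZMod 2) = 6 := by rw [Nat.card_eq_fintype_card]; decide
    exact Or.inl ⟨rfl, IsPGroup.of_card (n := 1) (by omega)⟩
  · have h24 : Nat.card SL(2, ZMod 3) = 24 := by rw [Nat.card_eq_fintype_card]; decide +kernel
    have h8 : Nat.card R = 8 := by omega
    refine Or.inr ⟨rfl, IsPGroup.of_card (n := 3) (by omega), fun hcomm => ?_⟩
    have hRE : R ≤ comp 3 H A := le_sup_left
    haveI hn : (R.subgroupOf (comp 3 H A)).Normal := normal_subgroupOf_of_le_normalizer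
      (sup_le Subgroup.le_normalizer (CfsgLib.Coprime.le_normalizer_commutator_right _ _))
    have hidx : (R.subgroupOf (comp 3 H A)).index = 3 := by
      have h := Subgroup.card_mul_index (R.subgroupOf (comp 3 H A))
      rw [CfsgLib.Coprime.card_subgroupOf hRE, h8, Nat.card_congr φ.toEquiv, h24] at h
      omega
    have hmem : ∀ m : SL(2, ZMod 3), m ^ 4 = 1 → (φ.symm m : G) ∈ R := by
      intro m hm
      have h3 := Subgroup.pow_index_mem (R.subgroupOf (comp 3 H A)) (φ.symm m)
      rw [hidx] at h3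
      have h4 : (φ.symm m) ^ 4 = 1 := by rw [← map_pow, hm, map_one]
      have e : φ.symm m = ((φ.symm m) ^ 3)⁻¹ := by
        rw [eq_inv_iff_mul_eq_one, ← pow_succ']; exact h4
      rw [e]
      exact mem_subgroupOf.1 (inv_mem h3)
    obtain ⟨i, j, hi, hj, hij⟩ := exists_noncommuting_sl2_three
    refine hij (φ.symm.injective ?_)
    rw [map_mul, map_mul]
    apply Subtype.ext
    have h := congrArg Subtype.val (hcomm.is_comm.comm (⟨_, hmem i hi⟩ : R) ⟨_, hmem j hj⟩)
    simpa using h

end CfsgLib.FFPair
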