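import Cfsg.Agent.Lib.PLocal5.Offender
import Cfsg.Agent.Lib.PLocal.Thompson

/-! Elementary abelian subgroups of largest order act as best offenders. -/

set_option autoImplicit false

open scoped commutatorElement

namespace CfsgLib.MaxOffender

variable {G : Type*} [Group G] [Finite G] {p : ℕ}

theorem card_sup {V B : Subgroup G} [V.Normal] (hV : Cfsg.IsElementaryAbelian p V)
    (hB : Cfsg.IsElementaryAbelian p B) :
    Cfsg.IsElementaryAbelian p (B ⊔ (V ⊓ Subgroup.centralizer (B : Set G))) ∧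
      Nat.card ↥(B ⊔ (V ⊓ Subgroup.centralizer (B : Set G))) * Nat.card ↥(B ⊓ V) =
        CfsgLib.Offender.measure V B := by
  have hcen : B ≤ Subgroup.centralizer ((V ⊓ Subgroup.centralizer (B : Set G) : Subgroup G) : Set G) :=
    fun b hb => Subgroup.mem_centralizer_iff.2 fun v hv =>
      (Subgroup.mem_centralizer_iff.1 hv.2 b hb).symm
  refine ⟨CfsgLib.PLocal.elemAb_sup hB (CfsgLib.PLocal.elemAb_of_le hV inf_le_left) hcen, ?_⟩
  rw [CfsgLib.Offender.measure_def,
    ← CfsgLib.Coprime.card_sup_mul_card_inf (hcen.trans (Subgroup.centralizer_le_normalizer _))]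
  congr 2
  refine congrArg (fun K : Subgroup G => ↥K) ?_
  refine le_antisymm (fun x hx => ⟨⟨hx.2, ?_⟩, hx.1⟩) (fun x hx => ⟨hx.2, hx.1.1⟩)
  exact Subgroup.mem_centralizer_iff.2 fun b hb => CfsgLib.Quadratic.elemAb_comm hB hb hx.1

variable {V A : Subgroup G} [V.Normal]

theorem fixed_le (hV : Cfsg.IsElementaryAbelian p V)
    (hA : A ∈ Cfsg.maxElementaryAbelianSubgroups p G) :
    V ⊓ Subgroup.centralizer (A : Set G) = A ⊓ V := by
  refine le_antisymm (le_inf ?_ inf_le_left) (fun x hx => ⟨hx.2, ?_⟩)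
  · have h := (card_sup hV hA.1).1
    have heq := Subgroup.eq_of_le_of_card_ge le_sup_left (hA.2 _ h)
    exact le_sup_right.trans heq.ge
  · exact Subgroup.mem_centralizer_iff.2 fun b hb => CfsgLib.Quadratic.elemAb_comm hA.1 hb hx.1

theorem isBestOffenderOn (hV : Cfsg.IsElementaryAbelian p V)
    (hA : A ∈ Cfsg.maxElementaryAbelianSubgroups p G) : Cfsg.IsBestOffenderOn p V A := by
  refine ⟨fun B hBA => ?_, ?_, fun a ha => ?_⟩
  · have hB : Cfsg.IsElementaryAbelian p B := CfsgLib.PLocal.elemAb_of_le hA.1 hBA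
    obtain ⟨h1, h2⟩ := card_sup (V := V) hV hB
    rw [CfsgLib.Offender.measure_def] at h2
    rw [← h2, fixed_le hV hA]
    exact Nat.mul_le_mul (hA.2 _ h1) (Subgroup.card_le_of_le (inf_le_inf_right _ hBA))
  · rw [Subgroup.commutator_eq_bot_iff_le_centralizer.2 (show A ≤ Subgroup.centralizer (A : Set G) from
      fun a ha => Subgroup.mem_centralizer_iff.2 fun b hb => CfsgLib.Quadratic.elemAb_comm hA.1 hb ha)]
    exact bot_le
  · rw [hA.1.2 a ha]; exact Subgroup.one_mem _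

theorem replacement [Fact p.Prime] (hV : Cfsg.IsElementaryAbelian p V)
    (hA : A ∈ Cfsg.maxElementaryAbelianSubgroups p G) :
    (⁅V, A⁆ ⊔ (A ⊓ Subgroup.centralizer ((⁅V, A⁆ : Subgroup G) : Set G))) ∈
        Cfsg.maxElementaryAbelianSubgroups p G ∧
      ⁅⁅V, ⁅V, A⁆ ⊔ (A ⊓ Subgroup.centralizer ((⁅V, A⁆ : Subgroup G) : Set G))⁆,
        ⁅V, A⁆ ⊔ (A ⊓ Subgroup.centralizer ((⁅V, A⁆ : Subgroup G) : Set G))⁆ = ⊥ ∧
      (⁅V, A⁆ ≠ ⊥ →
        ⁅V, ⁅V, A⁆ ⊔ (A ⊓ Subgroup.centralizer ((⁅V, A⁆ : Subgroup G) : Set G))⁆ ≠ ⊥) := by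
  have hAV : A ≤ Subgroup.normalizer (V : Set G) := by simp [Subgroup.normalizer_eq_top]
  have hbo := isBestOffenderOn hV hA
  obtain ⟨-, hm, hf⟩ := CfsgLib.Offender.replacement hV hAV hbo.2.1 hbo.1 (le_refl V)
  obtain ⟨-, -, hne⟩ := CfsgLib.Offender.timmesfeld hV hAV hbo (le_refl V)
  set W := ⁅V, A⁆ with hW
  set B := A ⊓ Subgroup.centralizer (W : Set G) with hB
  have hWV : W ≤ V := CfsgLib.Quadratic.commutator_le_self hAV
  have hBe : Cfsg.IsElementaryAbelian p B := CfsgLib.PLocal.elemAb_of_le hA.1 inf_le_left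
  have hfix := fixed_le hV hA
  have hCA : V ⊓ Subgroup.centralizer (A : Set G) ≤ B := by
    intro x hx
    have hxA : x ∈ A := (hfix.le hx).1
    exact ⟨hxA, Subgroup.mem_centralizer_iff.2 fun w hw =>
      CfsgLib.Quadratic.elemAb_comm hV (hWV hw) hx.1⟩
  have hsup : W ⊔ B = B ⊔ (V ⊓ Subgroup.centralizer (B : Set G)) := by
    rw [hf]
    refine le_antisymm (sup_le (le_sup_left.trans le_sup_right) le_sup_left)
      (sup_le le_sup_right (sup_le le_sup_left (hCA.trans le_sup_right)))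
  obtain ⟨h1, h2⟩ := card_sup (V := V) hV hBe
  have hBV : B ⊓ V = A ⊓ V := by
    refine le_antisymm (inf_le_inf_right _ inf_le_left) (le_inf ?_ inf_le_right)
    rw [← hfix]; exact hCA
  have h3 := (card_sup (V := V) hV hA.1).2
  rw [hfix, sup_eq_left.2 inf_le_left] at h3
  rw [hm, ← h3, hBV] at h2
  have hcard := Nat.eq_of_mul_eq_mul_right Nat.card_pos h2
  rw [← hsup] at h1 hcard
  refine ⟨⟨h1, fun C hC => hcard ▸ hA.2 C hC⟩, ?_, fun h hb => hne h ?_⟩
  · have hle : ⁅V, W ⊔ B⁆ ≤ W := by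
      rw [Subgroup.commutator_le]
      intro v hv x hx
      obtain ⟨w, hw, b, hb, rfl⟩ := CfsgLib.Coprime.exists_mul_of_mem_sup (H := W) (N := B)
        (fun w hw => Subgroup.centralizer_le_normalizer _ (Subgroup.mem_centralizer_iff.2 fun b hb =>
          (Subgroup.mem_centralizer_iff.1 hb.2 w hw).symm)) hx
      have h1 : ⁅v, w * b⁆ = ⁅v, w⁆ * (w * ⁅v, b⁆ * w⁻¹) := by simp [commutatorElement_def, mul_assoc]
      rw [h1, commutatorElement_eq_one_iff_mul_comm.2 (CfsgLib.Quadratic.elemAb_comm hV hv (hWV hw)),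
        one_mul]
      exact W.mul_mem (W.mul_mem hw (Subgroup.commutator_mem_commutator hv hb.1)) (W.inv_mem hw)
    refine le_bot_iff.1 ((Subgroup.commutator_mono hle le_rfl).trans (le_bot_iff.2 ?_))
    rw [Subgroup.commutator_eq_bot_iff_le_centralizer]
    intro w hw
    exact Subgroup.mem_centralizer_iff.2 fun x hx =>
      CfsgLib.Quadratic.elemAb_comm h1 hx (Subgroup.mem_sup_left hw)
  · exact le_bot_iff.1 (hb ▸ Subgroup.commutator_mono le_rfl le_sup_right)

end CfsgLib.MaxOffender
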