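import Mathlib

/-! Elements of `SL₂` over a field: traces, commutants, involutions, unipotents. -/

set_option autoImplicit false

open scoped MatrixGroups

namespace CfsgLib.SL2Unipotent

open Matrix

variable {K : Type*} [Field K]

/-- `(1 μ; 0 1)`. -/
def up (μ : K) : SL(2, K) := ⟨!![1, μ; 0, 1], by simp [Matrix.det_fin_two]⟩

/-- `(1 0; μ 1)`. -/
def low (μ : K) : SL(2, K) := ⟨!![1, 0; μ, 1], by simp [Matrix.det_fin_two]⟩

@[simp] theorem coe_up (μ : K) : (up μ : Matrix (Fin 2) (Fin 2) K) = !![1, μ; 0, 1] := rfl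

@[simp] theorem coe_low (μ : K) : (low μ : Matrix (Fin 2) (Fin 2) K) = !![1, 0; μ, 1] := rfl

/-- The trace of an element of `SL₂`. -/
def tr (g : SL(2, K)) : K := (g : Matrix (Fin 2) (Fin 2) K).trace

theorem tr_eq (g : SL(2, K)) : tr g = g.1 0 0 + g.1 1 1 := Matrix.trace_fin_two _

theorem det_eq (g : SL(2, K)) : g.1 0 0 * g.1 1 1 - g.1 0 1 * g.1 1 0 = 1 := by
  rw [← Matrix.det_fin_two]; exact g.2

theorem coe_mul_self (g : SL(2, K)) : g.1 * g.1 = tr g • g.1 - 1 := by
  have h := det_eq g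
  ext i j
  fin_cases i <;> fin_cases j <;>
    simp [Matrix.mul_apply, Fin.sum_univ_two, tr_eq] <;> first | linear_combination h | linear_combination (-1 : K) * h | ring1

theorem up_pow (μ : K) (n : ℕ) : up μ ^ n = up (n * μ) := by
  induction n with
  | zero => ext i j; fin_cases i <;> fin_cases j <;> simp
  | succ n ih =>
    rw [pow_succ, ih]
    ext i j; fin_cases i <;> fin_cases j <;>
      simp [Matrix.mul_apply, Fin.sum_univ_two, Matrix.SpecialLinearGroup.coe_mul] <;> ring

theorem low_pow (μ : K) (n : ℕ) : low μ ^ n = low (n * μ) := by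
  induction n with
  | zero => ext i j; fin_cases i <;> fin_cases j <;> simp
  | succ n ih =>
    rw [pow_succ, ih]
    ext i j; fin_cases i <;> fin_cases j <;>
      simp [Matrix.mul_apply, Fin.sum_univ_two, Matrix.SpecialLinearGroup.coe_mul] <;> ring

theorem up_zero : up (0 : K) = 1 := by ext i j; fin_cases i <;> fin_cases j <;> simp

theorem low_zero : low (0 : K) = 1 := by ext i j; fin_cases i <;> fin_cases j <;> simp

theorem up_ne_one {μ : K} (h : μ ≠ 0) : up μ ≠ 1 := fun he => h (by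
  simpa using congrArg (fun g : SL(2, K) => g.1 0 1) he)

theorem low_ne_one {μ : K} (h : μ ≠ 0) : low μ ≠ 1 := fun he => h (by
  simpa using congrArg (fun g : SL(2, K) => g.1 1 0) he)

theorem up_pow_char {p : ℕ} [CharP K p] (μ : K) : up μ ^ p = 1 := by
  rw [up_pow, CharP.cast_eq_zero, zero_mul, up_zero]

theorem low_pow_char {p : ℕ} [CharP K p] (μ : K) : low μ ^ p = 1 := by
  rw [low_pow, CharP.cast_eq_zero, zero_mul, low_zero]

theorem tr_up_mul_low (μ : K) : tr (up μ * low 1) = 2 + μ := by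
  rw [tr_eq]; simp [Matrix.SpecialLinearGroup.coe_mul]; ring

/-- `g` is not scalar. -/
def NonScalar (g : SL(2, K)) : Prop := ∀ c : K, g.1 ≠ c • 1

theorem scalar_cases {g : SL(2, K)} {c : K} (h : g.1 = c • 1) : g = 1 ∨ g = -1 := by
  have hd := g.2
  rw [h, Matrix.det_smul, Matrix.det_one, mul_one, Fintype.card_fin] at hd
  rcases eq_or_eq_neg_of_sq_eq_sq c 1 (by rw [hd, one_pow]) with rfl | rfl
  · left; exact Subtype.ext (by rw [h, one_smul]; rfl)
  · right; exact Subtype.ext (by rw [h, neg_smul, one_smul]; rfl)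

theorem nonScalar_of_ne {g : SL(2, K)} (h1 : g ≠ 1) (h2 : g ≠ -1) : NonScalar g := fun _ h =>
  (scalar_cases h).elim h1 h2

theorem NonScalar.ne_one {g : SL(2, K)} (h : NonScalar g) : g ≠ 1 := fun he =>
  h 1 (by rw [he]; simp)

theorem NonScalar.ne_neg_one {g : SL(2, K)} (h : NonScalar g) : g ≠ -1 := fun he =>
  h (-1) (by rw [he]; simp)

theorem eq_add_smul_of_commute {M N : Matrix (Fin 2) (Fin 2) K} (hM : ∀ c : K, M ≠ c • 1)
    (h : M * N = N * M) : ∃ α β : K, N = α • 1 + β • M := by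
  have e00 := congrFun (congrFun h 0) 0
  have e01 := congrFun (congrFun h 0) 1
  have e10 := congrFun (congrFun h 1) 0
  simp [Matrix.mul_apply, Fin.sum_univ_two] at e00 e01 e10
  by_cases h01 : M 0 1 = 0
  · by_cases h10 : M 1 0 = 0
    · have hne : M 0 0 - M 1 1 ≠ 0 := fun he => hM (M 0 0) (by
        ext i j; fin_cases i <;> fin_cases j <;> simp [h01, h10, (sub_eq_zero.1 he).symm])
      refine ⟨N 0 0 - (N 0 0 - N 1 1) / (M 0 0 - M 1 1) * M 0 0,
        (N 0 0 - N 1 1) / (M 0 0 - M 1 1), ?_⟩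
      rw [h01] at e01; rw [h10] at e10
      ext i j; fin_cases i <;> fin_cases j <;> simp [h01, h10]
      · exact (mul_eq_zero.1 (show (M 0 0 - M 1 1) * N 0 1 = 0 by linear_combination e01)).resolve_left hne
      · exact (mul_eq_zero.1 (show (M 0 0 - M 1 1) * N 1 0 = 0 by linear_combination -e10)).resolve_left hne
      · field_simp; ring
    · refine ⟨N 0 0 - N 1 0 / M 1 0 * M 0 0, N 1 0 / M 1 0, ?_⟩
      ext i j; fin_cases i <;> fin_cases j <;> simp [h10]
      · rw [h01] at e00 ⊢
        have : N 0 1 * M 1 0 = 0 := by linear_combination -e00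
        rw [(mul_eq_zero.1 this).resolve_right h10]; simp
      · field_simp; linear_combination -e10
  · refine ⟨N 0 0 - N 0 1 / M 0 1 * M 0 0, N 0 1 / M 0 1, ?_⟩
    ext i j; fin_cases i <;> fin_cases j <;> simp [h01]
    · field_simp; linear_combination e00
    · field_simp; linear_combination e01

theorem eq_add_smul {g h : SL(2, K)} (hg : NonScalar g) (hc : Commute g h) :
    ∃ α β : K, h.1 = α • 1 + β • g.1 :=
  eq_add_smul_of_commute hg (congrArg Subtype.val hc.eq)

theorem commute_of_add_smul {g h : SL(2, K)} {α β : K} (e : h.1 = α • 1 + β • g.1) : Commute g h :=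
  Subtype.ext (by simp [Matrix.SpecialLinearGroup.coe_mul, e, mul_add, add_mul])

theorem commute_trans {g h k : SL(2, K)} (hg : NonScalar g) (h1 : Commute g h) (h2 : Commute g k) :
    Commute h k := by
  obtain ⟨α, β, e⟩ := eq_add_smul hg h1
  obtain ⟨γ, δ, e'⟩ := eq_add_smul hg h2
  refine Subtype.ext ?_
  simp [Matrix.SpecialLinearGroup.coe_mul, e, e', mul_add, add_mul, smul_smul, mul_comm]
  abel

theorem coe_inv_eq (g : SL(2, K)) : (g⁻¹).1 = tr g • 1 - g.1 := by
  rw [Matrix.SpecialLinearGroup.coe_inv, Matrix.adjugate_fin_two]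
  ext i j; fin_cases i <;> fin_cases j <;> simp [tr_eq]

theorem tr_conj (a g : SL(2, K)) : tr (a * g * a⁻¹) = tr g := by
  unfold tr
  rw [Matrix.SpecialLinearGroup.coe_mul, Matrix.trace_mul_comm, ← Matrix.SpecialLinearGroup.coe_mul,
    inv_mul_cancel_left]

/-- A conjugate commuting with a non-scalar, non-unipotent element is that element or its inverse. -/
theorem eq_or_eq_inv {x a : SL(2, K)} (h2 : (2 : K) ≠ 0) (hx : NonScalar x) (ht : tr x ^ 2 ≠ 4)
    (hc : Commute x (a * x * a⁻¹)) : a * x * a⁻¹ = x ∨ a * x * a⁻¹ = x⁻¹ := by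
  obtain ⟨α, β, e⟩ := eq_add_smul hx hc
  have htr : 2 * α + β * tr x = tr x := by
    have h := tr_conj a x
    rw [tr_eq, e] at h
    rw [tr_eq] at h ⊢
    simp at h
    linear_combination h
  have hdet := det_eq (a * x * a⁻¹)
  rw [e] at hdet
  simp at hdet
  have hd := det_eq x
  rw [tr_eq] at htr ht
  have hb : (β ^ 2 - 1) * (4 - (x.1 0 0 + x.1 1 1) ^ 2) = 0 := by
    linear_combination 4 * hdet - (2 * α + β * (x.1 0 0 + x.1 1 1) + (x.1 0 0 + x.1 1 1)) * htr - 4 * β ^ 2 * hd
  rcases mul_eq_zero.1 hb with hb | hb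
  · rcases eq_or_eq_neg_of_sq_eq_sq β 1 (by linear_combination hb) with rfl | rfl
    · left
      have : α = 0 := (mul_eq_zero.1 (show 2 * α = 0 by linear_combination htr)).resolve_left h2
      exact Subtype.ext (by rw [e, this, zero_smul, zero_add, one_smul])
    · right
      have : α = tr x := by
        rw [tr_eq]
        exact mul_left_cancel₀ h2 (by linear_combination htr)
      exact Subtype.ext (by rw [e, coe_inv_eq, this, neg_smul, one_smul, sub_eq_add_neg])
  · exact absurd (by linear_combination -hb) ht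

/-- A normalizing element of odd order centralizes. -/
theorem commute_of_conj {x a : SL(2, K)} (h2 : (2 : K) ≠ 0) (hx : NonScalar x) (ht : tr x ^ 2 ≠ 4)
    {n : ℕ} (hn : Odd n) (ha : a ^ n = 1) (hc : Commute x (a * x * a⁻¹)) : Commute a x := by
  have hsq : Commute (a ^ 2) x := by
    rcases eq_or_eq_inv h2 hx ht hc with h | h
    · exact (show Commute a x from mul_inv_eq_iff_eq_mul.1 h).pow_left 2
    · show a ^ 2 * x = x * a ^ 2
      calc a ^ 2 * x = a * (a * x * a⁻¹) * a := by rw [pow_two]; group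
        _ = a * x⁻¹ * a := by rw [h]
        _ = (a * x * a⁻¹)⁻¹ * (a * a) := by group
        _ = x * a ^ 2 := by rw [h, inv_inv, pow_two]
  obtain ⟨k, rfl⟩ := hn
  have : a = (a ^ 2) ^ (k + 1) := by
    rw [← pow_mul, show 2 * (k + 1) = 2 * k + 1 + 1 by ring, pow_succ, ha, one_mul]
  rw [this]; exact hsq.pow_left _

theorem eq_neg_one_of_mul_self {g : SL(2, K)} (h2 : (2 : K) ≠ 0) (h : g * g = 1) (hg : g ≠ 1) :
    g = -1 := by
  have e := coe_mul_self g
  rw [← Matrix.SpecialLinearGroup.coe_mul, h, Matrix.SpecialLinearGroup.coe_one, eq_sub_iff_add_eq] at e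
  by_cases ht : tr g = 0
  · rw [ht, zero_smul] at e
    have := congrFun (congrFun e 0) 0
    simp at this
    exact absurd (by linear_combination this) h2
  · refine (scalar_cases (c := 2 / tr g) ?_).resolve_left hg
    rw [div_eq_inv_mul, ← smul_smul, two_smul, e, inv_smul_smul₀ ht]

theorem neg_one_ne_one (h2 : (2 : K) ≠ 0) : (-1 : SL(2, K)) ≠ 1 := by
  intro h
  have := congrArg (fun g : SL(2, K) => g.1 0 0) h
  simp at this
  exact h2 (by linear_combination -this)

theorem tr_eq_two_of_pow_char {p : ℕ} [hp : Fact p.Prime] [CharP K p] {g : SL(2, K)}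
    (hg : g ^ p = 1) : tr g = 2 := by
  have : CharP (Matrix (Fin 2) (Fin 2) K) p := inferInstance
  have h : IsNilpotent (g.1 - 1) := by
    refine ⟨p, ?_⟩
    rw [sub_pow_char_of_commute p (Commute.one_right _), one_pow, ← Matrix.SpecialLinearGroup.coe_pow,
      hg, Matrix.SpecialLinearGroup.coe_one, sub_self]
  have := (Matrix.isNilpotent_trace_of_isNilpotent h).eq_zero
  rw [Matrix.trace_sub, Matrix.trace_one, sub_eq_zero, Fintype.card_fin] at this
  simpa [tr] using this

theorem eq_one_of_commute {p : ℕ} [hp : Fact p.Prime] [CharP K p] {x g : SL(2, K)}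
    (hp2 : p ≠ 2) (hx : NonScalar x) (ht : tr x ^ 2 ≠ 4) (hg : g ^ p = 1) (hc : Commute x g) :
    g = 1 := by
  have h2 : (2 : K) ≠ 0 := Ring.two_ne_zero (by rw [ringChar.eq K p]; exact hp2)
  obtain ⟨α, β, e⟩ := eq_add_smul hx hc
  have htg := tr_eq_two_of_pow_char hg
  have hdet := det_eq g
  have hd := det_eq x
  rw [tr_eq, e] at htg
  rw [e] at hdet
  simp at htg hdet
  rw [tr_eq] at ht
  have hb : β ^ 2 * (4 - (x.1 0 0 + x.1 1 1) ^ 2) = 0 := by
    linear_combination 4 * hdet - (2 * α + β * (x.1 0 0 + x.1 1 1) + 2) * htg - 4 * β ^ 2 * hd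
  have hb0 : β = 0 := sq_eq_zero_iff.1 ((mul_eq_zero.1 hb).resolve_right fun h => ht (by linear_combination -h))
  rcases scalar_cases (g := g) (c := α) (by rw [e, hb0, zero_smul, add_zero]) with h | h
  · exact h
  · exfalso
    rw [h, Odd.neg_pow (hp.out.odd_of_ne_two hp2), one_pow] at hg
    exact neg_one_ne_one h2 hg

end CfsgLib.SL2Unipotent
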