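import Cfsg.Prelude.Def_PLocal
import Cfsg.Agent.Lib.PLocal5.Quadratic
import Cfsg.Agent.Lib.PLocal5.SL2Basic
import Cfsg.Agent.Lib.OddOrder.QuadraticPair

/-! Two quadratically acting elements: either all is unipotent, or a map to `SL₂`. -/

set_option autoImplicit false

open scoped MatrixGroups commutatorElement

namespace CfsgLib.QuadPair

open CfsgLib.SL2Unipotent

universe u v w

section Basic

variable {K : Type u} {W : Type v} [Field K] [AddCommGroup W] [Module K W]
  {H : Type w} [Group H] (ρ : H →* Module.End K W) {a b : H}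

/-- An eigenvector of `(ρ a - 1) (ρ b - 1)` gives a homomorphism to `SL₂`, intertwined by an
embedding of the plane. -/
theorem exists_hom_of_eigen (hgen : Subgroup.closure ({a, b} : Set H) = ⊤)
    (ha : (ρ a - 1) * (ρ a - 1) = 0) (hb : (ρ b - 1) * (ρ b - 1) = 0) {μ : K} {v : W} (hμ : μ ≠ 0)
    (hv : v ≠ 0) (hT : ((ρ a - 1) * (ρ b - 1)) v = μ • v) :
    ∃ (φ : H →* SL(2, K)) (ι : (Fin 2 → K) →ₗ[K] W), φ a = up μ ∧ φ b = low 1 ∧
      Function.Injective ι ∧ ∀ (h : H) (z : Fin 2 → K), ρ h (ι z) = ι ((φ h).1.mulVec z) := by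
  set w := (ρ b - 1 : Module.End K W) v with hw
  have hAv : (ρ a - 1 : Module.End K W) v = 0 := by
    have := congrArg (ρ a - 1 : Module.End K W) hT
    rw [map_smul, ← Module.End.mul_apply, ← mul_assoc, ha, zero_mul, LinearMap.zero_apply] at this
    exact (smul_eq_zero.mp this.symm).resolve_left hμ
  have hBw : (ρ b - 1 : Module.End K W) w = 0 := by
    rw [hw, ← Module.End.mul_apply, hb, LinearMap.zero_apply]
  have hAw : (ρ a - 1 : Module.End K W) w = μ • v := hT
  rw [LinearMap.sub_apply, Module.End.one_apply, sub_eq_iff_eq_add] at hAv hBw hAw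
  have hbv : ρ b v = v + w := by simp [hw]
  let ι : (Fin 2 → K) →ₗ[K] W :=
    { toFun := fun z => z 0 • v + z 1 • w
      map_add' := fun z z' => by simp [add_smul]; abel
      map_smul' := fun c z => by simp [smul_smul, smul_add] }
  have hι : Function.Injective ι := by
    rw [injective_iff_map_eq_zero]
    intro z hz
    change z 0 • v + z 1 • w = 0 at hz
    have h1 : z 1 = 0 := by
      have := congrArg (ρ a) hz
      simp only [map_add, map_smul, hAv, hAw, zero_add, map_zero] at this
      have h' : (z 1 * μ) • v = 0 := by linear_combination (norm := module) this - hz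
      exact (mul_eq_zero.1 ((smul_eq_zero.1 h').resolve_right hv)).resolve_right hμ
    rw [h1, zero_smul, add_zero] at hz
    funext i
    fin_cases i
    · exact (smul_eq_zero.1 hz).resolve_right hv
    · exact h1
  have hex : ∀ h : H, ∃ M : SL(2, K), ∀ z, ρ h (ι z) = ι (M.1.mulVec z) := by
    intro h
    have hh : h ∈ Subgroup.closure ({a, b} : Set H) := hgen ▸ Subgroup.mem_top h
    induction hh using Subgroup.closure_induction with
    | mem x hx =>
      rcases hx with rfl | rfl
      · refine ⟨up μ, fun z => ?_⟩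
        simp only [ι, LinearMap.coe_mk, AddHom.coe_mk, map_add, map_smul, hAv, hAw]
        simp [Matrix.mulVec, dotProduct, Fin.sum_univ_two]
        module
      · refine ⟨low 1, fun z => ?_⟩
        simp only [ι, LinearMap.coe_mk, AddHom.coe_mk, map_add, map_smul, hbv, hBw]
        simp [Matrix.mulVec, dotProduct, Fin.sum_univ_two]
        module
    | one => exact ⟨1, fun z => by simp⟩
    | mul x y _ _ hx hy =>
      obtain ⟨M, hM⟩ := hx
      obtain ⟨N, hN⟩ := hy
      exact ⟨M * N, fun z => by
        rw [map_mul, Module.End.mul_apply, hN, hM, Matrix.SpecialLinearGroup.coe_mul,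
          Matrix.mulVec_mulVec]⟩
    | inv x _ hx =>
      obtain ⟨M, hM⟩ := hx
      refine ⟨M⁻¹, fun z => ?_⟩
      have hz : ι z = ρ x (ι ((M⁻¹).1.mulVec z)) := by
        rw [hM, Matrix.mulVec_mulVec, ← Matrix.SpecialLinearGroup.coe_mul, mul_inv_cancel,
          Matrix.SpecialLinearGroup.coe_one, Matrix.one_mulVec]
      conv_lhs => rw [hz, ← Module.End.mul_apply, ← map_mul, inv_mul_cancel, map_one,
        Module.End.one_apply]
  choose F hF using hex
  have huniq : ∀ (h : H) (M : SL(2, K)), (∀ z, ρ h (ι z) = ι (M.1.mulVec z)) → F h = M := by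
    intro h M hM
    have : (F h).1.mulVec = M.1.mulVec := funext fun z => hι ((hF h z).symm.trans (hM z))
    exact Subtype.ext (Matrix.mulVec_injective this)
  refine ⟨MonoidHom.mk' F fun x y => huniq _ _ fun z => ?_, ι, ?_, ?_, hι, hF⟩
  · rw [map_mul, Module.End.mul_apply, hF, hF, Matrix.SpecialLinearGroup.coe_mul,
      Matrix.mulVec_mulVec]
  · refine huniq a _ fun z => ?_
    simp only [ι, LinearMap.coe_mk, AddHom.coe_mk, map_add, map_smul, hAv, hAw]
    simp [Matrix.mulVec, dotProduct, Fin.sum_univ_two]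
    module
  · refine huniq b _ fun z => ?_
    simp only [ι, LinearMap.coe_mk, AddHom.coe_mk, map_add, map_smul, hbv, hBw]
    simp [Matrix.mulVec, dotProduct, Fin.sum_univ_two]
    module

/-- Images under all words of length `n` in two endomorphisms. -/
def imgSeries (A B : Module.End K W) : ℕ → Submodule K W
  | 0 => ⊤
  | n + 1 => (imgSeries A B n).map A ⊔ (imgSeries A B n).map B

/-- If `(ρ a - 1) (ρ b - 1)` is nilpotent then every element acts unipotently. -/
theorem isNilpotent_sub_one_all [Finite H] (hgen : Subgroup.closure ({a, b} : Set H) = ⊤)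
    (ha : (ρ a - 1) * (ρ a - 1) = 0) (hb : (ρ b - 1) * (ρ b - 1) = 0)
    (hT : IsNilpotent ((ρ a - 1) * (ρ b - 1))) (h : H) : IsNilpotent (ρ h - 1) := by
  set A := ρ a - 1 with hA
  set B := ρ b - 1 with hB
  obtain ⟨k, hk⟩ := hT
  -- the descending series of images
  set F := imgSeries A B with hFdef
  have hF : ∀ n, F (n + 1) = (F n).map A ⊔ (F n).map B := fun n => rfl
  have hanti : ∀ n, F (n + 1) ≤ F n := by
    intro n
    induction n with
    | zero => exact le_top
    | succ n ih => rw [hF, hF n]; exact sup_le_sup (Submodule.map_mono ih) (Submodule.map_mono ih)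
  have heven : ∀ j, F (2 * j + 1) ≤
      LinearMap.range ((A * B) ^ j * A) ⊔ LinearMap.range ((B * A) ^ j * B) := by
    have hrange : ∀ (f g : Module.End K W), (LinearMap.range f).map g = LinearMap.range (g * f) :=
      fun f g => (LinearMap.range_comp f g).symm
    have h1 : ∀ j, A * ((A * B) ^ j * A) = 0 ∧ B * ((B * A) ^ j * B) = 0 := by
      intro j
      cases j with
      | zero => exact ⟨by rw [pow_zero, one_mul, ha], by rw [pow_zero, one_mul, hb]⟩
      | succ j =>
        constructor
        · rw [pow_succ', ← mul_assoc, ← mul_assoc, ← mul_assoc, ha]; simp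
        · rw [pow_succ', ← mul_assoc, ← mul_assoc, ← mul_assoc, hb]; simp
    intro j
    induction j with
    | zero =>
      simp only [pow_zero, one_mul, hF]
      refine sup_le_sup ?_ ?_ <;> exact LinearMap.map_le_range
    | succ j ih =>
      rw [show 2 * (j + 1) + 1 = 2 * j + 1 + 1 + 1 by ring]
      have hstep : F (2 * j + 1 + 1) ≤
          LinearMap.range (B * ((A * B) ^ j * A)) ⊔ LinearMap.range (A * ((B * A) ^ j * B)) := by
        rw [hF]
        refine sup_le ?_ ?_ <;> refine (Submodule.map_mono ih).trans ?_ <;>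
          rw [Submodule.map_sup, hrange, hrange]
        · rw [(h1 j).1]; simp
        · rw [(h1 j).2]; simp
      rw [hF]
      refine sup_le ?_ ?_ <;> refine (Submodule.map_mono hstep).trans ?_ <;>
        rw [Submodule.map_sup, hrange, hrange]
      · refine sup_le (le_sup_left.trans' ?_) ?_
        · rw [pow_succ']; simp [mul_assoc]
        · rw [← mul_assoc A A, ha]; simp
      · refine sup_le ?_ (le_sup_right.trans' ?_)
        · rw [← mul_assoc B B, hb]; simp
        · rw [pow_succ']; simp [mul_assoc]
  have hBA : (B * A) ^ (k + 1) = 0 := by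
    have hmove : ∀ j : ℕ, (B * A) ^ (j + 1) = B * (A * B) ^ j * A := by
      intro j
      induction j with
      | zero => simp
      | succ j ih => rw [pow_succ, ih, pow_succ (A * B)]; noncomm_ring
    rw [hmove, hk, mul_zero, zero_mul]
  have hbot : F (2 * (k + 1) + 1) = ⊥ := by
    refine le_bot_iff.1 ((heven (k + 1)).trans ?_)
    rw [hBA, pow_succ (A * B), hk]; simp
  have hkey : ∀ g : H, ∀ n, ∀ z ∈ F n, (ρ g - 1 : Module.End K W) z ∈ F (n + 1) := by
    intro g
    have hg : g ∈ Subgroup.closure ({a, b} : Set H) := hgen ▸ Subgroup.mem_top g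
    rw [← SetLike.mem_coe, ← Subgroup.coe_toSubmonoid,
      Subgroup.closure_toSubmonoid_of_finite] at hg
    induction hg using Submonoid.closure_induction with
    | mem x hx =>
      intro n z hz
      rw [hF]
      rcases hx with rfl | rfl
      · exact Submodule.mem_sup_left ⟨z, hz, rfl⟩
      · exact Submodule.mem_sup_right ⟨z, hz, rfl⟩
    | one => intro n z _; simp
    | mul x y _ _ hx hy =>
      intro n z hz
      have e : (ρ (x * y) - 1 : Module.End K W) z =
          (ρ x - 1 : Module.End K W) ((ρ y - 1 : Module.End K W) z) +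
            (ρ x - 1 : Module.End K W) z + (ρ y - 1 : Module.End K W) z := by
        simp [map_mul, map_sub] <;> abel
      rw [e]
      exact add_mem (add_mem (hanti (n + 1) (hx (n + 1) _ (hy n z hz))) (hx n z hz)) (hy n z hz)
  refine ⟨2 * (k + 1) + 1, LinearMap.ext fun z => ?_⟩
  have : ∀ n, ((ρ h - 1) ^ n) z ∈ F n := by
    intro n
    induction n with
    | zero => trivial
    | succ n ih => rw [pow_succ', Module.End.mul_apply]; exact hkey h n _ ih
  have := this (2 * (k + 1) + 1)
  rw [hbot, Submodule.mem_bot] at this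
  exact this

theorem eq_one_of_isNilpotent_pow {p : ℕ} [hp : Fact p.Prime] [CharP K p] {g : Module.End K W}
    (hg : IsNilpotent (g - 1)) : ∃ n : ℕ, g ^ (p ^ n) = 1 := by
  obtain ⟨m, hm⟩ := hg
  rcases subsingleton_or_nontrivial W with hW | hW
  · exact ⟨0, LinearMap.ext fun z => Subsingleton.elim _ _⟩
  have : CharP (Module.End K W) p := charP_of_injective_algebraMap' K p
  refine ⟨m, ?_⟩
  have h0 : (g - 1) ^ (p ^ m) = 0 :=
    pow_eq_zero_of_le (Nat.lt_pow_self hp.out.one_lt).le hm
  rwa [sub_pow_char_pow_of_commute p m (Commute.one_right g), one_pow, sub_eq_zero] at h0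

/-- A faithful representation by unipotent elements forces a `p`-group. -/
theorem isPGroup_of_forall_isNilpotent {p : ℕ} [Fact p.Prime] [CharP K p]
    (hρ : Function.Injective ρ) (D : Subgroup H) (hall : ∀ h ∈ D, IsNilpotent (ρ h - 1)) :
    IsPGroup p D := by
  intro d
  obtain ⟨n, hn⟩ := eq_one_of_isNilpotent_pow (p := p) (hall d d.2)
  exact ⟨n, Subtype.ext (hρ (by push_cast; rw [map_pow, hn, map_one]))⟩

end Basic

section Closed

variable {K : Type u} [Field K] [IsAlgClosed K] {H : Type w} [Group H] [Finite H] {a b : H}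

/-- An element which is not unipotent survives in some homomorphism to `SL₂`. -/
theorem exists_hom_of_not_isNilpotent {W : Type v} [AddCommGroup W] [Module K W]
    [FiniteDimensional K W] (ρ : H →* Module.End K W)
    (hgen : Subgroup.closure ({a, b} : Set H) = ⊤)
    (ha : (ρ a - 1) * (ρ a - 1) = 0) (hb : (ρ b - 1) * (ρ b - 1) = 0) {h : H}
    (hh : ¬ IsNilpotent (ρ h - 1)) :
    ∃ (μ : K) (φ : H →* SL(2, K)), μ ≠ 0 ∧ φ a = up μ ∧ φ b = low 1 ∧ φ h ≠ 1 := by
  induction hn : Module.finrank K W using Nat.strong_induction_on generalizing W with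
  | _ n ih =>
    have hT : ¬ IsNilpotent ((ρ a - 1) * (ρ b - 1)) := fun hT =>
      hh (isNilpotent_sub_one_all ρ hgen ha hb hT h)
    obtain ⟨μ, hμ, v, hv, hTv⟩ := CfsgLib.OddOrder.QuadraticPair.exists_ne_zero_eigen hT
    obtain ⟨φ, ι, hφa, hφb, hι, hinter⟩ := exists_hom_of_eigen ρ hgen ha hb hμ hv hTv
    by_cases hφh : φ h ≠ 1
    · exact ⟨μ, φ, hμ, hφa, hφb, hφh⟩
    push Not at hφh
    set P := LinearMap.range ι with hP
    have hPinv : ∀ g : H, P ≤ P.comap (ρ g) := by
      rintro g _ ⟨z, rfl⟩
      exact ⟨_, (hinter g z).symm⟩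
    let σ : H →* Module.End K (W ⧸ P) :=
      { toFun := fun g => P.mapQ P (ρ g) (hPinv g)
        map_one' := by
          refine LinearMap.ext fun x => ?_
          obtain ⟨x, rfl⟩ := Submodule.Quotient.mk_surjective P x
          simp [Submodule.mapQ_apply]
        map_mul' := fun g g' => by
          refine LinearMap.ext fun x => ?_
          obtain ⟨x, rfl⟩ := Submodule.Quotient.mk_surjective P x
          simp [Submodule.mapQ_apply] }
    have hσ : ∀ (g : H) (x : W), (σ g - 1 : Module.End K _) (Submodule.Quotient.mk x) =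
        Submodule.Quotient.mk ((ρ g - 1 : Module.End K W) x) := fun g x => by
      simp [σ, Submodule.mapQ_apply]
    have hsq : ∀ g : H, (ρ g - 1) * (ρ g - 1) = 0 → (σ g - 1) * (σ g - 1) = 0 := by
      intro g hg
      refine LinearMap.ext fun x => ?_
      obtain ⟨x, rfl⟩ := Submodule.Quotient.mk_surjective P x
      rw [Module.End.mul_apply, hσ, hσ, ← Module.End.mul_apply, hg]
      simp
    have hlt : Module.finrank K (W ⧸ P) < n := by
      have h1 := P.finrank_quotient_add_finrank
      have h2 : Module.finrank K P = 2 := by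
        rw [hP, LinearMap.finrank_range_of_inj hι, Module.finrank_fintype_fun_eq_card,
          Fintype.card_fin]
      omega
    have hnn : ¬ IsNilpotent (σ h - 1) := by
      rintro ⟨m, hm⟩
      refine hh ⟨m + 1, LinearMap.ext fun x => ?_⟩
      have hpow : ∀ j : ℕ, ((σ h - 1 : Module.End K (W ⧸ P)) ^ j) (Submodule.Quotient.mk x) =
          Submodule.Quotient.mk (((ρ h - 1 : Module.End K W) ^ j) x) := by
        intro j
        induction j with
        | zero => simp
        | succ j ihj => rw [pow_succ', Module.End.mul_apply, ihj, hσ, pow_succ', Module.End.mul_apply]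
      have h0 := hpow m
      rw [hm, LinearMap.zero_apply, eq_comm, Submodule.Quotient.mk_eq_zero] at h0
      obtain ⟨z, hz⟩ := h0
      rw [pow_succ', Module.End.mul_apply, ← hz, LinearMap.sub_apply, hinter, hφh]
      simp
    exact ih _ hlt σ (hsq a ha) (hsq b hb) hnn rfl

end Closed

section ToClosure

variable (K : Type u) [Field K] (W : Type v) [AddCommGroup W] [Module K W] [FiniteDimensional K W]

/-- Extension of scalars to an algebraic closure, on endomorphism rings. -/
noncomputable def extendEnd : Module.End K W →+*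
    Module.End (AlgebraicClosure K) (Fin (Module.finrank K W) → AlgebraicClosure K) :=
  (Matrix.toLinAlgEquiv' (R := AlgebraicClosure K)).toAlgHom.toRingHom.comp
    ((algebraMap K (AlgebraicClosure K)).mapMatrix.comp
      (LinearMap.toMatrixAlgEquiv (Module.finBasis K W)).toAlgHom.toRingHom)

theorem extendEnd_injective : Function.Injective (extendEnd K W) :=
  (Matrix.toLinAlgEquiv' (R := AlgebraicClosure K)).injective.comp
    ((Matrix.map_injective (algebraMap K (AlgebraicClosure K)).injective).comp
      (LinearMap.toMatrixAlgEquiv (Module.finBasis K W)).injective)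

theorem extendEnd_algebraMap (c : K) :
    extendEnd K W (algebraMap K _ c) = algebraMap _ _ (algebraMap K (AlgebraicClosure K) c) := by
  have e : ((algebraMap K (AlgebraicClosure K)).mapMatrix
      (algebraMap K (Matrix (Fin (Module.finrank K W)) (Fin (Module.finrank K W)) K) c)) =
      algebraMap (AlgebraicClosure K) _ (algebraMap K (AlgebraicClosure K) c) := by
    simp [Matrix.algebraMap_eq_diagonal, Matrix.diagonal_map]
  show Matrix.toLinAlgEquiv' ((algebraMap K (AlgebraicClosure K)).mapMatrix
    (LinearMap.toMatrixAlgEquiv (Module.finBasis K W) (algebraMap K _ c))) = _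
  rw [AlgEquiv.commutes, e, AlgEquiv.commutes]

variable {K W} {H : Type w} [Group H] [Finite H] {a b : H}

/-- An element which is not unipotent survives in some homomorphism to `SL₂` over the closure. -/
theorem exists_hom (ρ : H →* Module.End K W) (hgen : Subgroup.closure ({a, b} : Set H) = ⊤)
    (ha : (ρ a - 1) * (ρ a - 1) = 0) (hb : (ρ b - 1) * (ρ b - 1) = 0) {h : H}
    (hh : ¬ IsNilpotent (ρ h - 1)) :
    ∃ (μ : AlgebraicClosure K) (φ : H →* SL(2, AlgebraicClosure K)),
      μ ≠ 0 ∧ φ a = up μ ∧ φ b = low 1 ∧ φ h ≠ 1 := by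
  set e := extendEnd K W
  have hq : ∀ c : H, (ρ c - 1) * (ρ c - 1) = 0 →
      ((e.toMonoidHom.comp ρ) c - 1) * ((e.toMonoidHom.comp ρ) c - 1) = 0 := by
    intro c hc
    have := congrArg e hc
    rwa [map_mul, map_sub, map_one, map_zero] at this
  refine exists_hom_of_not_isNilpotent (e.toMonoidHom.comp ρ) hgen (hq a ha) (hq b hb) (h := h)
    fun hn => hh ?_
  rw [← IsNilpotent.map_iff (extendEnd_injective K W), map_sub, map_one]
  exact hn

end ToClosure

section Conjugation

variable {G : Type u} [Group G] [Finite G] {p : ℕ} [Fact p.Prime]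

omit [Finite G] in
theorem exists_rep_of_addMonoidHom {M : Type u} [AddCommGroup M] [Module (ZMod p) M]
    {L : Type u} [Group L] (f : L → M →+ M) (h1 : ∀ v, f 1 v = v)
    (h2 : ∀ g h v, f (g * h) v = f g (f h v)) (hinj : ∀ h, (∀ v, f h v = v) → h = 1) :
    ∃ ρ : L →* Module.End (ZMod p) M, Function.Injective ρ ∧
      ∀ c, (∀ v, f c (f c v - v) = f c v - v) → (ρ c - 1) * (ρ c - 1) = 0 := by
  let ρ : L →* Module.End (ZMod p) M :=
    { toFun := fun h => (f h).toZModLinearMap p
      map_one' := LinearMap.ext h1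
      map_mul' := fun g h => LinearMap.ext (h2 g h) }
  refine ⟨ρ, (injective_iff_map_eq_one ρ).2 fun h hh => hinj h fun v => ?_,
    fun c hc => LinearMap.ext fun v => ?_⟩
  · exact LinearMap.congr_fun hh v
  · show f c (f c v - v) - (f c v - v) = 0
    rw [hc, sub_self]

theorem exists_rep (V H : Subgroup G) (hV : Cfsg.IsElementaryAbelian p V)
    (hHV : H ≤ Subgroup.normalizer (V : Set G)) (hf : H ⊓ Subgroup.centralizer (V : Set G) = ⊥) :
    ∃ (W : Type u) (_ : AddCommGroup W) (_ : Module (ZMod p) W) (_ : FiniteDimensional (ZMod p) W)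
      (ρ : H →* Module.End (ZMod p) W), Function.Injective ρ ∧
        ∀ c : H, ⁅⁅V, Subgroup.zpowers (c : G)⁆, Subgroup.zpowers (c : G)⁆ = ⊥ →
          (ρ c - 1) * (ρ c - 1) = 0 := by
  have : IsMulCommutative V := hV.1
  letI : CommGroup V := { (inferInstance : Group V) with mul_comm := this.is_comm.comm }
  letI : Module (ZMod p) (Additive V) := AddCommGroup.zmodModule fun x =>
    Additive.toMul.injective (Subtype.ext (hV.2 _ (Additive.toMul x).2))
  let act : H → V →* V := fun h =>
    { toFun := fun v => ⟨(h : G) * v * (h : G)⁻¹,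
        (Subgroup.mem_normalizer_iff.1 (hHV h.2) v).1 v.2⟩
      map_one' := Subtype.ext (by simp)
      map_mul' := fun v w => Subtype.ext (by simp [mul_assoc]) }
  have key : ∀ (h : H) (v : Additive V),
      ((Additive.toMul (MonoidHom.toAdditive (act h) v) : V) : G) =
        (h : G) * ((Additive.toMul v : V) : G) * (h : G)⁻¹ := fun h v => rfl
  obtain ⟨ρ, hρ, hsq⟩ := exists_rep_of_addMonoidHom (p := p) (M := Additive V)
    (fun h => MonoidHom.toAdditive (act h))
    (fun v => Additive.toMul.injective (Subtype.ext (by rw [key]; simp)))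
    (fun g h v => Additive.toMul.injective (Subtype.ext (by rw [key, key, key]; simp [mul_assoc])))
    (fun h hh => by
      have hm : (h : G) ∈ H ⊓ Subgroup.centralizer (V : Set G) := by
        refine ⟨h.2, Subgroup.mem_centralizer_iff.2 fun v hv => ?_⟩
        have e := key h (Additive.ofMul ⟨v, hv⟩)
        rw [hh] at e
        exact eq_mul_inv_iff_mul_eq.1 e
      rw [hf, Subgroup.mem_bot] at hm
      exact Subtype.ext hm)
  refine ⟨Additive V, inferInstance, inferInstance, Module.Finite.of_finite, ρ, hρ,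
    fun c hc => hsq c fun v => ?_⟩
  refine Additive.toMul.injective (Subtype.ext ?_)
  rw [key, toMul_sub, div_eq_mul_inv, Subgroup.coe_mul, Subgroup.coe_inv, key]
  have e : (c : G) * (Additive.toMul v : V) * (c : G)⁻¹ * ((Additive.toMul v : V) : G)⁻¹ =
      ⁅((Additive.toMul v : V) : G), (c : G)⁆⁻¹ := by rw [commutatorElement_def]; group
  have := CfsgLib.Quadratic.quadratic_commute hc (Additive.toMul v : V).2
    (Subgroup.mem_zpowers (c : G)) (Subgroup.mem_zpowers (c : G))
  rw [e, (show Commute (c : G) _ from this).inv_right.eq, mul_inv_cancel_right]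

/-- An element outside every `p`-subgroup survives in a homomorphism to `SL₂` in characteristic `p`. -/
theorem exists_hom_closure (V H : Subgroup G) (hV : Cfsg.IsElementaryAbelian p V)
    (hHV : H ≤ Subgroup.normalizer (V : Set G)) (hf : H ⊓ Subgroup.centralizer (V : Set G) = ⊥)
    {a b : G} (hab : H = Subgroup.closure {a, b})
    (ha : ⁅⁅V, Subgroup.zpowers a⁆, Subgroup.zpowers a⁆ = ⊥)
    (hb : ⁅⁅V, Subgroup.zpowers b⁆, Subgroup.zpowers b⁆ = ⊥)
    {a' b' : H} (ha' : (a' : G) = a) (hb' : (b' : G) = b)
    (D : Subgroup H) (hD : ¬ IsPGroup p D) :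
    ∃ (μ : AlgebraicClosure (ZMod p)) (φ : H →* SL(2, AlgebraicClosure (ZMod p))),
      μ ≠ 0 ∧ φ a' = up μ ∧ φ b' = low 1 ∧ ∃ d ∈ D, φ d ≠ 1 := by
  obtain ⟨W, hW1, hW2, hW3, ρ, hρ, hsq⟩ := exists_rep V H hV hHV hf
  obtain ⟨d, hd, hdn⟩ : ∃ d ∈ D, ¬ IsNilpotent (ρ d - 1) := by
    by_contra! hcon
    exact hD (isPGroup_of_forall_isNilpotent ρ hρ D hcon)
  have hgen : Subgroup.closure ({a', b'} : Set H) = ⊤ := by
    refine Subgroup.map_injective H.subtype_injective ?_
    rw [MonoidHom.map_closure, ← MonoidHom.range_eq_map, Subgroup.range_subtype, Set.image_pair,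
      Subgroup.coe_subtype, ha', hb', ← hab]
  obtain ⟨μ, φ, h1, h2, h3, h4⟩ :=
    exists_hom ρ hgen (hsq a' (ha'.symm ▸ ha)) (hsq b' (hb'.symm ▸ hb)) hdn
  exact ⟨μ, φ, h1, h2, h3, d, hd, h4⟩

end Conjugation

end CfsgLib.QuadPair
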