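import Cfsg.Agent.Lib.PLocal5.Offender
import Cfsg.Agent.Lib.PLocal.Thompson
import Cfsg.Agent.Lib.Coprime.HyperplaneGeneration
import Cfsg.Agent.Lib.Coprime.Commutator

/-! Failure of factorization: offenders in a faithful group with self-centralizing `p'`-core. -/

set_option autoImplicit false

set_option linter.unusedSectionVars false
set_option linter.style.haveILetI false

open scoped commutatorElement
open Subgroup

namespace CfsgLib.FFPair

variable {G : Type*} [Group G] [Finite G] {p : ℕ} [Fact p.Prime] {V H A B : Subgroup G}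

/-- A faithful action with self-centralizing `p'`-core. -/
structure Setting (p : ℕ) (V H : Subgroup G) : Prop where
  elemAb : Cfsg.IsElementaryAbelian p V
  le_normalizer : H ≤ normalizer (V : Set G)
  faithful : H ⊓ centralizer (V : Set G) = ⊥
  centralizer_core : centralizer (Cfsg.pPrimeCore p ↥H : Set ↥H) ≤ Cfsg.pPrimeCore p ↥H

/-- `O_{p'}(H)` in the ambient group. -/
def core (p : ℕ) (H : Subgroup G) : Subgroup G := (Cfsg.pPrimeCore p ↥H).map H.subtype

theorem core_le : core p H ≤ H := map_subtype_le _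

theorem core_coprime : (Nat.card (core p H)).Coprime p := by
  rw [core, card_map_of_injective H.subtype_injective]
  exact CfsgLib.PCore.pPrimeCore_coprime

theorem le_normalizer_core : H ≤ normalizer (core p H : Set G) := by
  refine le_normalizer_iff.2 ?_
  rintro h hh _ ⟨x, hx, rfl⟩
  have hn : (Cfsg.pPrimeCore p ↥H).Normal := inferInstance
  exact ⟨⟨h, hh⟩ * x * ⟨h, hh⟩⁻¹, hn.conj_mem x hx _, rfl⟩

theorem isPGroup_elemAb (hA : Cfsg.IsElementaryAbelian p A) : IsPGroup p A :=
  CfsgLib.Quadratic.isPGroup_of_elemAb hA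

theorem inf_core_eq_bot (hA : IsPGroup p A) : A ⊓ core p H = ⊥ :=
  CfsgLib.PCore.inf_eq_bot_of_isPGroup_coprime hA core_coprime

namespace Setting

theorem inf_centralizer_core (S : Setting p V H) : H ⊓ centralizer (core p H : Set G) ≤ core p H := by
  rintro x ⟨hxH, hxc⟩
  refine ⟨⟨x, hxH⟩, S.centralizer_core ?_, rfl⟩
  rw [mem_centralizer_iff]
  intro y hy
  exact Subtype.ext (mem_centralizer_iff.1 hxc y ⟨y, hy, rfl⟩)

theorem pgroup_inf_centralizer_core (S : Setting p V H) (hAH : A ≤ H) (hA : IsPGroup p A) :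
    A ⊓ centralizer (core p H : Set G) = ⊥ :=
  eq_bot_iff.2 ((le_inf inf_le_left ((inf_le_inf_right _ hAH).trans S.inf_centralizer_core)).trans
    (inf_core_eq_bot hA).le)

theorem eq_bot_of_le_centralizer (S : Setting p V H) (hAH : A ≤ H)
    (h : A ≤ centralizer (V : Set G)) : A = ⊥ :=
  eq_bot_iff.2 ((le_inf hAH h).trans S.faithful.le)

theorem eq_bot_iff_commutator (S : Setting p V H) (hAH : A ≤ H) : ⁅V, A⁆ = ⊥ ↔ A = ⊥ := by
  constructor
  · intro h
    refine S.eq_bot_of_le_centralizer hAH ?_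
    rw [Subgroup.commutator_eq_bot_iff_le_centralizer] at h
    exact Subgroup.le_centralizer_iff.1 h
  · rintro rfl
    rw [Subgroup.commutator_eq_bot_iff_le_centralizer]
    intro x _
    rw [mem_centralizer_iff]
    intro y hy
    rw [coe_bot, Set.mem_singleton_iff] at hy
    simp [hy]

theorem elemAb_of_offender (S : Setting p V H) (hAH : A ≤ H)
    (hA : Cfsg.IsBestOffenderOn p V A) : Cfsg.IsElementaryAbelian p A := by
  refine ⟨CfsgLib.PLocal.isMulCommutative_of_forall fun a ha b hb => ?_, fun a ha => ?_⟩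
  · have h : ⁅a, b⁆ ∈ H ⊓ centralizer (V : Set G) :=
      ⟨H.mul_mem (H.mul_mem (H.mul_mem (hAH ha) (hAH hb)) (H.inv_mem (hAH ha))) (H.inv_mem (hAH hb)),
        hA.2.1 (commutator_mem_commutator ha hb)⟩
    rw [S.faithful, mem_bot] at h
    exact commutatorElement_eq_one_iff_mul_comm.1 h
  · have h : a ^ p ∈ H ⊓ centralizer (V : Set G) := ⟨H.pow_mem (hAH ha) p, hA.2.2 a ha⟩
    rwa [S.faithful, mem_bot] at h

end Setting

/-- The index `p` subgroups of `A` that are visible in the core. -/
def Moving (p : ℕ) (H A B : Subgroup G) : Prop :=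
  B ≤ A ∧ B.relIndex A = p ∧ ¬ A ≤ centralizer ((core p H ⊓ centralizer (B : Set G) : Subgroup G) : Set G)

theorem Moving.card_eq (h : Moving p H A B) : Nat.card A = Nat.card B * p := by
  have := relIndex_mul_relIndex (⊥ : Subgroup G) B A bot_le h.1
  rw [relIndex_bot_left, relIndex_bot_left, h.2.1] at this
  exact this.symm

theorem eq_bot_of_forall_moving (S : Setting p V H) (hAH : A ≤ H)
    (hA : Cfsg.IsElementaryAbelian p A) {x : G} (hx : x ∈ A)
    (h : ∀ B, Moving p H A B → x ∈ B) : x = 1 := by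
  rcases eq_or_ne A ⊥ with rfl | hA1
  · exact mem_bot.1 hx
  have hgen := CfsgLib.Coprime39.eq_hyperCent hA hA1 (core_coprime (H := H))
    (hAH.trans le_normalizer_core)
  have hc : core p H ≤ centralizer {x} := by
    rw [← hgen]
    refine iSup_le fun B y hy => ?_
    rw [mem_centralizer_singleton_iff]
    by_cases hB : Moving p H A B
    · exact (mem_centralizer_iff.1 hy.2 x (h B hB)).symm
    · have hle : A ≤ centralizer ((core p H ⊓ centralizer ((B : Subgroup G) : Set G) : Subgroup G) : Set G) := by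
        by_contra hc
        exact hB ⟨B.2.1, B.2.2, hc⟩
      exact mem_centralizer_iff.1 (hle hx) y hy
  have hm : x ∈ A ⊓ centralizer (core p H : Set G) :=
    ⟨hx, mem_centralizer_iff.2 fun y hy => mem_centralizer_singleton_iff.1 (hc hy)⟩
  rwa [S.pgroup_inf_centralizer_core hAH (isPGroup_elemAb hA), mem_bot] at hm

theorem exists_moving (S : Setting p V H) (hAH : A ≤ H) (hA : Cfsg.IsElementaryAbelian p A)
    (hA1 : A ≠ ⊥) : ∃ B, Moving p H A B := by
  by_contra h
  push Not at h
  exact hA1 (eq_bot_iff.2 fun x hx =>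
    mem_bot.2 (eq_bot_of_forall_moving S hAH hA hx fun B hB => absurd hB (h B)))

theorem Moving.card_fixed (S : Setting p V H) (hAH : A ≤ H) (hA : Cfsg.IsElementaryAbelian p A)
    (h : Moving p H A B) :
    Nat.card ↥(V ⊓ centralizer (A : Set G)) * p ≤ Nat.card ↥(V ⊓ centralizer (B : Set G)) := by
  set C := V ⊓ centralizer (A : Set G) with hC
  set D := V ⊓ centralizer (B : Set G) with hD
  have hCD : C ≤ D := CfsgLib.Offender.fixed_antitone h.1
  have hne : C ≠ D := by
    intro heq
    apply h.2.2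
    set K := core p H ⊓ centralizer (B : Set G) with hK
    have hKH : K ≤ H := inf_le_left.trans core_le
    have hKV : K ≤ normalizer (V : Set G) := hKH.trans S.le_normalizer
    have hAK : A ≤ normalizer (K : Set G) := by
      refine le_normalizer_iff.2 fun a ha x hx => ⟨?_, ?_⟩
      · exact CfsgLib.Coprime.mem_normalizer_conj (le_normalizer_core (hAH ha)) hx.1
      · refine CfsgLib.Quadratic.conj_mem_centralizer (U := B) ?_ hx.2
        refine centralizer_le_normalizer _ (mem_centralizer_iff.2 fun b hb => ?_)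
        exact CfsgLib.Quadratic.elemAb_comm hA (h.1 hb) ha
    set R := ⁅K, A⁆ with hR
    have hRK : R ≤ K := CfsgLib.Coprime.commutator_le_of_normalizes hAK
    have hBR : B ≤ centralizer (R : Set G) :=
      Subgroup.le_centralizer_iff.1 (hRK.trans inf_le_right)
    have hCA : ⁅A, C⁆ = ⊥ := by
      rw [Subgroup.commutator_eq_bot_iff_le_centralizer]
      exact Subgroup.le_centralizer_iff.1 inf_le_right
    have hCK : ⁅C, K⁆ ≤ C := by
      refine CfsgLib.Coprime.commutator_le_of_normalizes (le_normalizer_iff.2 fun k hk x hx => ?_)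
      rw [heq] at hx ⊢
      exact ⟨CfsgLib.Coprime.mem_normalizer_conj (hKV hk) hx.1,
        CfsgLib.Quadratic.conj_mem_centralizer (U := B)
          (centralizer_le_normalizer _ hk.2) hx.2⟩
    have h3 : ⁅⁅K, A⁆, C⁆ = ⊥ := by
      refine Subgroup.commutator_commutator_eq_bot_of_rotate ?_ ?_
      · rw [hCA, Subgroup.commutator_eq_bot_iff_le_centralizer]
        exact bot_le
      · refine eq_bot_iff.2 ((commutator_mono hCK le_rfl).trans ?_)
        rw [Subgroup.commutator_comm, hCA]
    rw [Subgroup.commutator_eq_bot_iff_le_centralizer] at h3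
    have hDR : D ≤ centralizer (R : Set G) := by
      rw [← heq]; exact Subgroup.le_centralizer_iff.1 h3
    have hV : R ≤ centralizer (V : Set G) :=
      CfsgLib.Coprime.pq_lemma p B R (isPGroup_elemAb (CfsgLib.PLocal.elemAb_of_le hA h.1))
        ((core_coprime (H := H)).coprime_dvd_left (card_dvd_of_le (hRK.trans inf_le_left))) hBR V
        (isPGroup_elemAb S.elemAb) ((h.1.trans hAH).trans S.le_normalizer)
        ((hRK.trans hKH).trans S.le_normalizer) hDR
    have hRb : R = ⊥ := S.eq_bot_of_le_centralizer (hRK.trans hKH) hV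
    rw [hR, Subgroup.commutator_eq_bot_iff_le_centralizer] at hRb
    exact Subgroup.le_centralizer_iff.1 hRb
  have hDp : IsPGroup p D := (isPGroup_elemAb S.elemAb).to_le inf_le_left
  obtain ⟨m, hm⟩ := IsPGroup.iff_card.1 (hDp.to_le hCD)
  obtain ⟨n, hn⟩ := IsPGroup.iff_card.1 hDp
  have hlt : Nat.card C < Nat.card D :=
    lt_of_le_of_ne (Subgroup.card_le_of_le hCD) fun e => hne (eq_of_le_of_card_ge hCD e.ge)
  rw [hm, hn] at hlt ⊢
  rw [← pow_succ]
  exact Nat.pow_le_pow_right (Fact.out : p.Prime).pos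
    (Nat.succ_le_of_lt ((Nat.pow_lt_pow_iff_right (Fact.out : p.Prime).one_lt).1 hlt))

theorem Moving.measure_le (S : Setting p V H) (hAH : A ≤ H) (hA : Cfsg.IsElementaryAbelian p A)
    (h : Moving p H A B) : CfsgLib.Offender.measure V A ≤ CfsgLib.Offender.measure V B := by
  rw [CfsgLib.Offender.measure_def, CfsgLib.Offender.measure_def, h.card_eq]
  calc Nat.card B * p * Nat.card ↥(V ⊓ centralizer (A : Set G))
      = Nat.card B * (Nat.card ↥(V ⊓ centralizer (A : Set G)) * p) := by ring
    _ ≤ _ := Nat.mul_le_mul_left _ (h.card_fixed S hAH hA)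

theorem measure_bot (V : Subgroup G) : CfsgLib.Offender.measure V ⊥ = Nat.card V := by
  rw [CfsgLib.Offender.measure_def, card_bot, one_mul]
  rw [inf_eq_left.2]
  intro x _
  rw [mem_centralizer_iff]
  intro y hy
  rw [coe_bot, Set.mem_singleton_iff] at hy
  simp [hy]

theorem measure_le_card (S : Setting p V H) :
    ∀ A : Subgroup G, A ≤ H → Cfsg.IsElementaryAbelian p A →
      CfsgLib.Offender.measure V A ≤ Nat.card V := by
  intro A
  induction A using (wellFounded_lt (α := Subgroup G)).induction with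
  | _ A ih =>
    intro hAH hA
    rcases eq_or_ne A ⊥ with rfl | hA1
    · exact (measure_bot V).le
    obtain ⟨B, hB⟩ := exists_moving S hAH hA hA1
    have hlt : B < A := lt_of_le_of_ne hB.1 fun e => by
      have := hB.2.1
      rw [e, relIndex_self] at this
      exact (Fact.out : p.Prime).ne_one this.symm
    exact (hB.measure_le S hAH hA).trans
      (ih B hlt (hB.1.trans hAH) (CfsgLib.PLocal.elemAb_of_le hA hB.1))

theorem offender_measure (S : Setting p V H) (hAH : A ≤ H) (hA : Cfsg.IsBestOffenderOn p V A) :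
    CfsgLib.Offender.measure V A = Nat.card V :=
  le_antisymm (measure_le_card S A hAH (S.elemAb_of_offender hAH hA))
    ((measure_bot V).ge.trans (hA.1 ⊥ bot_le))

theorem offender_of_measure (S : Setting p V H) (hAH : A ≤ H)
    (hA : Cfsg.IsElementaryAbelian p A) (hm : CfsgLib.Offender.measure V A = Nat.card V) :
    Cfsg.IsBestOffenderOn p V A := by
  refine ⟨fun B hB => ?_, ?_, fun a ha => ?_⟩
  · exact (measure_le_card S B (hB.trans hAH) (CfsgLib.PLocal.elemAb_of_le hA hB)).trans hm.ge
  · refine commutator_le.2 fun a ha b hb => ?_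
    rw [commutatorElement_eq_one_iff_mul_comm.2 (CfsgLib.Quadratic.elemAb_comm hA ha hb)]
    exact one_mem _
  · rw [hA.2 a ha]; exact one_mem _

theorem Moving.offender (S : Setting p V H) (hAH : A ≤ H) (hA : Cfsg.IsBestOffenderOn p V A)
    (h : Moving p H A B) : Cfsg.IsBestOffenderOn p V B :=
  have he := S.elemAb_of_offender hAH hA
  offender_of_measure S (h.1.trans hAH) (CfsgLib.PLocal.elemAb_of_le he h.1)
    (le_antisymm (measure_le_card S B (h.1.trans hAH) (CfsgLib.PLocal.elemAb_of_le he h.1))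
      ((offender_measure S hAH hA).ge.trans (h.measure_le S hAH he)))

/-- An offender of order `p`. -/
structure IsTrans (p : ℕ) (V H A : Subgroup G) : Prop where
  le : A ≤ H
  card_eq : Nat.card A = p
  card_fixed : Nat.card ↥(V ⊓ centralizer (A : Set G)) * p = Nat.card V

namespace IsTrans

theorem ne_bot (h : IsTrans p V H A) : A ≠ ⊥ := fun e => by
  have := h.card_eq
  rw [e, card_bot] at this
  exact (Fact.out : p.Prime).ne_one this.symm

theorem elemAb_self (h : IsTrans p V H A) : Cfsg.IsElementaryAbelian p A := by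
  haveI : IsCyclic A := isCyclic_of_prime_card h.card_eq
  refine ⟨IsCyclic.isMulCommutative, fun a ha => ?_⟩
  have := pow_card_eq_one' (x := (⟨a, ha⟩ : A))
  rw [h.card_eq] at this
  simpa using congrArg Subtype.val this

theorem offender (S : Setting p V H) (h : IsTrans p V H A) : Cfsg.IsBestOffenderOn p V A :=
  offender_of_measure S h.le h.elemAb_self (by
    rw [CfsgLib.Offender.measure_def, h.card_eq, mul_comm, h.card_fixed])

theorem commutator_ne_bot (S : Setting p V H) (h : IsTrans p V H A) : ⁅V, A⁆ ≠ ⊥ :=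
  fun e => h.ne_bot ((S.eq_bot_iff_commutator h.le).1 e)

theorem minimal (S : Setting p V H) (h : IsTrans p V H A) :
    ∀ B : Subgroup G, B ≤ A → Cfsg.IsBestOffenderOn p V B → ⁅V, B⁆ ≠ ⊥ → B = A := by
  intro B hBA _ hB
  have hd := card_dvd_of_le hBA
  rw [h.card_eq] at hd
  rcases (Nat.dvd_prime Fact.out).1 hd with e | e
  · exact absurd ((S.eq_bot_iff_commutator (hBA.trans h.le)).2 (card_eq_one.1 e)) hB
  · exact eq_of_le_of_card_ge hBA (by rw [h.card_eq, e])

theorem relIndex_fixed (h : IsTrans p V H A) :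
    (V ⊓ centralizer (A : Set G)).relIndex V = p := by
  have := relIndex_mul_relIndex (⊥ : Subgroup G) (V ⊓ centralizer (A : Set G)) V bot_le inf_le_left
  rw [relIndex_bot_left, relIndex_bot_left, ← h.card_fixed] at this
  exact Nat.eq_of_mul_eq_mul_left Nat.card_pos this

theorem le_normalizer (S : Setting p V H) (h : IsTrans p V H A) : A ≤ normalizer (V : Set G) :=
  h.le.trans S.le_normalizer

theorem exists_gen (h : IsTrans p V H A) : ∃ a ∈ A, Subgroup.zpowers a = A := by
  obtain ⟨a, ha, ha1⟩ := (bot_or_exists_ne_one A).resolve_left h.ne_bot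
  refine ⟨a, ha, ?_⟩
  have hd := card_dvd_of_le (zpowers_le.2 ha : zpowers a ≤ A)
  rw [h.card_eq] at hd
  rcases (Nat.dvd_prime Fact.out).1 hd with e | e
  · exact absurd (zpowers_eq_bot.1 (card_eq_one.1 e)) ha1
  · exact eq_of_le_of_card_ge (zpowers_le.2 ha) (by rw [h.card_eq, e])

theorem center_spec (S : Setting p V H) (h : IsTrans p V H A) :
    Nat.card ↥(⁅V, A⁆) = p ∧ ⁅⁅V, A⁆, A⁆ = ⊥ := by
  have hle : ⁅V, A⁆ ≤ V := CfsgLib.Quadratic.commutator_le_self (h.le_normalizer S)
  obtain ⟨a, ha, hza⟩ := h.exists_gen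
  set f := CfsgLib.Quadratic.commHom V S.elemAb a (h.le_normalizer S ha) with hf
  have hker : Nat.card f.ker = Nat.card ↥(V ⊓ centralizer (A : Set G)) := by
    rw [← card_map_of_injective V.subtype_injective]
    congr 2
    ext x
    constructor
    · rintro ⟨v, hv, rfl⟩
      refine ⟨v.2, ?_⟩
      rw [← hza]
      exact CfsgLib.Quadratic.mem_centralizer_zpowers.2
        (commutatorElement_eq_one_iff_mul_comm.1 (congrArg Subtype.val hv)).symm
    · rintro ⟨hx, hxc⟩
      rw [← hza] at hxc
      exact ⟨⟨x, hx⟩, Subtype.ext (commutatorElement_eq_one_iff_mul_comm.2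
        (CfsgLib.Quadratic.mem_centralizer_zpowers.1 hxc).symm), rfl⟩
  set R := f.range.map V.subtype with hR
  have hRc : Nat.card R = p := by
    rw [hR, card_map_of_injective V.subtype_injective]
    have h1 := Subgroup.card_mul_index f.ker
    rw [Subgroup.index_ker, hker, ← h.card_fixed] at h1
    exact Nat.eq_of_mul_eq_mul_left Nat.card_pos h1
  have hRV : R ≤ V := map_subtype_le _
  have haR : a ∈ normalizer (R : Set G) := by
    refine CfsgLib.Coprime.mem_normalizer_of_forall_conj ?_
    rintro _ ⟨_, ⟨v, rfl⟩, rfl⟩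
    refine ⟨_, ⟨⟨a * v * a⁻¹, CfsgLib.Coprime.mem_normalizer_conj (h.le_normalizer S ha) v.2⟩, rfl⟩, ?_⟩
    show ⁅a * (v : G) * a⁻¹, a⁆ = a * ⁅(v : G), a⁆ * a⁻¹
    rw [commutatorElement_def, commutatorElement_def]; group
  have hVA : ⁅V, A⁆ ≤ R := by
    refine commutator_le.2 fun v hv x hx => ?_
    rw [← hza, ← (isOfFinOrder_of_finite a).mem_powers_iff_mem_zpowers] at hx
    obtain ⟨n, rfl⟩ := hx
    beta_reduce
    induction n with
    | zero => simp
    | succ n ih =>
      have e : ⁅v, a ^ (n + 1)⁆ = ⁅v, a⁆ * (a * ⁅v, a ^ n⁆ * a⁻¹) := by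
        rw [pow_succ']; simp [commutatorElement_def, mul_assoc]
      rw [e]
      exact R.mul_mem ⟨_, ⟨⟨v, hv⟩, rfl⟩, rfl⟩ (CfsgLib.Coprime.mem_normalizer_conj haR ih)
  have hge : R ≤ ⁅V, A⁆ := by
    rintro _ ⟨_, ⟨v, rfl⟩, rfl⟩
    exact commutator_mem_commutator v.2 ha
  have hcard : Nat.card ↥(⁅V, A⁆) = p := by rw [le_antisymm hVA hge, hRc]
  refine ⟨hcard, ?_⟩
  by_contra hne
  have hlt : ⁅⁅V, A⁆, A⁆ ≤ ⁅V, A⁆ := commutator_mono hle le_rfl
  have hd := card_dvd_of_le hlt
  rw [hcard] at hd
  rcases (Nat.dvd_prime Fact.out).1 hd with e | e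
  · exact hne (card_eq_one.1 e)
  · exact h.commutator_ne_bot S (CfsgLib.Offender.eq_bot_of_le_commutator
      (isPGroup_elemAb S.elemAb) (h.le_normalizer S) hle
      (CfsgLib.Offender.bestOffender_pow (h.offender S))
      (eq_of_le_of_card_ge hlt (by rw [hcard, e])).ge)

theorem card_center (S : Setting p V H) (h : IsTrans p V H A) : Nat.card ↥(⁅V, A⁆) = p :=
  (h.center_spec S).1

theorem quadratic (S : Setting p V H) (h : IsTrans p V H A) : ⁅⁅V, A⁆, A⁆ = ⊥ :=
  (h.center_spec S).2

theorem conj (S : Setting p V H) (h : IsTrans p V H A) {x : G} (hx : x ∈ H) :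
    IsTrans p V H (A.map (MulAut.conj x).toMonoidHom) := by
  refine ⟨?_, ?_, ?_⟩
  · rintro _ ⟨a, ha, rfl⟩
    exact H.mul_mem (H.mul_mem hx (h.le ha)) (H.inv_mem hx)
  · rw [card_map_of_injective (MulAut.conj x).injective, h.card_eq]
  · refine Eq.trans (congrArg (· * p) ?_) h.card_fixed
    rw [← card_map_of_injective (f := (MulAut.conj x).toMonoidHom) (K := V ⊓ centralizer (A : Set G))
      (MulAut.conj x).injective]
    refine congrArg (fun K : Subgroup G => Nat.card K) ?_
    have hn := S.le_normalizer hx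
    ext v
    constructor
    · rintro ⟨hv, hc⟩
      refine ⟨x⁻¹ * v * x, ⟨CfsgLib.Coprime.mem_normalizer_conj' hn hv, ?_⟩, ?_⟩
      · refine mem_centralizer_iff.2 fun a ha => ?_
        have := mem_centralizer_iff.1 hc (x * a * x⁻¹) ⟨a, ha, rfl⟩
        calc a * (x⁻¹ * v * x) = x⁻¹ * (x * a * x⁻¹ * v) * x := by group
          _ = x⁻¹ * v * x * a := by rw [this]; group
      · show x * (x⁻¹ * v * x) * x⁻¹ = v
        group
    · rintro ⟨w, ⟨hw, hc⟩, rfl⟩
      refine ⟨CfsgLib.Coprime.mem_normalizer_conj hn hw, mem_centralizer_iff.2 ?_⟩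
      rintro _ ⟨a, ha, rfl⟩
      show x * a * x⁻¹ * (x * w * x⁻¹) = x * w * x⁻¹ * (x * a * x⁻¹)
      calc x * a * x⁻¹ * (x * w * x⁻¹) = x * (a * w) * x⁻¹ := by group
        _ = _ := by rw [mem_centralizer_iff.1 hc a ha]; group

end IsTrans

theorem isTrans_of_minimal (S : Setting p V H) (hAH : A ≤ H) (hA : Cfsg.IsBestOffenderOn p V A)
    (hAV : ⁅V, A⁆ ≠ ⊥)
    (hmin : ∀ B : Subgroup G, B ≤ A → Cfsg.IsBestOffenderOn p V B → ⁅V, B⁆ ≠ ⊥ → B = A) :
    IsTrans p V H A := by
  have he := S.elemAb_of_offender hAH hA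
  obtain ⟨B, hB⟩ := exists_moving S hAH he fun e => hAV ((S.eq_bot_iff_commutator hAH).2 e)
  have hb : B = ⊥ := by
    rw [← S.eq_bot_iff_commutator (hB.1.trans hAH)]
    by_contra hne
    have := hB.2.1
    rw [hmin B hB.1 (hB.offender S hAH hA) hne, relIndex_self] at this
    exact (Fact.out : p.Prime).ne_one this.symm
  subst hb
  have hc : Nat.card A = p := by rw [hB.card_eq, card_bot, one_mul]
  exact ⟨hAH, hc, by rw [mul_comm, ← hc]; exact offender_measure S hAH hA⟩

/-- Every offender is generated by offenders of order `p`. -/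
theorem exists_trans_family (S : Setting p V H) :
    ∀ A : Subgroup G, A ≤ H → Cfsg.IsBestOffenderOn p V A →
      ∃ s : Finset (Subgroup G), (∀ B ∈ s, B ≤ A ∧ IsTrans p V H B) ∧ s.sup id = A := by
  intro A
  induction A using (wellFounded_lt (α := Subgroup G)).induction with
  | _ A ih =>
    intro hAH hA
    classical
    have he := S.elemAb_of_offender hAH hA
    rcases eq_or_ne A ⊥ with rfl | hA1
    · exact ⟨∅, by simp, rfl⟩
    obtain ⟨B, hB⟩ := exists_moving S hAH he hA1
    by_cases hB1 : B = ⊥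
    · subst hB1
      have hc : Nat.card A = p := by rw [hB.card_eq, card_bot, one_mul]
      refine ⟨{A}, ?_, by simp⟩
      simp only [Finset.mem_singleton, forall_eq]
      exact ⟨le_rfl, hAH, hc, by rw [mul_comm, ← hc]; exact offender_measure S hAH hA⟩
    obtain ⟨B', hB', hne⟩ : ∃ B', Moving p H A B' ∧ B' ≠ B := by
      by_contra hcon
      push Not at hcon
      refine hB1 (eq_bot_iff.2 fun x hx => mem_bot.2 ?_)
      exact eq_bot_of_forall_moving S hAH he (hB.1 hx) fun B' hB' => hcon B' hB' ▸ hx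
    have hlt : ∀ C, Moving p H A C → C < A := fun C hC => lt_of_le_of_ne hC.1 fun e => by
      have := hC.2.1
      rw [e, relIndex_self] at this
      exact (Fact.out : p.Prime).ne_one this.symm
    obtain ⟨s, hs, hss⟩ := ih B (hlt B hB) (hB.1.trans hAH) (hB.offender S hAH hA)
    obtain ⟨t, ht, htt⟩ := ih B' (hlt B' hB') (hB'.1.trans hAH) (hB'.offender S hAH hA)
    refine ⟨s ∪ t, fun C hC => ?_, ?_⟩
    · rcases Finset.mem_union.1 hC with h | h
      · exact ⟨(hs C h).1.trans hB.1, (hs C h).2⟩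
      · exact ⟨(ht C h).1.trans hB'.1, (ht C h).2⟩
    · rw [Finset.sup_union, hss, htt]
      have hle : B ⊔ B' ≤ A := sup_le hB.1 hB'.1
      have h1 := relIndex_mul_relIndex B (B ⊔ B') A le_sup_left hle
      rw [hB.2.1] at h1
      rcases (Nat.dvd_prime Fact.out).1 (Dvd.intro _ h1) with e | e
      · exfalso
        have hB'B : B' ≤ B := le_sup_right.trans (relIndex_eq_one.1 e)
        refine hne (eq_of_le_of_card_ge hB'B ?_)
        exact (Nat.eq_of_mul_eq_mul_right (Fact.out : p.Prime).pos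
          (hB.card_eq.symm.trans hB'.card_eq)).le
      · rw [e] at h1
        exact le_antisymm hle (relIndex_eq_one.1
          (Nat.eq_of_mul_eq_mul_left (Fact.out : p.Prime).pos (h1.trans (mul_one p).symm)))

/-- An independent family of offenders of order `p` spanning an offender. -/
theorem exists_indep_family (S : Setting p V H) (hAH : A ≤ H) (hA : Cfsg.IsBestOffenderOn p V A) :
    ∃ (k : ℕ) (B : Fin k → Subgroup G), (∀ i, B i ≤ A ∧ IsTrans p V H (B i)) ∧
      iSupIndep B ∧ ⨆ i, B i = A := by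
  classical
  obtain ⟨s₀, hs₀⟩ := exists_trans_family S A hAH hA
  have hex : ∃ n, ∃ s : Finset (Subgroup G), s.card = n ∧
      ((∀ B ∈ s, B ≤ A ∧ IsTrans p V H B) ∧ s.sup id = A) := ⟨_, s₀, rfl, hs₀⟩
  obtain ⟨s, hcard, hs, hsup⟩ := Nat.find_spec hex
  have hind : ∀ B ∈ s, B ⊓ (s.erase B).sup id = ⊥ := by
    intro B hB
    by_contra hne
    have hd := card_dvd_of_le (inf_le_left : B ⊓ (s.erase B).sup id ≤ B)
    rw [(hs B hB).2.card_eq] at hd
    rcases (Nat.dvd_prime Fact.out).1 hd with e | e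
    · exact hne (card_eq_one.1 e)
    have hle : B ≤ (s.erase B).sup id :=
      inf_eq_left.1 (eq_of_le_of_card_ge inf_le_left (by rw [(hs B hB).2.card_eq, e]))
    refine Nat.find_min hex (m := (s.erase B).card) ?_ ⟨s.erase B, rfl,
      fun C hC => hs C (Finset.mem_of_mem_erase hC), le_antisymm ?_ ?_⟩
    · rw [← hcard]; exact Finset.card_erase_lt_of_mem hB
    · exact hsup ▸ Finset.sup_mono (Finset.erase_subset _ _)
    · conv_lhs => rw [← hsup, ← Finset.insert_erase hB, Finset.sup_insert]
      exact sup_le hle le_rfl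
  let e : Fin s.card ≃ s := s.equivFin.symm
  refine ⟨s.card, fun i => (e i : Subgroup G), fun i => hs _ (e i).2, fun i => ?_, ?_⟩
  · rw [disjoint_iff, eq_bot_iff, ← hind _ (e i).2]
    refine inf_le_inf_left _ (iSup₂_le fun j hj => ?_)
    exact Finset.le_sup (f := id) (Finset.mem_erase.2
      ⟨fun h => hj (e.injective (Subtype.ext h)), (e j).2⟩)
  · refine le_antisymm (iSup_le fun i => (hs _ (e i).2).1) ?_
    conv_lhs => rw [← hsup]
    refine Finset.sup_le fun C hC => ?_
    have h := le_iSup (fun i => (e i : Subgroup G)) (e.symm ⟨C, hC⟩)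
    simpa using h

end CfsgLib.FFPair
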