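import Cfsg.Agent.Lib.PLocal5.SL2Generated
import Cfsg.Agent.Lib.Coprime.Action
import Cfsg.Agent.Classical.SLGen

/-! A `p'`-subgroup of `SL₂` moved by a transvection: `p = 3` and `SL₂(3)` occurs. -/

set_option autoImplicit false

open scoped MatrixGroups Pointwise

namespace CfsgLib.SL2Unipotent

universe u

variable {K : Type u} [Field K]

theorem mul_self_eq_neg_one {x : SL(2, K)} (h : tr x = 0) : x * x = -1 := Subtype.ext (by
  have e := coe_mul_self x
  rw [h, zero_smul, zero_sub] at e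
  rw [Matrix.SpecialLinearGroup.coe_mul, e, Matrix.SpecialLinearGroup.coe_neg,
    Matrix.SpecialLinearGroup.coe_one])

theorem tr_neg (x : SL(2, K)) : tr (-x) = -tr x := by
  simp [tr]

theorem up_mul (s t : K) : up s * up t = up (s + t) := by
  ext i j; fin_cases i <;> fin_cases j <;>
    simp [Matrix.mul_apply, Fin.sum_univ_two, Matrix.SpecialLinearGroup.coe_mul]
  ring

theorem up_inv (s : K) : (up s)⁻¹ = up (-s) :=
  inv_eq_of_mul_eq_one_right (by rw [up_mul, add_neg_cancel, up_zero])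

variable {p : ℕ} [hp : Fact p.Prime] [CharP K p]

theorem pow_char_of_tr_eq_two {x : SL(2, K)} (h : tr x = 2) : x ^ p = 1 := by
  have h0 : (x.1 - 1) ^ p = 0 := by
    refine pow_eq_zero_of_le (m := 2) hp.out.two_le ?_
    have e := coe_mul_self x
    rw [h] at e
    rw [pow_two]
    linear_combination (norm := (simp [sub_mul, mul_sub, two_smul]; abel)) e
  have : CharP (Matrix (Fin 2) (Fin 2) K) p := inferInstance
  rw [sub_pow_char_of_commute p (Commute.one_right _), one_pow, sub_eq_zero,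
    ← Matrix.SpecialLinearGroup.coe_pow] at h0
  exact Subtype.ext h0

/-- An element of order prime to `p` with trace `±2` is `±1`. -/
theorem tr_sq_ne_four_of_coprime (hp2 : p ≠ 2) {x : SL(2, K)} {n : ℕ} (hn : x ^ n = 1)
    (hnp : n.Coprime p) (h1 : x ≠ 1) (hm1 : x ≠ -1) : tr x ^ 2 ≠ 4 := by
  have h2 := two_ne_zero_of_char (K := K) hp2
  intro h
  rcases eq_or_eq_neg_of_sq_eq_sq (tr x) 2 (by rw [h]; norm_num) with h' | h'
  · exact h1 (by simpa [hnp.gcd_eq_one] using pow_gcd_eq_one.2 ⟨hn, pow_char_of_tr_eq_two (p := p) h'⟩)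
  · have h'' := pow_char_of_tr_eq_two (p := p) (x := -x) (by rw [tr_neg, h', neg_neg])
    have hx : x ^ (p * 2) = 1 := by
      rw [pow_mul, ← (Nat.even_iff.2 rfl : Even 2).neg_pow (x ^ p),
        ← Odd.neg_pow (hp.out.odd_of_ne_two hp2), h'', one_pow]
    have hg : n.gcd (p * 2) ∣ 2 := by
      exact (Nat.Coprime.coprime_dvd_left (Nat.gcd_dvd_left n (p * 2)) hnp).dvd_of_dvd_mul_left
        (Nat.gcd_dvd_right n (p * 2))
    have hsq : x ^ 2 = 1 := orderOf_dvd_iff_pow_eq_one.1
      ((orderOf_dvd_of_pow_eq_one (pow_gcd_eq_one.2 ⟨hn, hx⟩)).trans hg)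
    exact hm1 (eq_neg_one_of_mul_self h2 (by rwa [← pow_two]) h1)

/-- Conjugation by `diag (μ, 1)`. -/
def dconj (μ : K) (hμ : μ ≠ 0) : SL(2, K) →* SL(2, K) where
  toFun g := ⟨!![g.1 0 0, μ * g.1 0 1; g.1 1 0 / μ, g.1 1 1], by
    rw [Matrix.det_fin_two_of]; field_simp; linear_combination det_eq g⟩
  map_one' := by ext i j; fin_cases i <;> fin_cases j <;> simp
  map_mul' g h := by
    refine Subtype.ext ?_
    show (!![_, _; _, _] : Matrix (Fin 2) (Fin 2) K) = !![_, _; _, _] * !![_, _; _, _]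
    ext i j; fin_cases i <;> fin_cases j <;>
      simp [Matrix.mul_apply, Fin.sum_univ_two, Matrix.SpecialLinearGroup.coe_mul] <;> field_simp

@[simp] theorem coe_dconj (μ : K) (hμ : μ ≠ 0) (g : SL(2, K)) :
    (dconj μ hμ g : Matrix (Fin 2) (Fin 2) K) = !![g.1 0 0, μ * g.1 0 1; g.1 1 0 / μ, g.1 1 1] :=
  rfl

theorem dconj_injective (μ : K) (hμ : μ ≠ 0) : Function.Injective (dconj μ hμ) := by
  intro g h e
  have e00 := congrArg (fun t : SL(2, K) => t.1 0 0) e
  have e01 := congrArg (fun t : SL(2, K) => t.1 0 1) e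
  have e10 := congrArg (fun t : SL(2, K) => t.1 1 0) e
  have e11 := congrArg (fun t : SL(2, K) => t.1 1 1) e
  simp [hμ] at e00 e01 e10 e11
  ext i j; fin_cases i <;> fin_cases j <;> assumption

/-- The Weyl element. -/
def weyl (F : Type*) [CommRing F] : SL(2, F) := ⟨!![0, -1; 1, 0], by simp [Matrix.det_fin_two]⟩

@[simp] theorem coe_weyl (F : Type*) [CommRing F] :
    (weyl F : Matrix (Fin 2) (Fin 2) F) = !![0, -1; 1, 0] := rfl

theorem eq_top_of_up_weyl {q : ℕ} [Fact q.Prime] (S : Subgroup SL(2, ZMod q)) (hu : up 1 ∈ S)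
    (hw : weyl (ZMod q) ∈ S) : S = ⊤ := by
  have hall : ∀ c : ZMod q, up c ∈ S := fun c => by
    have := S.pow_mem hu c.val
    rwa [up_pow, ZMod.natCast_zmod_val, mul_one] at this
  refine Cfsg.Agent.Classical.sl_subgroup_eq_top_of_transvection_mem S fun i j hij c => ?_
  fin_cases i <;> fin_cases j
  · exact absurd rfl hij
  · convert hall c using 1
    apply Subtype.ext
    rw [Matrix.SpecialLinearGroup.transvection_coe]
    ext i' j'; fin_cases i' <;> fin_cases j' <;> simp [Matrix.single_apply]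
  · have : low c = weyl (ZMod q) * up (-c) * (weyl (ZMod q))⁻¹ := by
      rw [eq_mul_inv_iff_mul_eq]
      ext i' j'; fin_cases i' <;> fin_cases j' <;>
        simp [Matrix.mul_apply, Fin.sum_univ_two, Matrix.SpecialLinearGroup.coe_mul]
    convert (this ▸ S.mul_mem (S.mul_mem hw (hall (-c))) (S.inv_mem hw) : low c ∈ S) using 1
    apply Subtype.ext
    rw [Matrix.SpecialLinearGroup.transvection_coe]
    ext i' j'; fin_cases i' <;> fin_cases j' <;> simp [Matrix.single_apply]
  · exact absurd rfl hij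

/-- An invariant Sylow subgroup that is moved. -/
theorem exists_moved_sylow {G : Type*} [Group G] [Finite G] (Q A : Subgroup G)
    (hAQ : A ≤ Subgroup.normalizer (Q : Set G)) (hcop : (Nat.card A).Coprime (Nat.card Q))
    (hsolv : Group.IsSolvable A) (hnc : ¬ Q ≤ Subgroup.centralizer (A : Set G)) :
    ∃ (r : ℕ) (_ : Fact r.Prime) (R : Subgroup G), R ≤ Q ∧ IsPGroup r R ∧
      A ≤ Subgroup.normalizer (R : Set G) ∧ ¬ R ≤ Subgroup.centralizer (A : Set G) := by
  by_contra! hcon
  refine hnc ?_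
  rw [← Subgroup.subgroupOf_eq_top]
  apply Subgroup.eq_top_of_card_eq
  refine Nat.dvd_antisymm (Subgroup.card_subgroup_dvd_card _) ?_
  rw [Nat.dvd_iff_prime_pow_dvd_dvd]
  intro r k hr hk
  have : Fact r.Prime := ⟨hr⟩
  obtain ⟨P, hP⟩ := CfsgLib.Coprime.exists_invariant_sylow A Q hAQ hcop (Or.inl hsolv) r
  have hle := hcon r ⟨hr⟩ _ (Subgroup.map_subtype_le _) (P.isPGroup'.map _) hP
  refine (P.pow_dvd_card_of_pow_dvd_card hk).trans (Subgroup.card_dvd_of_le fun x hx => ?_)
  exact hle ⟨x, hx, rfl⟩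

/-- An invariant Sylow subgroup that is moved, finite subgroup of any group. -/
theorem exists_moved_sylow' {G : Type*} [Group G] (Q : Subgroup G) [Finite Q] (a : G)
    (ha : a ∈ Subgroup.normalizer (Q : Set G)) (hfin : IsOfFinOrder a)
    (hcop : (orderOf a).Coprime (Nat.card Q)) (hnc : ∃ q ∈ Q, ¬ Commute a q) :
    ∃ (r : ℕ) (_ : Fact r.Prime) (R : Subgroup G), R ≤ Q ∧ IsPGroup r R ∧
      (∀ g ∈ R, a * g * a⁻¹ ∈ R ∧ a⁻¹ * g * a ∈ R) ∧ ∃ g ∈ R, ¬ Commute a g := by
  set S := Q ⊔ Subgroup.zpowers a with hS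
  have hcoe : (S : Set G) = (Q : Set G) * (Subgroup.zpowers a : Set G) :=
    Subgroup.coe_mul_of_right_le_normalizer_left _ _ (Subgroup.zpowers_le.2 ha)
  have hSf : (S : Set G).Finite := by
    rw [hcoe]
    exact (Set.toFinite (Q : Set G)).mul hfin.finite_zpowers
  have : Finite S := hSf.to_subtype
  have haS : a ∈ S := Subgroup.mem_sup_right (Subgroup.mem_zpowers a)
  set a' : S := ⟨a, haS⟩
  set Q' := Q.subgroupOf S
  have hmapQ : Q'.map S.subtype = Q := Subgroup.map_subgroupOf_eq_of_le le_sup_left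
  have hsolv : Group.IsSolvable (Subgroup.zpowers a') :=
    Group.isSolvable_of_comm fun x y => mul_comm' x y
  obtain ⟨r, hr, R, hRQ, hRr, hAR, hRc⟩ := exists_moved_sylow Q' (Subgroup.zpowers a')
    (Subgroup.zpowers_le.2 (by
      rw [Subgroup.mem_normalizer_iff]
      intro g
      exact Subgroup.mem_normalizer_iff.1 ha g))
    (by
      rw [Nat.card_zpowers, ← Subgroup.orderOf_coe a',
        Nat.card_congr (Subgroup.subgroupOfEquivOfLe (le_sup_left : Q ≤ S)).toEquiv]
      exact hcop)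
    hsolv (fun h => by
      obtain ⟨q, hq, hq'⟩ := hnc
      exact hq' (congrArg Subtype.val (Subgroup.mem_centralizer_iff.1
        (h (show (⟨q, Subgroup.mem_sup_left hq⟩ : S) ∈ Q' from hq)) a' (Subgroup.mem_zpowers a'))))
  refine ⟨r, hr, R.map S.subtype, (Subgroup.map_mono hRQ).trans hmapQ.le, hRr.map _, ?_, ?_⟩
  · rintro _ ⟨g, hg, rfl⟩
    have hn := hAR (Subgroup.mem_zpowers a')
    refine ⟨⟨a' * g * a'⁻¹, (Subgroup.mem_normalizer_iff.1 hn g).1 hg, rfl⟩,
      ⟨a'⁻¹ * g * a', ?_, rfl⟩⟩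
    have := (Subgroup.mem_normalizer_iff.1 ((Subgroup.normalizer _).inv_mem hn) g).1 hg
    rwa [inv_inv] at this
  · by_contra! hc
    refine hRc fun g hg => ?_
    rw [Subgroup.mem_centralizer_iff]
    intro b hb
    obtain ⟨k, rfl⟩ := Subgroup.mem_zpowers_iff.1 hb
    exact ((show Commute a' g from Subtype.ext (hc _ ⟨g, hg, rfl⟩).eq).zpow_left k).eq

/-- A `p'`-subgroup moved by a transvection gives `p = 3` and a copy of `SL₂(3)`. -/
theorem exists_sl2_three (hp2 : p ≠ 2) {μ : K} (hμ : μ ≠ 0) (Q : Subgroup SL(2, K)) [Finite Q]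
    (hQp : (Nat.card Q).Coprime p)
    (hnorm : up μ ∈ Subgroup.normalizer (Q : Set SL(2, K)))
    (hnc : ∃ q ∈ Q, ¬ Commute (up μ) q) :
    p = 3 ∧ ∃ ψ : SL(2, ZMod 3) →* SL(2, K),
      Function.Injective ψ ∧ ψ.range ≤ Q ⊔ Subgroup.zpowers (up μ) := by
  have h2 := two_ne_zero_of_char (K := K) hp2
  set a := up μ with ha
  have hap : a ^ p = 1 := up_pow_char μ
  have hord : orderOf a = p := orderOf_eq_prime hap (up_ne_one hμ)
  obtain ⟨r, hr, R, hRQ, hRr, hAR, hRc⟩ := exists_moved_sylow' Q a hnorm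
    (isOfFinOrder_iff_pow_eq_one.2 ⟨p, hp.out.pos, hap⟩) (hord ▸ hQp.symm) hnc
  have : Finite R := Finite.of_injective _ (Subgroup.inclusion_injective hRQ)
  have hconj : ∀ g ∈ R, a * g * a⁻¹ ∈ R := fun g hg => (hAR g hg).1
  have hns : ∀ g ∈ R, g ≠ 1 → g ≠ -1 → NonScalar g ∧ tr g ^ 2 ≠ 4 := fun g hg h1 h1' => by
    refine ⟨nonScalar_of_ne h1 h1', tr_sq_ne_four_of_coprime hp2 (n := Nat.card Q) ?_ hQp h1 h1'⟩
    exact congrArg Subtype.val (pow_card_eq_one' (x := (⟨g, hRQ hg⟩ : Q)))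
  have hnotc : ∀ g ∈ R, NonScalar g → ∀ m : ℕ, ¬ p ∣ m → ¬ Commute (a ^ m) g := by
    intro g hg hgs m hm hc
    have := eq_one_of_commute (p := p) hp2 hgs (hns g hg hgs.ne_one hgs.ne_neg_one).2
      (g := a ^ m) (by rw [← pow_mul, mul_comm, pow_mul, hap, one_pow]) hc.symm
    exact hm (hord ▸ orderOf_dvd_of_pow_eq_one this)
  -- `R` is not commutative
  have hnonab : ∃ g ∈ R, ∃ h ∈ R, ¬ Commute g h := by
    by_contra! hcon
    obtain ⟨g, hg, hgc⟩ := hRc
    refine hgc ?_
    by_cases h1 : g = 1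
    · rw [h1]; exact Commute.one_right a
    by_cases h1' : g = -1
    · rw [h1']; exact Commute.neg_one_right a
    obtain ⟨hgs, hgt⟩ := hns g hg h1 h1'
    exact commute_of_conj h2 hgs hgt (hp.out.odd_of_ne_two hp2) hap (hcon g hg _ (hconj g hg))
  -- central elements of `R` are `±1`
  have hcent : ∀ z ∈ R, (∀ g ∈ R, Commute z g) → z = 1 ∨ z = -1 := by
    intro z hz hzc
    by_contra hcon
    push Not at hcon
    obtain ⟨g, hg, h, hh, hgh⟩ := hnonab
    exact hgh (commute_trans (nonScalar_of_ne hcon.1 hcon.2) (hzc g hg) (hzc h hh))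
  have : Nontrivial R := by
    obtain ⟨g, hg, h, -, hgh⟩ := hnonab
    exact ⟨⟨g, hg⟩, 1, fun e => hgh (by
      rw [show g = 1 from congrArg Subtype.val e]; exact Commute.one_left h)⟩
  have hneg : (-1 : SL(2, K)) ∈ R := by
    have := hRr.center_nontrivial
    obtain ⟨⟨z, hz⟩, hz1⟩ := exists_ne (1 : Subgroup.center R)
    rcases hcent z z.2 (fun g hg => (congrArg Subtype.val
      (Subgroup.mem_center_iff.1 hz ⟨g, hg⟩)).symm) with h | h
    · exact absurd (Subtype.ext (Subtype.ext h)) hz1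
    · exact h ▸ z.2
  -- `r = 2` and second centre
  set Z := Subgroup.center R with hZ
  obtain ⟨x, hxR, hx1, hx1', hxg⟩ : ∃ x ∈ R, x ≠ 1 ∧ x ≠ -1 ∧
      ∀ g ∈ R, g * x * g⁻¹ = x ∨ g * x * g⁻¹ = -x := by
    have : Nontrivial (R ⧸ Z) := by
      rw [QuotientGroup.nontrivial_iff]
      intro htop
      obtain ⟨g, hg, h, hh, hgh⟩ := hnonab
      have : (⟨g, hg⟩ : R) ∈ Z := htop ▸ Subgroup.mem_top _
      exact hgh (congrArg Subtype.val (Subgroup.mem_center_iff.1 this ⟨h, hh⟩)).symm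
    have := (hRr.to_quotient Z).center_nontrivial
    obtain ⟨⟨q, hq⟩, hq1⟩ := exists_ne (1 : Subgroup.center (R ⧸ Z))
    obtain ⟨x, rfl⟩ := QuotientGroup.mk_surjective q
    have hxZ : x ∉ Z := fun h => hq1 (Subtype.ext ((QuotientGroup.eq_one_iff x).2 h))
    refine ⟨x, x.2, fun h => hxZ ?_, fun h => hxZ ?_, fun g hg => ?_⟩
    · rw [show x = 1 from Subtype.ext h]; exact Z.one_mem
    · exact Subgroup.mem_center_iff.2 fun g => Subtype.ext (by push_cast; rw [h]; simp)
    · have hmem : (⟨g, hg⟩ : R) * x * (⟨g, hg⟩ : R)⁻¹ * x⁻¹ ∈ Z := by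
        rw [← QuotientGroup.eq_one_iff, QuotientGroup.mk_mul, QuotientGroup.mk_mul,
          QuotientGroup.mk_mul, Subgroup.mem_center_iff.1 hq, QuotientGroup.mk_inv,
          QuotientGroup.mk_inv, mul_inv_cancel_right, mul_inv_cancel]
      rcases hcent _ (Subtype.prop _) (fun k hk => (congrArg Subtype.val
        (Subgroup.mem_center_iff.1 hmem ⟨k, hk⟩)).symm) with h | h
      · left; push_cast at h; exact mul_inv_eq_one.1 h
      · right; push_cast at h; rw [mul_inv_eq_iff_eq_mul, neg_one_mul] at h; exact h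
  obtain ⟨hxs, hxt⟩ := hns x hxR hx1 hx1'
  have htx : tr x = 0 := by
    by_contra ht0
    obtain ⟨g, hg, h, hh, hgh⟩ := hnonab
    have hall : ∀ k ∈ R, Commute x k := fun k hk => by
      rcases hxg k hk with e | e
      · exact (mul_inv_eq_iff_eq_mul.1 e).symm
      · have e' := congrArg tr e
        rw [tr_conj, tr_neg] at e'
        exact absurd (mul_left_cancel₀ h2 (by linear_combination e') : tr x = 0) ht0
    exact hgh (commute_trans hxs (hall g hg) (hall h hh))
  have hxx : x * x = -1 := mul_self_eq_neg_one htx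
  -- `y`
  set y := a * x * a⁻¹ with hy
  clear_value y
  have hyR : y ∈ R := hy ▸ hconj x hxR
  have hxy : ¬ Commute x y := fun h =>
    hnotc x hxR hxs 1 hp.out.not_dvd_one (by
      rw [pow_one]; exact commute_of_conj h2 hxs hxt (hp.out.odd_of_ne_two hp2) hap (hy ▸ h))
  have hty : tr y = 0 := by rw [hy, tr_conj, htx]
  have hyy : y * y = -1 := mul_self_eq_neg_one hty
  have hyx : y * x = -(x * y) := by
    rcases hxg y hyR with e | e
    · exact absurd (mul_inv_eq_iff_eq_mul.1 e).symm hxy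
    · rw [mul_inv_eq_iff_eq_mul.1 e, neg_mul]
  have hyg : ∀ g ∈ R, g * y * g⁻¹ = y ∨ g * y * g⁻¹ = -y := by
    intro g hg
    have hg' : a⁻¹ * g * a ∈ R := (hAR g hg).2
    rcases hxg _ hg' with e | e
    · left
      calc g * y * g⁻¹ = a * ((a⁻¹ * g * a) * x * (a⁻¹ * g * a)⁻¹) * a⁻¹ := by rw [hy]; group
        _ = y := by rw [e, hy]
    · right
      calc g * y * g⁻¹ = a * ((a⁻¹ * g * a) * x * (a⁻¹ * g * a)⁻¹) * a⁻¹ := by rw [hy]; group
        _ = -y := by rw [e, hy, mul_neg, neg_mul]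
  -- all elements of `R`
  have hall : ∀ g ∈ R, ∃ e ∈ ({1, x, y, x * y} : Set SL(2, K)), g = e ∨ g = -e := by
    intro g hg
    have key : ∀ e ∈ R, Commute (g * e) x → Commute (g * e) y → g * e = 1 ∨ g * e = -1 := by
      intro e he h1 h2'
      by_contra hcon
      push Not at hcon
      exact hxy (commute_trans (nonScalar_of_ne hcon.1 hcon.2) h1 h2')
    have hcx : ∀ e : SL(2, K), ∀ z : SL(2, K), g * z * g⁻¹ = z → e * z = z * e →
        Commute (g * e) z := fun e z h1 h2' => by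
      show g * e * z = z * (g * e)
      rw [mul_assoc, h2', ← mul_assoc, mul_inv_eq_iff_eq_mul.1 h1, mul_assoc]
    have hcx' : ∀ e : SL(2, K), ∀ z : SL(2, K), g * z * g⁻¹ = -z → e * z = -(z * e) →
        Commute (g * e) z := fun e z h1 h2' => by
      show g * e * z = z * (g * e)
      rw [mul_assoc, h2', mul_neg, ← mul_assoc, mul_inv_eq_iff_eq_mul.1 h1, neg_mul, neg_mul,
        neg_neg, mul_assoc]
    have fin : ∀ e f : SL(2, K), g * e = 1 ∨ g * e = -1 → f * e = 1 ∨ f * e = -1 →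
        g = f ∨ g = -f := by
      rintro e f (h | h) (h' | h')
      · left; exact mul_right_cancel (h.trans h'.symm)
      · right; exact mul_right_cancel (b := e) (by rw [h, neg_mul, h', neg_neg])
      · right; exact mul_right_cancel (b := e) (by rw [h, neg_mul, h'])
      · left; exact mul_right_cancel (h.trans h'.symm)
    have hxyx : x * y * x = -(x * (x * y)) := by rw [mul_assoc, hyx, mul_neg]
    have hxyy : x * y * y = -(y * (x * y)) := by
      rw [← mul_assoc, hyx, neg_mul, neg_neg]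
    rcases hxg g hg with ex | ex <;> rcases hyg g hg with ey | ey
    · exact ⟨1, by simp, fin 1 1 (key 1 R.one_mem (hcx 1 x ex (by simp)) (hcx 1 y ey (by simp)))
        (by simp)⟩
    · exact ⟨x, by simp, fin x x (key x hxR (hcx x x ex rfl)
        (hcx' x y ey (by rw [hyx, neg_neg]))) (Or.inr hxx)⟩
    · exact ⟨y, by simp, fin y y (key y hyR (hcx' y x ex hyx) (hcx y y ey rfl)) (Or.inr hyy)⟩
    · refine ⟨x * y, by simp, fin (x * y) (x * y) (key _ (R.mul_mem hxR hyR)
        (hcx' _ x ex hxyx) (hcx' _ y ey hxyy)) (Or.inr ?_)⟩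
      rw [← mul_assoc (x * y), hxyx, ← mul_assoc x x, hxx]; simp [hyy]
  have hys : NonScalar y := nonScalar_of_ne
    (fun h => hxy (by rw [h]; exact Commute.one_right x))
    (fun h => hxy (by rw [h]; exact Commute.neg_one_right x))
  have hsqc : ∀ g : SL(2, K), ∀ b : SL(2, K), b * g * b⁻¹ = g ∨ b * g * b⁻¹ = -g →
      Commute (b ^ 2) g := by
    intro g b h
    show b ^ 2 * g = g * b ^ 2
    rcases h with h | h <;> have h' := mul_inv_eq_iff_eq_mul.1 h
    · rw [pow_two, mul_assoc, h', ← mul_assoc, h', mul_assoc]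
    · rw [pow_two, mul_assoc, h', neg_mul, mul_neg, ← mul_assoc, h', neg_mul, neg_mul, neg_neg, mul_assoc]
  have hno : ∀ m : ℕ, m = 2 ∨ m = 4 → ¬ p ∣ m := by
    rintro m (rfl | rfl) hm
    · exact hp2 ((Nat.prime_dvd_prime_iff_eq hp.out Nat.prime_two).1 hm)
    · exact hp2 ((Nat.prime_dvd_prime_iff_eq hp.out Nat.prime_two).1
        (hp.out.dvd_of_dvd_pow (show p ∣ 2 ^ 2 from hm)))
  have hp3 : p = 3 := by
    obtain ⟨e, he, hay⟩ := hall _ (hconj y hyR)
    rcases he with he | he | he | he <;> rw [he] at hay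
    · exfalso
      rcases hay with h | h <;> rw [mul_inv_eq_iff_eq_mul] at h
      · exact hys.ne_one (mul_left_cancel (h.trans (by simp : 1 * a = a * 1)))
      · exact hys.ne_neg_one (mul_left_cancel (h.trans (by simp : -1 * a = a * -1)))
    · exfalso
      refine hnotc x hxR hxs 4 (hno 4 (Or.inr rfl)) ?_
      have : a ^ 2 * x * (a ^ 2)⁻¹ = x ∨ a ^ 2 * x * (a ^ 2)⁻¹ = -x := by
        rw [show a ^ 2 * x * (a ^ 2)⁻¹ = a * y * a⁻¹ by rw [hy, pow_two]; group]
        exact hay
      rw [show a ^ 4 = (a ^ 2) ^ 2 by rw [← pow_mul]]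
      exact hsqc x (a ^ 2) this
    · exfalso
      exact hnotc y hyR hys 2 (hno 2 (Or.inl rfl)) (hsqc y a hay)
    · have hxyR := R.mul_mem hxR hyR
      have h3 : Commute (a ^ 3) x := by
        have e1 : a ^ 3 * x * (a ^ 3)⁻¹ = a * (a * y * a⁻¹) * a⁻¹ := by
          rw [hy, pow_succ, pow_two]; group
        have e2 : a * (x * y) * a⁻¹ = y * (a * y * a⁻¹) := by rw [hy]; group
        have e3 : a ^ 3 * x * (a ^ 3)⁻¹ = x := by
          have hyxy : y * (x * y) = x := by
            rw [← mul_assoc, hyx, neg_mul, mul_assoc, hyy, mul_neg, mul_one, neg_neg]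
          rw [e1]
          rcases hay with h | h
          · rw [h, e2, h, hyxy]
          · rw [h, mul_neg, neg_mul, e2, h, mul_neg, neg_neg, hyxy]
        exact mul_inv_eq_iff_eq_mul.1 e3
      by_contra hne
      refine hnotc x hxR hxs 3 (fun h => hne ?_) h3
      exact (Nat.prime_dvd_prime_iff_eq hp.out Nat.prime_three).1 h
  refine ⟨hp3, ?_⟩
  subst hp3
  -- coordinates
  have h3 : (3 : K) = 0 := by exact_mod_cast CharP.cast_eq_zero K 3
  have hd := det_eq x
  have hs : x.1 1 1 = -x.1 0 0 := by rw [tr_eq] at htx; linear_combination htx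
  set s := x.1 0 0 with hs0
  set t := x.1 0 1 with ht0
  set u := x.1 1 0 with hu0
  have hxmat : x.1 = !![s, t; u, -s] := by
    ext i j; fin_cases i <;> fin_cases j <;> simp [hs, hs0, ht0, hu0]
  have hu : μ ^ 2 * u ^ 2 = 1 := by
    have htxy : tr (x * y) = 0 := by
      have : tr (x * y) = tr (y * x) := by
        simp only [tr, Matrix.SpecialLinearGroup.coe_mul]
        exact Matrix.trace_mul_comm _ _
      rw [hyx, tr_neg] at this
      exact mul_left_cancel₀ h2 (by linear_combination this)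
    rw [hy, ha, up_inv, tr_eq] at htxy
    simp [Matrix.SpecialLinearGroup.coe_mul, Matrix.mul_apply, Fin.sum_univ_two, hxmat] at htxy
    rw [hs] at hd
    linear_combination -htxy - 2 * hd - h3
  have hu' : u ≠ 0 := fun h => by rw [h] at hu; simp at hu
  have : CharP K 3 := inferInstance
  set ψ : SL(2, ZMod 3) →* SL(2, K) := ((MulAut.conj (up (s / u))).toMonoidHom.comp
    (dconj μ hμ)).comp (Matrix.SpecialLinearGroup.map (ZMod.castHom (dvd_refl 3) K)) with hψ
  refine ⟨ψ, ?_, ?_⟩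
  · rw [hψ, MonoidHom.coe_comp, MonoidHom.coe_comp]
    refine ((MulEquiv.injective _).comp (dconj_injective μ hμ)).comp ?_
    intro g h e
    ext i j
    exact (ZMod.castHom (dvd_refl 3) K).injective (congrArg (fun m : SL(2, K) => m.1 i j) e)
  have hup : ψ (up 1) = a := by
    have e : dconj μ hμ (Matrix.SpecialLinearGroup.map (ZMod.castHom (dvd_refl 3) K) (up 1)) = up μ := by
      ext i j; fin_cases i <;> fin_cases j <;> simp
    show up (s / u) * _ * (up (s / u))⁻¹ = a
    rw [e, up_mul, up_inv, up_mul, ha]; congr 1; ring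
  have hw : ψ (weyl (ZMod 3)) = x ∨ ψ (weyl (ZMod 3)) = -x := by
    have e : ψ (weyl (ZMod 3)) = up (s / u) *
        dconj μ hμ (weyl K) *
          (up (s / u))⁻¹ := by
      show up (s / u) * _ * (up (s / u))⁻¹ = _
      congr 3
      ext i j; fin_cases i <;> fin_cases j <;> simp
    rw [hs] at hd
    rcases eq_or_eq_neg_of_sq_eq_sq (μ * u) 1 (by rw [mul_pow, hu, one_pow]) with hμu | hμu
    · left
      rw [e, up_inv]
      have hμ' : μ = 1 / u := by field_simp; exact hμu
      have htv : t = -(s ^ 2 + 1) / u := by field_simp; linear_combination -hd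
      ext i j
      rw [hxmat]
      fin_cases i <;> fin_cases j <;>
        simp [Matrix.mul_apply, Fin.sum_univ_two, Matrix.SpecialLinearGroup.coe_mul] <;>
        rw [hμ'] <;> (try rw [htv]) <;> field_simp <;> ring
    · right
      rw [e, up_inv]
      have hμ' : μ = -1 / u := by field_simp; linear_combination hμu
      have htv : t = -(s ^ 2 + 1) / u := by field_simp; linear_combination -hd
      ext i j
      rw [Matrix.SpecialLinearGroup.coe_neg, hxmat]
      fin_cases i <;> fin_cases j <;>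
        simp [Matrix.mul_apply, Fin.sum_univ_two, Matrix.SpecialLinearGroup.coe_mul] <;>
        rw [hμ'] <;> (try rw [htv]) <;> field_simp <;> ring
  have hQ1 : x ∈ Q := hRQ hxR
  have hxm : ψ (weyl (ZMod 3)) ∈ Q := by
    rcases hw with h | h
    · rw [h]; exact hQ1
    · rw [h, ← neg_one_mul, ← hxx]; exact Q.mul_mem (Q.mul_mem hQ1 hQ1) hQ1
  rw [MonoidHom.range_eq_map, Subgroup.map_le_iff_le_comap, top_le_iff]
  refine eq_top_of_up_weyl _ ?_ ?_
  · rw [Subgroup.mem_comap, hup]; exact Subgroup.mem_sup_right (Subgroup.mem_zpowers a)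
  · exact Subgroup.mem_comap.2 (Subgroup.mem_sup_left hxm)

end CfsgLib.SL2Unipotent
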