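import Cfsg.Agent.Lib.PLocal5.FFBasic
import Cfsg.Agent.Lib.PLocal5.SL2Three

/-! Two offenders of order `p` generating a natural `SL(2, p)`. -/

set_option autoImplicit false
set_option linter.unusedSectionVars false
set_option linter.style.haveILetI false

open scoped commutatorElement MatrixGroups
open Subgroup

namespace CfsgLib.FFPair

open CfsgLib.SL2Unipotent

variable {G : Type*} [Group G] {p : ℕ} {V H : Subgroup G}

theorem commutator_closure_le {U T : Subgroup G} {s : Set G} (hn : s ⊆ normalizer (T : Set G))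
    (h : ∀ x ∈ s, ∀ u ∈ U, ⁅u, x⁆ ∈ T) : ⁅U, closure s⁆ ≤ T := by
  have key : ∀ x ∈ closure s, x ∈ normalizer (T : Set G) ∧ ∀ u ∈ U, ⁅u, x⁆ ∈ T := by
    intro x hx
    induction hx using closure_induction with
    | mem x hx => exact ⟨hn hx, h x hx⟩
    | one => exact ⟨one_mem _, fun u _ => by simp⟩
    | mul x y _ _ ihx ihy =>
      refine ⟨mul_mem ihx.1 ihy.1, fun u hu => ?_⟩
      have e : ⁅u, x * y⁆ = ⁅u, x⁆ * (x * ⁅u, y⁆ * x⁻¹) := by simp [commutatorElement_def, mul_assoc]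
      rw [e]
      exact T.mul_mem (ihx.2 u hu) (CfsgLib.Coprime.mem_normalizer_conj ihx.1 (ihy.2 u hu))
    | inv x _ ih =>
      refine ⟨inv_mem ih.1, fun u hu => ?_⟩
      have e : ⁅u, x⁻¹⁆ = x⁻¹ * ⁅u, x⁆⁻¹ * x := by simp [commutatorElement_def, mul_assoc]
      rw [e]
      exact CfsgLib.Coprime.mem_normalizer_conj' ih.1 (T.inv_mem (ih.2 u hu))
  exact commutator_le.2 fun u hu x hx => (key x hx).2 u hu

theorem commutator_sup_le {U T A B : Subgroup G} (hA : A ≤ normalizer (T : Set G))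
    (hB : B ≤ normalizer (T : Set G)) (h1 : ⁅U, A⁆ ≤ T) (h2 : ⁅U, B⁆ ≤ T) : ⁅U, A ⊔ B⁆ ≤ T := by
  rw [sup_eq_closure]
  refine commutator_closure_le (Set.union_subset hA hB) ?_
  rintro x (hx | hx) u hu
  · exact h1 (commutator_mem_commutator hu hx)
  · exact h2 (commutator_mem_commutator hu hx)

theorem commutator_sup_left_eq_bot {A B C : Subgroup G} (h1 : ⁅A, C⁆ = ⊥) (h2 : ⁅B, C⁆ = ⊥) :
    ⁅A ⊔ B, C⁆ = ⊥ := by
  rw [Subgroup.commutator_eq_bot_iff_le_centralizer] at h1 h2 ⊢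
  exact sup_le h1 h2

/-- A group stabilizing a series of length three acts as a `p`-group. -/
theorem pow_sq_mem_centralizer {D W C : Subgroup G} (hV : Cfsg.IsElementaryAbelian p V)
    (hD : D ≤ normalizer (V : Set G)) (hWV : W ≤ V) (hCW : C ≤ W) (hVD : ⁅V, D⁆ ≤ W)
    (hWD : ⁅W, D⁆ ≤ C) (hCD : ⁅C, D⁆ = ⊥) {d : G} (hd : d ∈ D) :
    (d ^ p) ^ p ∈ centralizer (V : Set G) := by
  have hWe : Cfsg.IsElementaryAbelian p W := CfsgLib.PLocal.elemAb_of_le hV hWV
  have h1 : d ^ p ∈ centralizer (W : Set G) :=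
    CfsgLib.Quadratic.pow_mem_centralizer hWe
      (CfsgLib.Quadratic.le_normalizer_of_commutator_le (hWD.trans hCW) hd) fun w hw =>
      ((mem_centralizer_iff.1 (CfsgLib.Quadratic.mem_centralizer_of_commutator_eq_bot hCD hd)) _
        (hWD (commutator_mem_commutator hw hd))).symm
  exact CfsgLib.Quadratic.pow_mem_centralizer hV (hD (D.pow_mem hd p)) fun v hv =>
    ((mem_centralizer_iff.1 h1) _ (hVD (commutator_mem_commutator hv (D.pow_mem hd p)))).symm

variable [Finite G] [Fact p.Prime]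

/-- Coordinates on a plane with chosen basis. -/
theorem exists_coords {W : Subgroup G} (hW : Cfsg.IsElementaryAbelian p W)
    (hc : Nat.card W = p ^ 2) {u w : G} (hu : u ∈ W) (hw : w ∈ W)
    (hind : ∀ i j : ℕ, u ^ i * w ^ j = 1 → p ∣ i ∧ p ∣ j) :
    ∃ e : Multiplicative (ZMod p × ZMod p) ≃* W,
      (e (Multiplicative.ofAdd (1, 0)) : G) = u ∧ (e (Multiplicative.ofAdd (0, 1)) : G) = w := by
  have hp : p.Prime := Fact.out
  let F : Multiplicative (ZMod p × ZMod p) →* W := MonoidHom.mk'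
    (fun x => ⟨u ^ (Multiplicative.toAdd x).1.val * w ^ (Multiplicative.toAdd x).2.val,
      W.mul_mem (W.pow_mem hu _) (W.pow_mem hw _)⟩) fun x y => by
      apply Subtype.ext
      simp only [toAdd_mul, Prod.fst_add, Prod.snd_add, Subgroup.coe_mul, ZMod.val_add]
      rw [← pow_eq_pow_mod _ (hW.2 u hu), ← pow_eq_pow_mod _ (hW.2 w hw), pow_add, pow_add]
      have hcomm : Commute (u ^ (Multiplicative.toAdd y).1.val) (w ^ (Multiplicative.toAdd x).2.val) :=
        CfsgLib.Quadratic.elemAb_comm hW (W.pow_mem hu _) (W.pow_mem hw _)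
      exact hcomm.mul_mul_mul_comm _ _
  have hF : Function.Injective F := by
    rw [injective_iff_map_eq_one]
    intro x hx
    have h := hind _ _ (congrArg Subtype.val hx)
    have h0 : ∀ z : ZMod p, p ∣ z.val → z = 0 := fun z hz =>
      (ZMod.val_eq_zero z).1 (Nat.eq_zero_of_dvd_of_lt hz z.val_lt)
    refine Multiplicative.toAdd.injective (Prod.ext ?_ ?_)
    · simpa using h0 _ h.1
    · simpa using h0 _ h.2
  have hb : Function.Bijective F :=
    (Nat.bijective_iff_injective_and_card F).2 ⟨hF, by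
      rw [Nat.card_congr Multiplicative.toAdd, Nat.card_prod, Nat.card_zmod, hc, sq]⟩
  refine ⟨MulEquiv.ofBijective F hb, ?_, ?_⟩ <;>
    simp [F, ZMod.val_one]

/-- The matrices of the normalizer of a plane. -/
theorem exists_matrix_hom {W : Subgroup G} (e : Multiplicative (ZMod p × ZMod p) ≃* W) :
    ∃ M : ↥(normalizer (W : Set G)) →* Matrix (Fin 2) (Fin 2) (ZMod p),
      ∀ (g : ↥(normalizer (W : Set G))) (i j : ZMod p),
        (g : G) * (e (Multiplicative.ofAdd (i, j)) : G) * (g : G)⁻¹ =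
          (e (Multiplicative.ofAdd (M g 0 0 * i + M g 0 1 * j, M g 1 0 * i + M g 1 1 * j)) : G) := by
  let σ : ↥(normalizer (W : Set G)) → W →* W := fun g =>
    (W.normalizerMonoidHom g).toMonoidHom
  have hσ : ∀ g (x : W), (σ g x : G) = (g : G) * (x : G) * (g : G)⁻¹ := fun g x => rfl
  let T : ↥(normalizer (W : Set G)) → (ZMod p × ZMod p →+ ZMod p × ZMod p) := fun g =>
    AddMonoidHom.mk' (fun x => Multiplicative.toAdd (e.symm (σ g (e (Multiplicative.ofAdd x)))))
      fun x y => by simp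
  have hT : ∀ (g : ↥(normalizer (W : Set G))) (x : ZMod p × ZMod p),
      (g : G) * (e (Multiplicative.ofAdd x) : G) * (g : G)⁻¹ =
      (e (Multiplicative.ofAdd (T g x)) : G) := by
    intro g x
    rw [← hσ g]
    simp [T]
  have hlin : ∀ g i j, T g (i, j) = ((T g (1, 0)).1 * i + (T g (0, 1)).1 * j,
      (T g (1, 0)).2 * i + (T g (0, 1)).2 * j) := by
    intro g i j
    have : (i, j) = i • ((1, 0) : ZMod p × ZMod p) + j • (0, 1) := by simp
    conv_lhs => rw [this, map_add, ZMod.map_smul, ZMod.map_smul]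
    ext <;> simp [mul_comm]
  have hinj : ∀ x y : ZMod p × ZMod p,
      (e (Multiplicative.ofAdd x) : G) = (e (Multiplicative.ofAdd y) : G) → x = y := fun x y h =>
    Multiplicative.ofAdd.injective (e.injective (Subtype.ext h))
  let M : ↥(normalizer (W : Set G)) → Matrix (Fin 2) (Fin 2) (ZMod p) := fun g =>
    !![(T g (1, 0)).1, (T g (0, 1)).1; (T g (1, 0)).2, (T g (0, 1)).2]
  have hmul : ∀ g h x, T (g * h) x = T g (T h x) := by
    intro g h x
    apply hinj
    rw [← hT, ← hT, ← hT, Subgroup.coe_mul]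
    group
  have hone : ∀ x, T 1 x = x := by
    intro x
    apply hinj
    rw [← hT]
    simp
  refine ⟨{ toFun := M, map_one' := ?_, map_mul' := fun g h => ?_ }, fun g i j => ?_⟩
  · simp only [M, hone]
    exact Matrix.one_fin_two.symm
  · have e0 := (hmul g h (1, 0)).trans (hlin g _ _)
    have e1 := (hmul g h (0, 1)).trans (hlin g _ _)
    simp only [M, e0, e1, Matrix.mul_fin_two]
    rfl
  · rw [hT, hlin]
    simp [M]

/-- `X` is a copy of `SL(2, p)` acting naturally on the plane `[V, X]` and trivially on a complement. -/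
structure IsNatural (p : ℕ) (V X : Subgroup G) : Prop where
  card_plane : Nat.card ↥(⁅V, X⁆) = p ^ 2
  inf_fixed : ⁅V, X⁆ ⊓ (V ⊓ centralizer (X : Set G)) = ⊥
  sup_fixed : ⁅V, X⁆ ⊔ (V ⊓ centralizer (X : Set G)) = V
  faithful : X ⊓ centralizer ((⁅V, X⁆ : Subgroup G) : Set G) = ⊥
  iso : Nonempty (X ≃* Matrix.SpecialLinearGroup (Fin 2) (ZMod p))
  transitive : ∀ s ∈ ⁅V, X⁆, ∀ t ∈ ⁅V, X⁆, s ≠ 1 → t ≠ 1 → ∃ g ∈ X, g * s * g⁻¹ = t
  exists_match : ∀ g ∈ normalizer ((⁅V, X⁆ : Subgroup G) : Set G),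
    g ^ p ∈ centralizer ((⁅V, X⁆ : Subgroup G) : Set G) →
      ∃ x ∈ X, ∀ w ∈ ⁅V, X⁆, g * w * g⁻¹ = x * w * x⁻¹

/-- Two offenders of order `p` generating no `p`-group. -/
theorem pair_spec (S : Setting p V H) {A B : Subgroup G} (hA : IsTrans p V H A)
    (hB : IsTrans p V H B) (hX : ¬ IsPGroup p ↥(A ⊔ B)) :
    ⁅⁅V, A⁆, B⁆ ≠ ⊥ ∧ IsNatural p V (A ⊔ B) ∧
      ∃ φ : ↥(A ⊔ B) →* SL(2, ZMod p), Function.Injective φ ∧
        ∃ a : ↥(A ⊔ B), zpowers (a : G) = A ∧ φ a = up 1 := by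
  set X := A ⊔ B with hXdef
  have hXH : X ≤ H := sup_le hA.le hB.le
  have hXV : X ≤ normalizer (V : Set G) := hXH.trans S.le_normalizer
  have hp : p.Prime := Fact.out
  have hcaV := CfsgLib.Quadratic.commutator_le_self (hA.le_normalizer S)
  have hcbV := CfsgLib.Quadratic.commutator_le_self (hB.le_normalizer S)
  have hqa := hA.quadratic S
  have hqb := hB.quadratic S
  -- neither center is fixed by the other offender
  have hmoved : ∀ {A B : Subgroup G}, IsTrans p V H A → IsTrans p V H B →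
      ¬ IsPGroup p ↥(A ⊔ B) → ⁅⁅V, B⁆, A⁆ ≠ ⊥ := by
    intro A B hA hB hX hba
    apply hX
    intro d
    refine ⟨2, Subtype.ext ?_⟩
    have hXH : A ⊔ B ≤ H := sup_le hA.le hB.le
    have hcaV := CfsgLib.Quadratic.commutator_le_self (hA.le_normalizer S)
    have hcbV := CfsgLib.Quadratic.commutator_le_self (hB.le_normalizer S)
    have hWA : ⁅⁅V, A⁆ ⊔ ⁅V, B⁆, A⁆ = ⊥ := commutator_sup_left_eq_bot (hA.quadratic S) hba
    have hWB : ⁅⁅V, A⁆ ⊔ ⁅V, B⁆, B⁆ ≤ ⁅V, B⁆ := commutator_mono (sup_le hcaV hcbV) le_rfl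
    have hCA : A ≤ normalizer ((⁅V, B⁆ : Subgroup G) : Set G) :=
      CfsgLib.Quadratic.le_normalizer_of_commutator_le (hba.le.trans bot_le)
    have hCB : B ≤ normalizer ((⁅V, B⁆ : Subgroup G) : Set G) :=
      CfsgLib.Quadratic.le_normalizer_of_commutator_le ((hB.quadratic S).le.trans bot_le)
    have hWA' : A ≤ normalizer ((⁅V, A⁆ ⊔ ⁅V, B⁆ : Subgroup G) : Set G) :=
      CfsgLib.Quadratic.le_normalizer_of_commutator_le (hWA.le.trans bot_le)
    have hWB' : B ≤ normalizer ((⁅V, A⁆ ⊔ ⁅V, B⁆ : Subgroup G) : Set G) :=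
      CfsgLib.Quadratic.le_normalizer_of_commutator_le (hWB.trans le_sup_right)
    have hCX : ⁅⁅V, B⁆, A ⊔ B⁆ = ⊥ := eq_bot_iff.2
      (commutator_sup_le (by rw [normalizer_eq_top]; exact le_top)
        (by rw [normalizer_eq_top]; exact le_top) hba.le
        (hB.quadratic S).le)
    have h := pow_sq_mem_centralizer S.elemAb (hXH.trans S.le_normalizer) (sup_le hcaV hcbV)
      le_sup_right (commutator_sup_le hWA' hWB' le_sup_left le_sup_right)
      (commutator_sup_le hCA hCB (hWA.le.trans bot_le) hWB) hCX d.2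
    rw [← pow_mul, ← sq] at h
    have : (d : G) ^ p ^ 2 ∈ H ⊓ centralizer (V : Set G) := ⟨H.pow_mem (hXH d.2) _, h⟩
    rw [S.faithful, mem_bot] at this
    simpa using this
  have hba : ⁅⁅V, B⁆, A⁆ ≠ ⊥ := hmoved hA hB hX
  have hab : ⁅⁅V, A⁆, B⁆ ≠ ⊥ := hmoved hB hA (by rw [sup_comm]; exact hX)
  refine ⟨hab, ?_⟩
  -- centers are lines not fixed by the other offender
  have hline : ∀ {A B : Subgroup G}, IsTrans p V H A → ⁅⁅V, A⁆, B⁆ ≠ ⊥ →
      ⁅V, A⁆ ⊓ centralizer (B : Set G) = ⊥ := by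
    intro A B hA hne
    have hd := card_dvd_of_le (inf_le_left : ⁅V, A⁆ ⊓ centralizer (B : Set G) ≤ ⁅V, A⁆)
    rw [hA.card_center S] at hd
    rcases (Nat.dvd_prime hp).1 hd with e | e
    · exact card_eq_one.1 e
    · refine absurd ?_ hne
      rw [Subgroup.commutator_eq_bot_iff_le_centralizer]
      exact inf_eq_left.1 (eq_of_le_of_card_ge inf_le_left (by rw [hA.card_center S, e]))
  have hla := hline hA hab
  have hlb := hline hB hba
  have hcb : ⁅V, B⁆ ≤ centralizer (B : Set G) := Subgroup.commutator_eq_bot_iff_le_centralizer.1 hqb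
  have hca : ⁅V, A⁆ ≤ centralizer (A : Set G) := Subgroup.commutator_eq_bot_iff_le_centralizer.1 hqa
  have hdis : ⁅V, A⁆ ⊓ ⁅V, B⁆ = ⊥ := eq_bot_iff.2 ((inf_le_inf_left _ hcb).trans hla.le)
  set W := ⁅V, A⁆ ⊔ ⁅V, B⁆ with hWdef
  have hWV : W ≤ V := sup_le hcaV hcbV
  have hWc : Nat.card W = p ^ 2 := by
    have := CfsgLib.Offender.card_sup_mul_card_inf_of_le S.elemAb hcaV hcbV
    rwa [inf_comm, hdis, card_bot, mul_one, hA.card_center S, hB.card_center S, ← sq] at this
  have hWA : A ≤ normalizer (W : Set G) :=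
    CfsgLib.Quadratic.le_normalizer_of_commutator_le ((commutator_mono hWV le_rfl).trans le_sup_left)
  have hWB : B ≤ normalizer (W : Set G) :=
    CfsgLib.Quadratic.le_normalizer_of_commutator_le ((commutator_mono hWV le_rfl).trans le_sup_right)
  have hWX : ⁅V, X⁆ = W := le_antisymm (commutator_sup_le hWA hWB le_sup_left le_sup_right)
    (sup_le (commutator_mono le_rfl le_sup_left) (commutator_mono le_rfl le_sup_right))
  set U := V ⊓ centralizer (X : Set G) with hUdef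
  have hWU : W ⊓ U = ⊥ := by
    rw [eq_bot_iff]
    rintro x ⟨hxW, -, hxX⟩
    obtain ⟨y, hy, z, hz, rfl⟩ := CfsgLib.Coprime.exists_mul_of_mem_sup (H := ⁅V, A⁆) (N := ⁅V, B⁆)
      (fun y hy => centralizer_le_normalizer _ (mem_centralizer_iff.2 fun z hz =>
        CfsgLib.Quadratic.elemAb_comm S.elemAb (hcbV hz) (hcaV hy))) hxW
    have hxA : y * z ∈ centralizer (A : Set G) := centralizer_le (le_sup_left : A ≤ X) hxX
    have hxB : y * z ∈ centralizer (B : Set G) := centralizer_le (le_sup_right : B ≤ X) hxX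
    have hz1 : z = 1 := by
      have : z ∈ ⁅V, B⁆ ⊓ centralizer (A : Set G) :=
        ⟨hz, by simpa using mul_mem (inv_mem (hca hy)) hxA⟩
      rwa [hlb, mem_bot] at this
    subst hz1
    rw [mul_one] at hxB ⊢
    exact hla.le ⟨hy, hxB⟩
  have hWUV : W ⊔ U = V := by
    refine eq_of_le_of_card_ge (sup_le hWV inf_le_left) ?_
    have h1 := CfsgLib.Offender.card_sup_mul_card_inf_of_le S.elemAb hWV
      (inf_le_left : U ≤ V)
    rw [inf_comm U W, hWU, card_bot, mul_one, hWc] at h1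
    rw [h1]
    have h2 := CfsgLib.Offender.card_mul_card_le (R := V)
      (inf_le_left : V ⊓ centralizer (A : Set G) ≤ V) (inf_le_left : V ⊓ centralizer (B : Set G) ≤ V)
    rw [← CfsgLib.Offender.fixed_sup, ← hXdef, ← hUdef] at h2
    refine Nat.le_of_mul_le_mul_left ?_ (Nat.card_pos (α := V))
    calc Nat.card V * Nat.card V = (Nat.card ↥(V ⊓ centralizer (A : Set G)) * p) *
          (Nat.card ↥(V ⊓ centralizer (B : Set G)) * p) := by rw [hA.card_fixed, hB.card_fixed]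
      _ = (Nat.card ↥(V ⊓ centralizer (A : Set G)) * Nat.card ↥(V ⊓ centralizer (B : Set G))) *
          p ^ 2 := by ring
      _ ≤ (Nat.card V * Nat.card U) * p ^ 2 := Nat.mul_le_mul_right _ h2
      _ = _ := by ring
  have hfaith : X ⊓ centralizer (W : Set G) = ⊥ := by
    rw [eq_bot_iff]
    rintro x ⟨hx, hxW⟩
    refine S.faithful.le ⟨hXH hx, ?_⟩
    have hV' : V ≤ centralizer {x} := by
      rw [← hWUV]
      refine sup_le (fun w hw => mem_centralizer_singleton_iff.2 (mem_centralizer_iff.1 hxW w hw))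
        (fun u hu => mem_centralizer_singleton_iff.2 (mem_centralizer_iff.1 hu.2 x hx).symm)
    exact mem_centralizer_iff.2 fun v hv => mem_centralizer_singleton_iff.1 (hV' hv)
  -- a basis
  obtain ⟨a, ha, hza⟩ := hA.exists_gen
  obtain ⟨b, hb, hzb⟩ := hB.exists_gen
  obtain ⟨w, hw, hw1⟩ := (bot_or_exists_ne_one ⁅V, B⁆).resolve_left (hB.commutator_ne_bot S)
  have hwa : ⁅w, a⁆ ≠ 1 := fun h => hw1 (by
    have : w ∈ ⁅V, B⁆ ⊓ centralizer (A : Set G) := ⟨hw, by
      rw [← hza]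
      exact CfsgLib.Quadratic.mem_centralizer_zpowers.2
        (commutatorElement_eq_one_iff_mul_comm.1 h).symm⟩
    rwa [hlb, mem_bot] at this)
  set u := ⁅w, a⁆⁻¹ with hudef
  have hu : u ∈ ⁅V, A⁆ := inv_mem (commutator_mem_commutator (hcbV hw) ha)
  have hu1 : u ≠ 1 := inv_ne_one.2 hwa
  have hub : ⁅u, b⁆ ≠ 1 := fun h => hu1 (by
    have : u ∈ ⁅V, A⁆ ⊓ centralizer (B : Set G) := ⟨hu, by
      rw [← hzb]
      exact CfsgLib.Quadratic.mem_centralizer_zpowers.2
        (commutatorElement_eq_one_iff_mul_comm.1 h).symm⟩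
    rwa [hla, mem_bot] at this)
  have hWe : Cfsg.IsElementaryAbelian p W := CfsgLib.PLocal.elemAb_of_le S.elemAb hWV
  have hord : ∀ x ∈ W, x ≠ 1 → ∀ i : ℕ, x ^ i = 1 → p ∣ i := fun x hx hx1 i hi => by
    rw [← orderOf_eq_prime (hWe.2 x hx) hx1]
    exact orderOf_dvd_of_pow_eq_one hi
  obtain ⟨e, heu, hew⟩ := exists_coords hWe hWc (mem_sup_left hu) (mem_sup_right hw)
    (fun i j hij => by
      have h1 : u ^ i ∈ ⁅V, A⁆ ⊓ ⁅V, B⁆ := ⟨pow_mem hu i, by
        show u ^ i ∈ ⁅V, B⁆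
        rw [mul_eq_one_iff_eq_inv.1 hij]; exact inv_mem (pow_mem hw j)⟩
      rw [hdis, mem_bot] at h1
      refine ⟨hord u (mem_sup_left hu) hu1 i h1, hord w (mem_sup_right hw) hw1 j ?_⟩
      rwa [h1, one_mul] at hij)
  obtain ⟨M, hM⟩ := exists_matrix_hom e
  have hinj : ∀ x y : ZMod p × ZMod p,
      (e (Multiplicative.ofAdd x) : G) = (e (Multiplicative.ofAdd y) : G) → x = y := fun x y h =>
    Multiplicative.ofAdd.injective (e.injective (Subtype.ext h))
  have hcol : ∀ (g : ↥(normalizer (W : Set G))) (x y : ZMod p × ZMod p),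
      (g : G) * u * (g : G)⁻¹ = (e (Multiplicative.ofAdd x) : G) →
      (g : G) * w * (g : G)⁻¹ = (e (Multiplicative.ofAdd y) : G) →
      M g = !![x.1, y.1; x.2, y.2] := by
    intro g x y hx hy
    rw [← heu, hM] at hx
    rw [← hew, hM] at hy
    rw [Matrix.eta_fin_two (M g)]
    simp [← hinj _ _ hx, ← hinj _ _ hy]
  have hXN : X ≤ normalizer (W : Set G) := sup_le hWA hWB
  let M' : X →* Matrix (Fin 2) (Fin 2) (ZMod p) := M.comp (inclusion hXN)
  have hdet1 : ∀ g : ↥(normalizer (W : Set G)), (g : G) ^ p ∈ centralizer (W : Set G) →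
      (M g).det = 1 := by
    intro g hg
    have h1 : M (g ^ p) = 1 := by
      have h := hcol (g ^ p) (1, 0) (0, 1)
        (by rw [heu, SubgroupClass.coe_pow, ← mem_centralizer_iff.1 hg u (mem_sup_left hu)]; group)
        (by rw [hew, SubgroupClass.coe_pow, ← mem_centralizer_iff.1 hg w (mem_sup_right hw)]; group)
      rw [h, Matrix.one_fin_two]
    have h2 : (M g).det ^ p = 1 := by rw [← Matrix.det_pow, ← map_pow, h1, Matrix.det_one]
    rwa [ZMod.pow_card] at h2
  have hdet : ∀ x : X, (M' x).det = 1 := by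
    rintro ⟨x, hx⟩
    have hx' : x ∈ closure ((A : Set G) ∪ (B : Set G)) := by rw [← sup_eq_closure]; exact hx
    suffices h : ∀ (hx : x ∈ normalizer (W : Set G)), (M ⟨x, hx⟩).det = 1 from h _
    clear hx
    induction hx' using closure_induction with
    | mem x hx =>
      intro hxN
      refine hdet1 ⟨x, hxN⟩ ?_
      rcases hx with h | h
      · show x ^ p ∈ _
        rw [hA.elemAb_self.2 x h]; exact one_mem _
      · show x ^ p ∈ _
        rw [hB.elemAb_self.2 x h]; exact one_mem _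
    | one => intro h; rw [show (⟨1, h⟩ : ↥(normalizer (W : Set G))) = 1 from rfl, map_one, Matrix.det_one]
    | mul x y hx hy ihx ihy =>
      intro h
      have hxN : x ∈ normalizer (W : Set G) := hXN (by rw [hXdef, sup_eq_closure]; exact hx)
      have hyN : y ∈ normalizer (W : Set G) := hXN (by rw [hXdef, sup_eq_closure]; exact hy)
      rw [show (⟨x * y, h⟩ : ↥(normalizer (W : Set G))) = ⟨x, hxN⟩ * ⟨y, hyN⟩ from rfl, map_mul,
        Matrix.det_mul, ihx hxN, ihy hyN, mul_one]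
    | inv x hx ih =>
      intro h
      have hxN : x ∈ normalizer (W : Set G) := hXN (by rw [hXdef, sup_eq_closure]; exact hx)
      have := congrArg Matrix.det (map_mul M ⟨x⁻¹, h⟩ ⟨x, hxN⟩)
      rw [Matrix.det_mul, ih hxN, mul_one,
        show (⟨x⁻¹, h⟩ : ↥(normalizer (W : Set G))) * ⟨x, hxN⟩ = 1 from Subtype.ext (inv_mul_cancel x),
        map_one, Matrix.det_one] at this
      exact this.symm
  let φ : X →* SL(2, ZMod p) :=
    { toFun := fun x => ⟨M' x, hdet x⟩
      map_one' := Subtype.ext (map_one M')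
      map_mul' := fun x y => Subtype.ext (map_mul M' x y) }
  have hact : ∀ (x : X) (i j : ZMod p), (x : G) * (e (Multiplicative.ofAdd (i, j)) : G) * (x : G)⁻¹ =
      (e (Multiplicative.ofAdd ((φ x).1 0 0 * i + (φ x).1 0 1 * j,
        (φ x).1 1 0 * i + (φ x).1 1 1 * j)) : G) := fun x i j => hM (inclusion hXN x) i j
  have hrep : ∀ t ∈ W, ∃ i j : ZMod p, (e (Multiplicative.ofAdd (i, j)) : G) = t := fun t ht =>
    ⟨(Multiplicative.toAdd (e.symm ⟨t, ht⟩)).1, (Multiplicative.toAdd (e.symm ⟨t, ht⟩)).2, by simp⟩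
  have hφinj : Function.Injective φ := by
    rw [injective_iff_map_eq_one]
    intro x hx
    have : (x : G) ∈ X ⊓ centralizer (W : Set G) := ⟨x.2, mem_centralizer_iff.2 fun t ht => by
      obtain ⟨i, j, rfl⟩ := hrep t ht
      have := hact x i j
      rw [hx] at this
      simp at this
      exact (mul_inv_eq_iff_eq_mul.1 this).symm⟩
    rw [hfaith, mem_bot] at this
    exact Subtype.ext this
  have haX : a ∈ X := mem_sup_left ha
  have hbX : b ∈ X := mem_sup_right hb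
  have hφa : φ ⟨a, haX⟩ = up 1 := by
    refine Subtype.ext (hcol ⟨a, hXN haX⟩ (1, 0) (1, 1) ?_ ?_)
    · rw [heu]
      show a * u * a⁻¹ = u
      exact CfsgLib.Coprime.conj_eq_of_mem_centralizer (hca hu) ha
    · show a * w * a⁻¹ = _
      rw [show ((1, 1) : ZMod p × ZMod p) = (1, 0) + (0, 1) by simp, ofAdd_add, map_mul,
        Subgroup.coe_mul, heu, hew, CfsgLib.Quadratic.conj_eq_comm_mul, ← hudef]
  obtain ⟨μ, hμ, hφb⟩ : ∃ μ : ZMod p, μ ≠ 0 ∧ φ ⟨b, hbX⟩ = low μ := by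
    obtain ⟨i, j, hij⟩ := hrep (b * u * b⁻¹) (CfsgLib.Coprime.mem_normalizer_conj (hWB hb) (mem_sup_left hu))
    have hφb := hcol ⟨b, hXN hbX⟩ (i, j) (0, 1) hij.symm (by
      rw [hew]
      exact CfsgLib.Coprime.conj_eq_of_mem_centralizer (hcb hw) hb)
    have hd := hdet ⟨b, hbX⟩
    rw [show M' ⟨b, hbX⟩ = _ from hφb, Matrix.det_fin_two] at hd
    simp at hd
    subst hd
    refine ⟨j, fun hj => hub ?_, Subtype.ext hφb⟩
    rw [hj, heu, CfsgLib.Quadratic.conj_eq_comm_mul, eq_comm, mul_eq_right, inv_eq_one] at hij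
    exact hij
  have hsurj : φ.range = ⊤ := by
    have hup : ∀ c : ZMod p, up c ∈ φ.range := fun c => by
      have := φ.range.pow_mem ⟨_, hφa⟩ c.val
      rwa [up_pow, ZMod.natCast_zmod_val, mul_one] at this
    have hlow : ∀ c : ZMod p, low c ∈ φ.range := fun c => by
      have := φ.range.pow_mem ⟨_, hφb⟩ (c * μ⁻¹).val
      rwa [low_pow, ZMod.natCast_zmod_val, inv_mul_cancel_right₀ hμ] at this
    refine Cfsg.Agent.Classical.sl_subgroup_eq_top_of_transvection_mem _ fun i j hij c => ?_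
    fin_cases i <;> fin_cases j
    · exact absurd rfl hij
    · convert hup c using 1
      apply Subtype.ext
      rw [Matrix.SpecialLinearGroup.transvection_coe]
      ext i' j'; fin_cases i' <;> fin_cases j' <;> simp [Matrix.single_apply]
    · convert hlow c using 1
      apply Subtype.ext
      rw [Matrix.SpecialLinearGroup.transvection_coe]
      ext i' j'; fin_cases i' <;> fin_cases j' <;> simp [Matrix.single_apply]
    · exact absurd rfl hij
  have hbij : Function.Bijective φ := ⟨hφinj, MonoidHom.range_eq_top.1 hsurj⟩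
  refine ⟨?_, φ, hφinj, ⟨a, haX⟩, hza, hφa⟩
  have hfrom : ∀ t ∈ W, t ≠ 1 → ∃ g ∈ X, g * u * g⁻¹ = t := by
    intro t ht ht1
    obtain ⟨i, j, rfl⟩ := hrep t ht
    have hne : ¬ (i = 0 ∧ j = 0) := by
      rintro ⟨rfl, rfl⟩
      exact ht1 (by rw [show ((0, 0) : ZMod p × ZMod p) = 0 from rfl, ofAdd_zero, map_one]; rfl)
    obtain ⟨m, hm0, hm1⟩ : ∃ m : SL(2, ZMod p), m.1 0 0 = i ∧ m.1 1 0 = j := by
      by_cases hi : i = 0
      · subst hi
        exact ⟨⟨!![0, -j⁻¹; j, 0], by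
          simp [Matrix.det_fin_two, show j ≠ 0 from fun h => hne ⟨rfl, h⟩]⟩,
          by simp, by simp⟩
      · exact ⟨⟨!![i, 0; j, i⁻¹], by simp [Matrix.det_fin_two, hi]⟩, by simp, by simp⟩
    obtain ⟨g, hg⟩ := hbij.2 m
    refine ⟨g, g.2, ?_⟩
    rw [← heu, hact, hg, hm0, hm1]
    simp
  refine ⟨?_, ?_, ?_, ?_, ⟨MulEquiv.ofBijective φ hbij⟩, ?_, ?_⟩ <;> rw [hWX]
  · exact hWc
  · exact hWU
  · exact hWUV
  · exact hfaith
  · intro s hs t ht hs1 ht1
    obtain ⟨g, hg, rfl⟩ := hfrom s hs hs1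
    obtain ⟨g', hg', rfl⟩ := hfrom t ht ht1
    exact ⟨g' * g⁻¹, mul_mem hg' (inv_mem hg), by group⟩
  · intro g hg hgp
    obtain ⟨x, hx⟩ := hbij.2 ⟨M ⟨g, hg⟩, hdet1 ⟨g, hg⟩ hgp⟩
    refine ⟨x, x.2, fun t ht => ?_⟩
    obtain ⟨i, j, rfl⟩ := hrep t ht
    rw [hact, hx]
    exact hM ⟨g, hg⟩ i j

end CfsgLib.FFPair
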