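import Cfsg.Agent.Lib.PLocal5.Quadratic
import Cfsg.Agent.Lib.PLocal5.Offender
import Cfsg.Agent.Lib.Coprime.Commutator
import Cfsg.Agent.Lib.PLocal.Thompson

/-! Two subnormal subgroups acting irreducibly on their commutator modules commute. -/

set_option autoImplicit false
set_option linter.unusedSectionVars false

open scoped commutatorElement
open Subgroup

namespace CfsgLib.SubnormalPair

variable {G : Type*} [Group G] [Finite G] {p : ℕ} {V E₁ E₂ : Subgroup G}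

/-- The hypotheses on a pair that survive conjugation and passing to subgroups. -/
structure Pair (p : ℕ) (V E₁ E₂ : Subgroup G) : Prop where
  elemAb : Cfsg.IsElementaryAbelian p V
  le_normalizer : E₁ ⊔ E₂ ≤ normalizer (V : Set G)
  faithful : (E₁ ⊔ E₂) ⊓ centralizer (V : Set G) = ⊥
  subnormal₁ : (E₁.subgroupOf (E₁ ⊔ E₂)).IsSubnormal
  subnormal₂ : (E₂.subgroupOf (E₁ ⊔ E₂)).IsSubnormal
  noP₁ : ∀ N : Subgroup G, N ≤ E₁ → E₁ ≤ normalizer (N : Set G) → IsPGroup p N → N = ⊥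
  noP₂ : ∀ N : Subgroup G, N ≤ E₂ → E₂ ≤ normalizer (N : Set G) → IsPGroup p N → N = ⊥
  irr₁ : ∀ U : Subgroup G, U ≤ ⁅V, E₁⁆ → E₁ ≤ normalizer (U : Set G) → U = ⊥ ∨ U = ⁅V, E₁⁆
  irr₂ : ∀ U : Subgroup G, U ≤ ⁅V, E₂⁆ → E₂ ≤ normalizer (U : Set G) → U = ⊥ ∨ U = ⁅V, E₂⁆
  not_le₁ : ¬ ⁅V, E₁⁆ ≤ ⁅V, E₂⁆
  not_le₂ : ¬ ⁅V, E₂⁆ ≤ ⁅V, E₁⁆
  card₁ : 2 < Nat.card E₁
  card₂ : 2 < Nat.card E₂

theorem le_normalizer_inf {K X Y : Subgroup G} (hX : K ≤ normalizer (X : Set G))
    (hY : K ≤ normalizer (Y : Set G)) : K ≤ normalizer ((X ⊓ Y : Subgroup G) : Set G) :=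
  le_normalizer_iff.2 fun _ hk _ hz =>
    ⟨CfsgLib.Coprime.mem_normalizer_conj (hX hk) hz.1,
      CfsgLib.Coprime.mem_normalizer_conj (hY hk) hz.2⟩

theorem le_normalizer_self_plane {E : Subgroup G} (hE : E ≤ normalizer (V : Set G)) :
    E ≤ normalizer ((⁅V, E⁆ : Subgroup G) : Set G) :=
  CfsgLib.Coprime.le_normalizer_commutator_right V E

namespace Pair

theorem symm (P : Pair p V E₁ E₂) : Pair p V E₂ E₁ := by
  have e : E₂ ⊔ E₁ = E₁ ⊔ E₂ := sup_comm _ _
  exact ⟨P.elemAb, e ▸ P.le_normalizer, e ▸ P.faithful, e ▸ P.subnormal₂, e ▸ P.subnormal₁,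
    P.noP₂, P.noP₁, P.irr₂, P.irr₁, P.not_le₂, P.not_le₁, P.card₂, P.card₁⟩

theorem le₁ (P : Pair p V E₁ E₂) : E₁ ≤ normalizer (V : Set G) := le_sup_left.trans P.le_normalizer

theorem le₂ (P : Pair p V E₁ E₂) : E₂ ≤ normalizer (V : Set G) := le_sup_right.trans P.le_normalizer

theorem plane_le (P : Pair p V E₁ E₂) : ⁅V, E₁⁆ ≤ V := CfsgLib.Quadratic.commutator_le_self P.le₁

/-- A normal subgroup of `E₁` fixing `[V, E₁]` is trivial. -/
theorem eq_bot_of_fixes (P : Pair p V E₁ E₂) {F : Subgroup G} (hF : F ≤ E₁)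
    (hn : E₁ ≤ normalizer (F : Set G)) (hfix : ⁅⁅V, E₁⁆, F⁆ = ⊥) : F = ⊥ :=
  P.noP₁ F hF hn (CfsgLib.Quadratic.isPGroup_of_stabilizes P.elemAb (hF.trans P.le₁)
    (commutator_mono le_rfl hF) hfix
    (eq_bot_iff.2 ((inf_le_inf_right _ (hF.trans le_sup_left)).trans P.faithful.le)))

theorem not_fixes (P : Pair p V E₁ E₂) : ⁅⁅V, E₁⁆, E₁⁆ ≠ ⊥ := by
  intro h
  have := P.eq_bot_of_fixes le_rfl Subgroup.le_normalizer h
  have hc := P.card₁
  rw [this, card_bot] at hc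
  omega

theorem plane_inf (P : Pair p V E₁ E₂) (h : E₁ ≤ normalizer ((⁅V, E₂⁆ : Subgroup G) : Set G)) :
    ⁅V, E₁⁆ ⊓ ⁅V, E₂⁆ = ⊥ :=
  (P.irr₁ _ inf_le_left (le_normalizer_inf (le_normalizer_self_plane P.le₁) h)).resolve_right
    fun h => P.not_le₁ (inf_eq_left.1 h)

theorem plane_fixed (P : Pair p V E₁ E₂) (h : E₁ ≤ normalizer ((⁅V, E₂⁆ : Subgroup G) : Set G)) :
    ⁅⁅V, E₂⁆, E₁⁆ = ⊥ := by
  rw [eq_bot_iff, ← P.plane_inf h, inf_comm]
  exact le_inf (CfsgLib.Quadratic.commutator_le_self h)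
    (commutator_mono P.symm.plane_le le_rfl)

theorem conclusion (P : Pair p V E₁ E₂) (h₁ : E₁ ≤ normalizer ((⁅V, E₂⁆ : Subgroup G) : Set G))
    (h₂ : E₂ ≤ normalizer ((⁅V, E₁⁆ : Subgroup G) : Set G)) :
    ⁅E₁, E₂⁆ = ⊥ ∧ E₁ ⊓ E₂ = ⊥ ∧ ⁅V, E₁⁆ ⊓ ⁅V, E₂⁆ = ⊥ ∧
      ⁅V, E₁ ⊔ E₂⁆ = ⁅V, E₁⁆ ⊔ ⁅V, E₂⁆ := by
  have f₁ := P.plane_fixed h₁
  have f₂ := P.symm.plane_fixed h₂
  refine ⟨?_, ?_, P.plane_inf h₁, ?_⟩
  · refine eq_bot_iff.2 (commutator_le.2 fun a ha b hb => P.faithful.le ⟨?_, ?_⟩)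
    · have ha' : a ∈ E₁ ⊔ E₂ := mem_sup_left ha
      have hb' : b ∈ E₁ ⊔ E₂ := mem_sup_right hb
      rw [commutatorElement_def]
      exact Subgroup.mul_mem _ (Subgroup.mul_mem _ (Subgroup.mul_mem _ ha' hb')
        (Subgroup.inv_mem _ ha')) (Subgroup.inv_mem _ hb')
    · refine CfsgLib.Quadratic.commutator_mem_centralizer P.elemAb (P.le₁ ha) (P.le₂ hb)
        (fun v hv => ?_) (fun v hv => ?_)
      · exact (mem_centralizer_iff.1 (CfsgLib.Quadratic.mem_centralizer_of_commutator_eq_bot f₁ ha)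
          _ (commutator_mem_commutator hv hb)).symm
      · exact (mem_centralizer_iff.1 (CfsgLib.Quadratic.mem_centralizer_of_commutator_eq_bot f₂ hb)
          _ (commutator_mem_commutator hv ha)).symm
  · refine eq_bot_iff.2 ((le_inf (inf_le_left.trans le_sup_left) ?_).trans P.faithful.le)
    rw [Subgroup.le_centralizer_iff, ← Subgroup.commutator_eq_bot_iff_le_centralizer, eq_bot_iff,
      ← P.plane_inf h₁]
    exact le_inf (commutator_mono le_rfl inf_le_left) (commutator_mono le_rfl inf_le_right)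
  · refine le_antisymm ?_ (sup_le (commutator_mono le_rfl le_sup_left)
      (commutator_mono le_rfl le_sup_right))
    have hle : ⁅⁅V, E₁⁆ ⊔ ⁅V, E₂⁆, E₁⁆ ≤ ⁅V, E₁⁆ :=
      commutator_mono (sup_le P.plane_le P.symm.plane_le) le_rfl
    have hle₂ : ⁅⁅V, E₁⁆ ⊔ ⁅V, E₂⁆, E₂⁆ ≤ ⁅V, E₂⁆ :=
      commutator_mono (sup_le P.plane_le P.symm.plane_le) le_rfl
    refine commutator_le.2 fun v hv x hx => ?_
    suffices h : ∀ x ∈ E₁ ⊔ E₂, x ∈ normalizer ((⁅V, E₁⁆ ⊔ ⁅V, E₂⁆ : Subgroup G) : Set G) ∧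
        ∀ v ∈ V, ⁅v, x⁆ ∈ ⁅V, E₁⁆ ⊔ ⁅V, E₂⁆ from (h x hx).2 v hv
    intro x hx
    rw [sup_eq_closure] at hx
    set T := ⁅V, E₁⁆ ⊔ ⁅V, E₂⁆ with hT
    induction hx using closure_induction with
    | mem x hx =>
      rcases hx with hx | hx
      · exact ⟨CfsgLib.Quadratic.le_normalizer_of_commutator_le (hle.trans le_sup_left) hx,
          fun v hv => mem_sup_left (commutator_mem_commutator hv hx)⟩
      · exact ⟨CfsgLib.Quadratic.le_normalizer_of_commutator_le (hle₂.trans le_sup_right) hx,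
          fun v hv => mem_sup_right (commutator_mem_commutator hv hx)⟩
    | one => exact ⟨one_mem _, fun v _ => by simp⟩
    | mul x y _ _ ihx ihy =>
      refine ⟨Subgroup.mul_mem _ ihx.1 ihy.1, fun v hv => ?_⟩
      have e : ⁅v, x * y⁆ = ⁅v, x⁆ * (x * ⁅v, y⁆ * x⁻¹) := by simp [commutatorElement_def, mul_assoc]
      rw [e]
      exact T.mul_mem (ihx.2 v hv) (CfsgLib.Coprime.mem_normalizer_conj ihx.1 (ihy.2 v hv))
    | inv x _ ih =>
      refine ⟨Subgroup.inv_mem _ ih.1, fun v hv => ?_⟩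
      have e : ⁅v, x⁻¹⁆ = x⁻¹ * ⁅v, x⁆⁻¹ * x := by simp [commutatorElement_def, mul_assoc]
      rw [e]
      exact CfsgLib.Coprime.mem_normalizer_conj' ih.1 (T.inv_mem (ih.2 v hv))

end Pair

theorem map_conj_commutator {e : G} (he : e ∈ normalizer (V : Set G)) (E : Subgroup G) :
    ⁅V, E.map (MulAut.conj e).toMonoidHom⁆ = (⁅V, E⁆).map (MulAut.conj e).toMonoidHom := by
  have hV : V.map (MulAut.conj e).toMonoidHom = V :=
    eq_of_le_of_card_ge (by
      rintro _ ⟨v, hv, rfl⟩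
      exact CfsgLib.Coprime.mem_normalizer_conj he hv)
      (by rw [card_map_of_injective (MulAut.conj e).injective])
  rw [map_commutator, hV]

/-- A conjugate pair `(E₁, E₁ᵉ)` inside a proper normal subgroup. -/
theorem Pair.conj_pair (P : Pair p V E₁ E₂) {e : G} (he : e ∈ E₂)
    (hmove : e ∉ normalizer ((⁅V, E₁⁆ : Subgroup G) : Set G)) :
    Pair p V E₁ (E₁.map (MulAut.conj e).toMonoidHom) ∧
      Nat.card ↥(E₁ ⊔ E₁.map (MulAut.conj e).toMonoidHom) < Nat.card ↥(E₁ ⊔ E₂) := by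
  set E := E₁ ⊔ E₂ with hE
  set E₁' := E₁.map (MulAut.conj e).toMonoidHom with hE'
  have heE : e ∈ E := mem_sup_right he
  have hle : E₁ ⊔ E₁' ≤ E := by
    refine sup_le le_sup_left ?_
    rintro _ ⟨x, hx, rfl⟩
    exact E.mul_mem (E.mul_mem heE (mem_sup_left hx)) (E.inv_mem heE)
  have hconj : E₁'.subgroupOf E =
      (E₁.subgroupOf E).map (MulAut.conj (⟨e, heE⟩ : E)).toMonoidHom := by
    ext x
    simp only [mem_subgroupOf, hE', mem_map]
    constructor
    · rintro ⟨y, hy, hyx⟩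
      exact ⟨⟨y, mem_sup_left hy⟩, hy, Subtype.ext hyx⟩
    · rintro ⟨y, hy, rfl⟩
      exact ⟨y, hy, rfl⟩
  have hsn' : (E₁'.subgroupOf E).IsSubnormal := by
    rw [hconj]
    exact P.subnormal₁.map (MulAut.conj (⟨e, heE⟩ : E)).surjective
  have hW : ⁅V, E₁'⁆ = (⁅V, E₁⁆).map (MulAut.conj e).toMonoidHom :=
    map_conj_commutator (P.le₂ he) E₁
  have hcard : Nat.card ↥(⁅V, E₁'⁆) = Nat.card ↥(⁅V, E₁⁆) := by
    rw [hW, card_map_of_injective (MulAut.conj e).injective]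
  have hne : ⁅V, E₁'⁆ ≠ ⁅V, E₁⁆ := by
    intro h
    refine hmove (CfsgLib.Coprime.mem_normalizer_of_forall_conj fun x hx => ?_)
    rw [← h, hW]
    exact ⟨x, hx, rfl⟩
  have hinv : ∀ K : Subgroup G, ((K.map (MulAut.conj e⁻¹).toMonoidHom).map
      (MulAut.conj e).toMonoidHom) = K := fun K => by
    rw [map_map]
    convert K.map_id using 2
    ext x
    simp [mul_assoc]
  have hinv' : ∀ K : Subgroup G, ((K.map (MulAut.conj e).toMonoidHom).map
      (MulAut.conj e⁻¹).toMonoidHom) = K := fun K => by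
    rw [map_map]
    convert K.map_id using 2
    ext x
    simp [mul_assoc]
  have hback : ∀ K L : Subgroup G, K ≤ L.map (MulAut.conj e).toMonoidHom →
      K.map (MulAut.conj e⁻¹).toMonoidHom ≤ L := fun K L h => (map_mono h).trans (hinv' L).le
  have hnback : ∀ K : Subgroup G, E₁' ≤ normalizer (K : Set G) →
      E₁ ≤ normalizer ((K.map (MulAut.conj e⁻¹).toMonoidHom : Subgroup G) : Set G) := fun K h => by
    rw [← hinv' E₁]
    exact (map_mono h).trans (le_normalizer_map _)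
  refine ⟨⟨P.elemAb, hle.trans P.le_normalizer,
    eq_bot_iff.2 ((inf_le_inf_right _ hle).trans P.faithful.le), ?_, ?_, P.noP₁, ?_, P.irr₁, ?_,
    fun h => hne (eq_of_le_of_card_ge h hcard.le).symm,
    fun h => hne (eq_of_le_of_card_ge h hcard.ge), P.card₁, ?_⟩, ?_⟩
  · have h := P.subnormal₁.comap (inclusion hle)
    exact h
  · have h := hsn'.comap (inclusion hle)
    exact h
  · intro N hN hn hp
    have h := P.noP₁ _ (hback N E₁ hN) (hnback N hn) (hp.map _)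
    rwa [map_eq_bot_iff_of_injective _ (MulAut.conj e⁻¹).injective] at h
  · intro U hU hn
    rcases P.irr₁ _ (hback U _ (hU.trans hW.le)) (hnback U hn) with h | h
    · left; rwa [map_eq_bot_iff_of_injective _ (MulAut.conj e⁻¹).injective] at h
    · right; rw [hW, ← h, hinv]
  · rw [card_map_of_injective (MulAut.conj e).injective]; exact P.card₁
  · have htop : E₁.subgroupOf E ≠ ⊤ := by
      rw [Ne, subgroupOf_eq_top]
      intro h
      exact hmove (le_normalizer_self_plane P.le₁ (h heE))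
    obtain ⟨K, hK, hK1, hKt⟩ := IsSubnormal.exists_normal_and_le_and_lt_top_of_ne P.subnormal₁ htop
    have hsub : E₁ ⊔ E₁' ≤ K.map E.subtype := by
      refine sup_le (fun x hx => ⟨⟨x, mem_sup_left hx⟩, hK1 hx, rfl⟩) ?_
      rintro _ ⟨x, hx, rfl⟩
      exact ⟨⟨e, heE⟩ * ⟨x, mem_sup_left hx⟩ * ⟨e, heE⟩⁻¹,
        hK.conj_mem _ (hK1 hx) _, rfl⟩
    refine lt_of_le_of_lt (Subgroup.card_le_of_le hsub) ?_
    rw [card_map_of_injective E.subtype_injective]
    exact lt_of_le_of_ne (card_le_card_group K) fun h => hKt.ne (eq_top_of_card_eq K h)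

theorem Pair.mover_not_normalizes (P : Pair p V E₁ E₂) {e : G} (he : e ∈ E₂)
    (hfix : ⁅(⁅V, E₁⁆).map (MulAut.conj e).toMonoidHom, E₁⁆ = ⊥) :
    ¬ E₁ ≤ normalizer ((⁅V, E₂⁆ : Subgroup G) : Set G) := by
  intro h
  refine P.not_fixes ?_
  rw [eq_bot_iff, ← P.plane_inf h]
  refine le_inf (CfsgLib.Quadratic.commutator_le_self (le_normalizer_self_plane P.le₁)) ?_
  refine commutator_le.2 fun w hw x hx => ?_
  have hwV := P.plane_le hw
  have hxV := P.le₁ hx
  have hc : ⁅w, e⁆ ∈ ⁅V, E₂⁆ := commutator_mem_commutator hwV he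
  have h1 : ⁅e * w * e⁻¹, x⁆ = 1 := by
    have := commutator_mem_commutator (H₁ := (⁅V, E₁⁆).map (MulAut.conj e).toMonoidHom)
      (show e * w * e⁻¹ ∈ _ from ⟨w, hw, rfl⟩) hx
    rwa [hfix, mem_bot] at this
  rw [CfsgLib.Quadratic.conj_eq_comm_mul, CfsgLib.Quadratic.commutator_mul_left P.elemAb
    (Subgroup.inv_mem _ (P.symm.plane_le hc)) hwV hxV, mul_eq_one_iff_inv_eq] at h1
  rw [← h1]
  exact Subgroup.inv_mem _ (CfsgLib.Quadratic.commutator_mem (Subgroup.inv_mem _ hc) (h hx))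

theorem map_le_sup (P : Pair p V E₁ E₂) {e : G} (he : e ∈ E₂) :
    (⁅V, E₁⁆).map (MulAut.conj e).toMonoidHom ≤ ⁅V, E₁⁆ ⊔ ⁅V, E₂⁆ := by
  rintro _ ⟨w, hw, rfl⟩
  show e * w * e⁻¹ ∈ _
  rw [CfsgLib.Quadratic.conj_eq_comm_mul]
  exact Subgroup.mul_mem _
    (mem_sup_right (Subgroup.inv_mem _ (commutator_mem_commutator (P.plane_le hw) he)))
    (mem_sup_left hw)

theorem card_sup_planes (P : Pair p V E₁ E₂) :
    Nat.card ↥(⁅V, E₁⁆ ⊔ ⁅V, E₂⁆) * Nat.card ↥(⁅V, E₁⁆ ⊓ ⁅V, E₂⁆) =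
      Nat.card ↥(⁅V, E₁⁆) * Nat.card ↥(⁅V, E₂⁆) := by
  rw [inf_comm]
  exact CfsgLib.Offender.card_sup_mul_card_inf_of_le P.elemAb P.plane_le P.symm.plane_le

/-- Both factors normalise the other module. -/
theorem normalizes : ∀ n : ℕ, ∀ E₁ E₂ : Subgroup G, Nat.card ↥(E₁ ⊔ E₂) ≤ n → Pair p V E₁ E₂ →
    E₁ ≤ normalizer ((⁅V, E₂⁆ : Subgroup G) : Set G) ∧
      E₂ ≤ normalizer ((⁅V, E₁⁆ : Subgroup G) : Set G) := by
  intro n
  induction n with
  | zero => intro E₁ E₂ h _; exact absurd h (by simp [Nat.card_pos.ne'])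
  | succ n ih =>
    -- what a moving element gives
    have hmove : ∀ E₁ E₂ : Subgroup G, Nat.card ↥(E₁ ⊔ E₂) ≤ n + 1 → Pair p V E₁ E₂ →
        ∀ e ∈ E₂, e ∉ normalizer ((⁅V, E₁⁆ : Subgroup G) : Set G) →
          ⁅(⁅V, E₁⁆).map (MulAut.conj e).toMonoidHom, E₁⁆ = ⊥ ∧
            ⁅V, E₁⁆ ⊓ (⁅V, E₁⁆).map (MulAut.conj e).toMonoidHom = ⊥ := by
      intro E₁ E₂ hc P e he hm
      obtain ⟨P', hlt⟩ := P.conj_pair he hm
      obtain ⟨h1, -⟩ := ih _ _ (by omega) P'
      have f := P'.plane_fixed h1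
      have g := P'.plane_inf h1
      rw [map_conj_commutator (P.le₂ he)] at f g
      exact ⟨f, g⟩
    suffices hkey : ∀ E₁ E₂ : Subgroup G, Nat.card ↥(E₁ ⊔ E₂) ≤ n + 1 → Pair p V E₁ E₂ →
        E₂ ≤ normalizer ((⁅V, E₁⁆ : Subgroup G) : Set G) by
      intro E₁ E₂ hc P
      exact ⟨hkey E₂ E₁ (by rwa [sup_comm]) P.symm, hkey E₁ E₂ hc P⟩
    intro E₁ E₂ hc P e he
    by_contra hm
    set W₁ := ⁅V, E₁⁆ with hW₁
    set W₂ := ⁅V, E₂⁆ with hW₂
    obtain ⟨hfix, hdis⟩ := hmove E₁ E₂ hc P e he hm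
    obtain ⟨f, hf, hfm⟩ := SetLike.not_le_iff_exists.1 (P.mover_not_normalizes he hfix)
    obtain ⟨hfix', hdis'⟩ := hmove E₂ E₁ (by rwa [sup_comm]) P.symm f hf hfm
    -- the cardinalities
    have hbound : ∀ {E₁ E₂ : Subgroup G}, Pair p V E₁ E₂ → ∀ e ∈ E₂,
        ⁅V, E₁⁆ ⊓ (⁅V, E₁⁆).map (MulAut.conj e).toMonoidHom = ⊥ →
        Nat.card ↥(⁅V, E₁⁆ ⊔ (⁅V, E₁⁆).map (MulAut.conj e).toMonoidHom) =
          Nat.card ↥(⁅V, E₁⁆) * Nat.card ↥(⁅V, E₁⁆) ∧
        Nat.card ↥(⁅V, E₁⁆) * Nat.card ↥(⁅V, E₁⁆ ⊓ ⁅V, E₂⁆) ≤ Nat.card ↥(⁅V, E₂⁆) := by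
      intro E₁ E₂ P e he hd
      have hmV : (⁅V, E₁⁆).map (MulAut.conj e).toMonoidHom ≤ V :=
        (map_le_sup P he).trans (sup_le P.plane_le P.symm.plane_le)
      have h1 := CfsgLib.Offender.card_sup_mul_card_inf_of_le P.elemAb P.plane_le hmV
      rw [inf_comm, hd, card_bot, mul_one, card_map_of_injective (MulAut.conj e).injective] at h1
      refine ⟨h1, Nat.le_of_mul_le_mul_left ?_ (Nat.card_pos (α := ↥(⁅V, E₁⁆)))⟩
      rw [← mul_assoc, ← h1, ← card_sup_planes P]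
      exact Nat.mul_le_mul_right _ (Subgroup.card_le_of_le (sup_le le_sup_left (map_le_sup P he)))
    obtain ⟨hsq, hb1⟩ := hbound P e he hdis
    obtain ⟨-, hb2⟩ := hbound P.symm f hf hdis'
    rw [inf_comm W₂ W₁] at hb2
    set c := Nat.card ↥(W₁ ⊓ W₂) with hcdef
    have hcpos : 0 < c := Nat.card_pos
    have hc1 : c = 1 := by
      have h1 : Nat.card W₁ * c * c ≤ Nat.card W₁ := (Nat.mul_le_mul_right c hb1).trans hb2
      have h2 : c * c ≤ 1 := Nat.le_of_mul_le_mul_left (by rw [mul_one, ← mul_assoc]; exact h1)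
        Nat.card_pos
      nlinarith
    have hW12 : W₁ ⊓ W₂ = ⊥ := card_eq_one.1 hc1
    have hcard : Nat.card W₁ = Nat.card W₂ := by
      rw [hc1, mul_one] at hb1 hb2
      exact le_antisymm hb1 hb2
    set W := W₁ ⊔ W₂ with hW
    have hWc : Nat.card W = Nat.card W₁ * Nat.card W₁ := by
      have := card_sup_planes P
      rwa [← hW₁, ← hW₂, hW12, card_bot, mul_one, ← hcard] at this
    set C := W ⊓ centralizer (E₁ : Set G) with hC
    have hCW₁ : C ⊓ W₁ = ⊥ := by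
      refine ((P.irr₁ (W₁ ⊓ centralizer (E₁ : Set G)) inf_le_left
        (le_normalizer_inf (le_normalizer_self_plane P.le₁) ?_)).resolve_right fun h => ?_) ▸ ?_
      · exact le_normalizer_iff.2 fun x hx z hz =>
          CfsgLib.Quadratic.conj_mem_centralizer (Subgroup.le_normalizer hx) hz
      · exact P.not_fixes (Subgroup.commutator_eq_bot_iff_le_centralizer.2 (inf_eq_left.1 h))
      · exact le_antisymm (le_inf inf_le_right (inf_le_left.trans inf_le_right))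
          (le_inf (le_inf (inf_le_left.trans le_sup_left) inf_le_right) inf_le_left)
    have hWV : W ≤ V := sup_le P.plane_le P.symm.plane_le
    have hCc : Nat.card C ≤ Nat.card W₁ := by
      have h := CfsgLib.Offender.card_sup_mul_card_inf_of_le P.elemAb
        ((inf_le_left : C ≤ W).trans hWV) P.plane_le
      rw [inf_comm W₁ C, hCW₁, card_bot, mul_one] at h
      have h' := (Subgroup.card_le_of_le (sup_le inf_le_left le_sup_left : C ⊔ W₁ ≤ W))
      rw [h, hWc] at h'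
      exact Nat.le_of_mul_le_mul_right h' Nat.card_pos
    have hCeq : ∀ g ∈ E₂, g ∉ normalizer (W₁ : Set G) →
        W₁.map (MulAut.conj g).toMonoidHom = C := by
      intro g hg hgm
      refine eq_of_le_of_card_ge (le_inf (map_le_sup P hg) ?_) ?_
      · exact Subgroup.commutator_eq_bot_iff_le_centralizer.1 (hmove E₁ E₂ hc P g hg hgm).1
      · rw [card_map_of_injective (MulAut.conj g).injective]; exact hCc
    -- `e` interchanges `W₁` and `C`
    have hswap : ∀ z ∈ C, e * z * e⁻¹ ∈ W₁ := by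
      intro z hz
      rw [← hCeq e he hm] at hz
      obtain ⟨w, hw, rfl⟩ := hz
      have he2 : e * e ∈ normalizer (W₁ : Set G) := by
        by_contra h2
        refine hm (CfsgLib.Coprime.mem_normalizer_of_forall_conj fun x hx => ?_)
        have h3 : (e * e) * x * (e * e)⁻¹ ∈ C := by
          rw [← hCeq _ (E₂.mul_mem he he) h2]; exact ⟨x, hx, rfl⟩
        rw [← hCeq e he hm] at h3
        obtain ⟨y, hy, hye⟩ := h3
        have hye' : e * y * e⁻¹ = e * e * x * (e * e)⁻¹ := hye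
        have e2 : e * x * e⁻¹ = y := by
          calc e * x * e⁻¹ = e⁻¹ * (e * e * x * (e * e)⁻¹) * e := by group
            _ = y := by rw [← hye']; group
        rw [e2]; exact hy
      show e * (e * w * e⁻¹) * e⁻¹ ∈ W₁
      have e3 : e * (e * w * e⁻¹) * e⁻¹ = (e * e) * w * (e * e)⁻¹ := by group
      rw [e3]
      exact CfsgLib.Coprime.mem_normalizer_conj he2 hw
    have hCW₂ : W₂ ⊓ C = ⊥ := by
      rw [eq_bot_iff]
      rintro z ⟨hz2, hzC⟩
      have h : e * z * e⁻¹ ∈ W₁ ⊓ W₂ :=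
        ⟨hswap z hzC, CfsgLib.Coprime.mem_normalizer_conj (le_normalizer_self_plane P.le₂ he) hz2⟩
      rw [hW12, mem_bot, mul_inv_eq_one, mul_eq_left] at h
      exact h
    have hWsup : W₂ ⊔ C = W := by
      refine eq_of_le_of_card_ge (sup_le le_sup_right inf_le_left) ?_
      have h := CfsgLib.Offender.card_sup_mul_card_inf_of_le P.elemAb P.symm.plane_le
        ((inf_le_left : C ≤ W).trans hWV)
      rw [inf_comm C W₂, hCW₂, card_bot, mul_one] at h
      have hCc' : Nat.card W₁ = Nat.card C := by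
        rw [← hCeq e he hm, card_map_of_injective (MulAut.conj e).injective]
      rw [h, ← hCc', ← hcard, hWc]
    -- the stabiliser of `W₂` in `E₁`
    have hswap2 : ∀ x ∈ E₁, ∀ y ∈ E₁, x ∉ normalizer (W₂ : Set G) →
        y ∉ normalizer (W₂ : Set G) → x⁻¹ * y ∈ normalizer (W₂ : Set G) := by
      intro x hx y hy hxm hym
      have hle : ∀ g ∈ E₁, g ∉ normalizer (W₂ : Set G) →
          W₂.map (MulAut.conj g).toMonoidHom ≤ W ⊓ centralizer (E₂ : Set G) := fun g hg hgm =>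
        le_inf ((map_le_sup P.symm hg).trans (sup_comm _ _).le)
          (Subgroup.commutator_eq_bot_iff_le_centralizer.1
            (hmove E₂ E₁ (by rwa [sup_comm]) P.symm g hg hgm).1)
      have hD : Nat.card ↥(W ⊓ centralizer (E₂ : Set G)) ≤ Nat.card W₂ := by
        set D := W ⊓ centralizer (E₂ : Set G) with hD
        have hDW₂ : W₂ ⊓ D = ⊥ := by
          refine eq_bot_iff.2 ((le_inf inf_le_left (inf_le_right.trans inf_le_right)).trans
            ((P.irr₂ (W₂ ⊓ centralizer (E₂ : Set G)) inf_le_left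
              (le_normalizer_inf (le_normalizer_self_plane P.le₂)
                (le_normalizer_iff.2 fun x hx z hz =>
                  CfsgLib.Quadratic.conj_mem_centralizer (Subgroup.le_normalizer hx) hz))).resolve_right
              fun h => P.symm.not_fixes
                (Subgroup.commutator_eq_bot_iff_le_centralizer.2 (inf_eq_left.1 h))).le)
        have h := CfsgLib.Offender.card_sup_mul_card_inf_of_le P.elemAb
          ((inf_le_left : D ≤ W).trans hWV) P.symm.plane_le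
        rw [hDW₂, card_bot, mul_one] at h
        have h' := (Subgroup.card_le_of_le (sup_le inf_le_left le_sup_right : D ⊔ W₂ ≤ W))
        rw [h, hWc, hcard] at h'
        exact Nat.le_of_mul_le_mul_right h' Nat.card_pos
      have heq : W₂.map (MulAut.conj x).toMonoidHom = W₂.map (MulAut.conj y).toMonoidHom := by
        rw [eq_of_le_of_card_ge (hle x hx hxm) (by rw [card_map_of_injective (MulAut.conj x).injective]; exact hD),
          eq_of_le_of_card_ge (hle y hy hym) (by rw [card_map_of_injective (MulAut.conj y).injective]; exact hD)]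
      refine CfsgLib.Coprime.mem_normalizer_of_forall_conj fun z hz => ?_
      obtain ⟨z', hz', hze⟩ := heq.ge ⟨z, hz, rfl⟩
      have hze' : x * z' * x⁻¹ = y * z * y⁻¹ := hze
      have e4 : x⁻¹ * y * z * (x⁻¹ * y)⁻¹ = z' := by
        calc x⁻¹ * y * z * (x⁻¹ * y)⁻¹ = x⁻¹ * (y * z * y⁻¹) * x := by group
          _ = z' := by rw [← hze']; group
      rw [e4]; exact hz'
    set F := E₁ ⊓ normalizer (W₂ : Set G) with hF
    have hFn : E₁ ≤ normalizer (F : Set G) := by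
      refine le_normalizer_iff.2 fun g hg x hx => ⟨E₁.mul_mem (E₁.mul_mem hg hx.1) (E₁.inv_mem hg), ?_⟩
      by_cases hgF : g ∈ normalizer (W₂ : Set G)
      · exact Subgroup.mul_mem _ (Subgroup.mul_mem _ hgF hx.2) (Subgroup.inv_mem _ hgF)
      by_contra hnot
      have h := hswap2 g hg (g * x * g⁻¹) (E₁.mul_mem (E₁.mul_mem hg hx.1) (E₁.inv_mem hg)) hgF hnot
      rw [show g⁻¹ * (g * x * g⁻¹) = x * g⁻¹ by group] at h
      have h2 := Subgroup.mul_mem _ (Subgroup.inv_mem _ hx.2) h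
      rw [inv_mul_cancel_left] at h2
      exact hgF (by simpa using Subgroup.inv_mem _ h2)
    have hFfix : ⁅W₁, F⁆ = ⊥ := by
      rw [eq_bot_iff, ← hW12]
      refine commutator_le.2 fun w hw x hx => ⟨?_, ?_⟩
      · exact CfsgLib.Quadratic.commutator_mem hw (le_normalizer_self_plane P.le₁ hx.1)
      obtain ⟨a, ha, z, hz, rfl⟩ := CfsgLib.Coprime.exists_mul_of_mem_sup (H := W₂) (N := C)
        (fun y hy => centralizer_le_normalizer _ (mem_centralizer_iff.2 fun z hz =>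
          CfsgLib.Quadratic.elemAb_comm P.elemAb (hWV hz.1) (P.symm.plane_le hy)))
        (hWsup.ge (mem_sup_left hw))
      rw [CfsgLib.Quadratic.commutator_mul_left P.elemAb (P.symm.plane_le ha) (hWV hz.1) (P.le₁ hx.1),
        commutatorElement_eq_one_iff_mul_comm.2 ((mem_centralizer_iff.1 hz.2) x hx.1).symm, mul_one]
      exact CfsgLib.Quadratic.commutator_mem ha hx.2
    have hFb : F = ⊥ := P.eq_bot_of_fixes inf_le_left hFn hFfix
    -- then `|E₁| ≤ 2`
    have htwo : ∀ g ∈ E₁, g = 1 ∨ g = f := by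
      intro g hg
      by_cases hgN : g ∈ normalizer (W₂ : Set G)
      · exact Or.inl (mem_bot.1 (hFb ▸ (mem_inf.2 ⟨hg, hgN⟩ : g ∈ F)))
      · refine Or.inr (inv_mul_eq_one.1 (mem_bot.1 (hFb ▸ (mem_inf.2
          ⟨E₁.mul_mem (E₁.inv_mem hg) hf, hswap2 g hg f hf hgN hfm⟩ : g⁻¹ * f ∈ F))))
    have hle2 : Nat.card E₁ ≤ 2 := by
      classical
      have hinj : Function.Injective (fun g : E₁ => decide ((g : G) = 1)) := by
        intro a b hab
        simp only [decide_eq_decide] at hab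
        rcases htwo a a.2 with ha | ha <;> rcases htwo b b.2 with hb | hb
        · exact Subtype.ext (ha.trans hb.symm)
        · exact Subtype.ext (ha.trans (hab.1 ha).symm)
        · exact Subtype.ext ((hab.2 hb).trans hb.symm)
        · exact Subtype.ext (ha.trans hb.symm)
      simpa using Nat.card_le_card_of_injective _ hinj
    exact absurd P.card₁ (by omega)

theorem eq_bot_of_pCore [Fact p.Prime] {E E' N : Subgroup G} (hOp : Cfsg.pCore p ↥E = ⊥)
    (hE' : E' ≤ E) (hs : (E'.subgroupOf E).IsSubnormal) (hN : N ≤ E')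
    (hn : E' ≤ normalizer (N : Set G)) (hp : IsPGroup p N) : N = ⊥ := by
  have hsn : (N.subgroupOf E).IsSubnormal := by
    refine IsSubnormal.step _ (E'.subgroupOf E) (fun x hx => hN hx) hs ?_
    refine normal_subgroupOf_of_le_normalizer fun x hx => ?_
    rw [mem_normalizer_iff]
    intro y
    exact mem_normalizer_iff.1 (hn hx) y
  have h := CfsgLib.PCore.le_pCore_of_isSubnormal (p := p) hsn hp.comap_subtype
  rw [hOp, le_bot_iff, subgroupOf_eq_bot] at h
  exact disjoint_self.1 (h.mono_right (hN.trans hE'))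

end CfsgLib.SubnormalPair
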