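import Cfsg.Agent.Lib.PLocal5.PGroupBasic
import Cfsg.Agent.Lib.PLocal.Thompson
import Cfsg.Agent.Lib.PGroup.Class2
import Cfsg.Agent.Lib.OddOrder41.NormalElementary

/-! Elementary abelian subgroups of order `p⁴` of `p`-groups, `p` odd. -/

set_option autoImplicit false

open scoped commutatorElement

namespace CfsgLib.NormalQuad

universe u

variable {G : Type u} [Group G]

/-- `f ↦ [f, a]⁻¹` on `F`, when its values lie in `V` and commute with `F`. -/
theorem exists_commHom (F V : Subgroup G) (a : G)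
    (hV : ∀ f ∈ F, f * a * f⁻¹ * a⁻¹ ∈ V)
    (hc : ∀ f ∈ F, ∀ g ∈ F, g * (f * a * f⁻¹ * a⁻¹) = (f * a * f⁻¹ * a⁻¹) * g) :
    ∃ φ : F →* V, (∀ f : F, (φ f : G) = ((f : G) * a * (f : G)⁻¹ * a⁻¹)⁻¹) ∧
      Nat.card F = Nat.card ↥(F ⊓ Subgroup.centralizer {a}) * Nat.card φ.range := by
  let φ : F →* V := MonoidHom.mk' (fun f => ⟨((f : G) * a * (f : G)⁻¹ * a⁻¹)⁻¹, V.inv_mem (hV f f.2)⟩)
    fun f g => Subtype.ext (by
      have h1 : ((f * g : F) : G) * a * ((f * g : F) : G)⁻¹ * a⁻¹ =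
          ((g : G) * a * (g : G)⁻¹ * a⁻¹) * ((f : G) * a * (f : G)⁻¹ * a⁻¹) := by
        have h2 := hc g g.2 f f.2
        calc ((f * g : F) : G) * a * ((f * g : F) : G)⁻¹ * a⁻¹
            = ((f : G) * ((g : G) * a * (g : G)⁻¹ * a⁻¹)) * (f : G)⁻¹ *
                ((f : G) * a * (f : G)⁻¹ * a⁻¹) := by push_cast; group
          _ = _ := by rw [h2]; group
      show (((f * g : F) : G) * a * ((f * g : F) : G)⁻¹ * a⁻¹)⁻¹ = _
      rw [h1, mul_inv_rev]; rfl)
  refine ⟨φ, fun f => rfl, ?_⟩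
  rw [← Subgroup.card_mul_index φ.ker, Subgroup.index_ker]
  congr 1
  rw [← Subgroup.card_map_of_injective F.subtype_injective]
  congr 2
  ext x
  constructor
  · rintro ⟨f, hf, rfl⟩
    have h1 : ((f : G) * a * (f : G)⁻¹ * a⁻¹)⁻¹ = 1 := congrArg Subtype.val hf
    rw [inv_eq_one, mul_inv_eq_one, mul_inv_eq_iff_eq_mul] at h1
    exact ⟨f.2, Subgroup.mem_centralizer_singleton_iff.2 h1⟩
  · rintro ⟨hx, hxa⟩
    refine ⟨⟨x, hx⟩, Subtype.ext ?_, rfl⟩
    show (x * a * x⁻¹ * a⁻¹)⁻¹ = 1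
    rw [inv_eq_one, mul_inv_eq_one, mul_inv_eq_iff_eq_mul]
    exact Subgroup.mem_centralizer_singleton_iff.1 hxa

variable [Finite G] {p : ℕ} [hp : Fact p.Prime]

theorem sup_zpowers_eq {B A : Subgroup G} (hle : B ≤ A) (h : B.relIndex A = p) {a : G} (haA : a ∈ A)
    (haB : a ∉ B) : B ⊔ Subgroup.zpowers a = A := by
  have h1 : B ⊔ Subgroup.zpowers a ≤ A := sup_le hle (Subgroup.zpowers_le.2 haA)
  refine le_antisymm h1 (Subgroup.relIndex_eq_one.1 ?_)
  have h2 := Subgroup.relIndex_mul_relIndex B (B ⊔ Subgroup.zpowers a) A le_sup_left h1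
  rw [h] at h2
  rcases hp.out.eq_one_or_self_of_dvd _ (Dvd.intro _ h2) with h3 | h3
  · exact absurd (Subgroup.relIndex_eq_one.1 h3 (Subgroup.mem_sup_right (Subgroup.mem_zpowers a))) haB
  · rw [h3] at h2
    exact (Nat.mul_eq_left hp.out.ne_zero).1 h2

/-- A normal subgroup of index `p` in a normal subgroup of a `p`-group contains all commutators. -/
theorem comm_mem_of_relIndex (hG : IsPGroup p G) {B A : Subgroup G} [B.Normal] [A.Normal]
    (hle : B ≤ A) (h : B.relIndex A = p) {a : G} (ha : a ∈ A) (g : G) :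
    g * a * g⁻¹ * a⁻¹ ∈ B := by
  have hne : B < A := lt_of_le_of_ne hle fun e => by
    rw [e, Subgroup.relIndex_self] at h; exact hp.out.ne_one h.symm
  obtain ⟨x, hx, hxB, -, hxc⟩ := PGroupBasic.exists_mem_centralMod hG hne
  have hA : A ≤ (Subgroup.center (G ⧸ B)).comap (QuotientGroup.mk' B) := by
    rw [← sup_zpowers_eq hle h hx hxB, sup_le_iff, Subgroup.zpowers_le]
    refine ⟨fun b hb => ?_, ?_⟩
    · rw [Subgroup.mem_comap, QuotientGroup.mk'_apply, (QuotientGroup.eq_one_iff b).2 hb]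
      exact one_mem _
    · rw [Subgroup.mem_comap, Subgroup.mem_center_iff]
      intro y
      obtain ⟨g, rfl⟩ := QuotientGroup.mk_surjective y
      have h1 := (QuotientGroup.eq_one_iff _).2 (hxc g)
      rw [QuotientGroup.mk_mul, QuotientGroup.mk_mul, QuotientGroup.mk_mul, QuotientGroup.mk_inv,
        QuotientGroup.mk_inv, mul_inv_eq_one, mul_inv_eq_iff_eq_mul] at h1
      exact h1
  have h2 := Subgroup.mem_center_iff.1 (hA ha) (QuotientGroup.mk g)
  simp only [QuotientGroup.mk'_apply] at h2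
  rw [← QuotientGroup.eq_one_iff, QuotientGroup.mk_mul, QuotientGroup.mk_mul, QuotientGroup.mk_mul,
    QuotientGroup.mk_inv, QuotientGroup.mk_inv, h2]
  simp

/-- Elements of order dividing `p` centralizing `A` lie in `A`. -/
def OmegaIn (p : ℕ) (A : Subgroup G) : Prop :=
  ∀ x ∈ Subgroup.centralizer (A : Set G), x ^ p = 1 → x ∈ A

theorem pow_card (A B : Subgroup G) (hle : B ≤ A) {k j i : ℕ} (hA : Nat.card A = p ^ k)
    (hB : Nat.card B = p ^ j) (hk : k = j + i) : B.relIndex A = p ^ i := by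
  have h := Subgroup.relIndex_mul_relIndex ⊥ B A bot_le hle
  rw [Subgroup.relIndex_bot_left, Subgroup.relIndex_bot_left, hA, hB, hk, pow_add] at h
  exact Nat.eq_of_mul_eq_mul_left (pow_pos hp.out.pos j) h

/-- The bound, in the group `F A`. -/
theorem card_le_aux (hG : IsPGroup p G) (A F : Subgroup G) [A.Normal]
    (hA : Cfsg.IsElementaryAbelian p A) (hA3 : Nat.card A ≤ p ^ 3) (hΩ : OmegaIn p A)
    (hF : Cfsg.IsElementaryAbelian p F) (htop : F ⊔ A = ⊤)
    (hB : ∀ a ∈ A, (∀ f ∈ F, f * a = a * f) → a ∈ F) :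
    Nat.card F ≤ p ^ 4 ∧
      (Nat.card F = p ^ 4 → Nat.card A = p ^ 3 ∧ Nat.card ↥(F ⊓ A) = p ^ 2) := by
  set B := F ⊓ A with hBdef
  have hcommF : ∀ x ∈ F, ∀ y ∈ F, x * y = y * x := fun x hx y hy => PLocal.elemAb_commute hF hx hy
  have hcommA : ∀ x ∈ A, ∀ y ∈ A, x * y = y * x := fun x hx y hy => PLocal.elemAb_commute hA hx hy
  have hBc : B ≤ Subgroup.center G := by
    intro b hb
    have : (⊤ : Subgroup G) ≤ Subgroup.centralizer {b} := by
      rw [← htop, sup_le_iff]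
      exact ⟨fun f hf => Subgroup.mem_centralizer_singleton_iff.2 (hcommF f hf b hb.1),
        fun a ha => Subgroup.mem_centralizer_singleton_iff.2 (hcommA a ha b hb.2)⟩
    exact Subgroup.mem_center_iff.2 fun g =>
      Subgroup.mem_centralizer_singleton_iff.1 (this (Subgroup.mem_top g))
  have hBn : B.Normal := ⟨fun b hb g => by
    rwa [Subgroup.mem_center_iff.1 (hBc hb) g, mul_inv_cancel_right]⟩
  have hp1 := hp.out.one_lt
  obtain ⟨k, hk⟩ := IsPGroup.iff_card.1 (hG.to_subgroup A)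
  obtain ⟨j, hj⟩ := IsPGroup.iff_card.1 (hG.to_subgroup B)
  have hk3 : k ≤ 3 := (Nat.pow_le_pow_iff_right hp1).1 (hk ▸ hA3)
  have hjk : j ≤ k := (Nat.pow_le_pow_iff_right hp1).1
    (hk ▸ hj ▸ Subgroup.card_le_of_le inf_le_right)
  -- the kernel of a commutator map
  have hker : ∀ F₁ : Subgroup G, F₁ ≤ F → ∀ y ∈ A, ∀ D : Subgroup G, D ⊔ Subgroup.zpowers y = A →
      (∀ f ∈ F₁, ∀ d ∈ D, f * d = d * f) → F₁ ⊓ Subgroup.centralizer {y} ≤ B := by
    intro F₁ hF₁ y hy D hD hfD f hf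
    refine ⟨hF₁ hf.1, hΩ f ?_ (hF.2 f (hF₁ hf.1))⟩
    have : A ≤ Subgroup.centralizer {f} := by
      rw [← hD, sup_le_iff, Subgroup.zpowers_le]
      exact ⟨fun d hd => Subgroup.mem_centralizer_singleton_iff.2 (hfD f hf.1 d hd).symm,
        Subgroup.mem_centralizer_singleton_iff.2 (Subgroup.mem_centralizer_singleton_iff.1 hf.2).symm⟩
    exact Subgroup.mem_centralizer_iff.2 fun a ha => Subgroup.mem_centralizer_singleton_iff.1 (this ha)
  have hBcomm : ∀ f ∈ F, ∀ d ∈ B, f * d = d * f := fun f hf d hd => hcommF f hf d hd.1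
  have small : Nat.card F ≤ p ^ 3 → Nat.card F ≤ p ^ 4 ∧
      (Nat.card F = p ^ 4 → Nat.card A = p ^ 3 ∧ Nat.card B = p ^ 2) := fun h => by
    have h34 : p ^ 3 < p ^ 4 := Nat.pow_lt_pow_right hp1 (by norm_num)
    exact ⟨h.trans h34.le, fun he => absurd (he ▸ h) h34.not_ge⟩
  rcases Nat.eq_zero_or_pos k with rfl | hk0
  · have hA1 : A = ⊥ := Subgroup.card_eq_one.1 (by rw [hk, pow_zero])
    refine small ((Subgroup.card_le_of_le (K := A) fun f hf => hΩ f ?_ (hF.2 f hf)).trans hA3)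
    rw [hA1]
    exact Subgroup.mem_centralizer_iff.2 fun a ha => by
      rw [Subgroup.coe_bot, Set.mem_singleton_iff] at ha; simp [ha]
  have hAne : A ≠ ⊥ := fun h => by
    rw [h, Subgroup.card_bot] at hk
    exact (Nat.one_lt_pow hk0.ne' hp1).ne hk
  have hj0 : 0 < j := by
    obtain ⟨z, hzA, hzc, hzo⟩ := PGroupBasic.exists_central_orderOf_eq hG A hAne
    have hzB : z ∈ B :=
      ⟨hB z hzA fun f _ => Subgroup.mem_center_iff.1 hzc f, hzA⟩
    refine Nat.pos_of_ne_zero fun h => ?_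
    rw [h, pow_zero, Subgroup.card_eq_one] at hj
    rw [hj, Subgroup.mem_bot] at hzB
    rw [hzB, orderOf_one] at hzo
    exact hp.out.ne_one hzo.symm
  obtain ⟨i, rfl⟩ := Nat.exists_eq_add_of_le hjk
  have hrel := pow_card A B inf_le_right hk hj rfl
  match i, hrel, hk3, hk with
  | 0, hrel, _, _ =>
    have hAF : A ≤ F := (Subgroup.relIndex_eq_one.1 (show B.relIndex A = 1 by rw [hrel, pow_zero])).trans inf_le_left
    exact small ((Subgroup.card_le_of_le (K := A) fun f hf => hΩ f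
      (Subgroup.mem_centralizer_iff.2 fun a ha => hcommF a (hAF ha) f hf) (hF.2 f hf)).trans hA3)
  | 1, hrel, hk3, hk =>
    rw [pow_one] at hrel
    obtain ⟨a, ha, haB⟩ := SetLike.not_le_iff_exists.1 fun h : A ≤ B => by
      rw [Subgroup.relIndex_eq_one.2 h] at hrel; exact hp.out.ne_one hrel.symm
    obtain ⟨φ, -, hcard⟩ := exists_commHom F B a
      (fun f _ => comm_mem_of_relIndex hG inf_le_right hrel ha f)
      (fun f _ g hg => hBcomm g hg _ (comm_mem_of_relIndex hG inf_le_right hrel ha f))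
    have h1 : Nat.card ↥(F ⊓ Subgroup.centralizer {a}) ≤ p ^ j :=
      hj ▸ Subgroup.card_le_of_le (hker F le_rfl a ha B (sup_zpowers_eq inf_le_right hrel ha haB) hBcomm)
    have h2 : Nat.card φ.range ≤ p ^ j := hj ▸ Subgroup.card_le_card_group φ.range
    have h3 : Nat.card F ≤ p ^ (j + j) := by
      rw [hcard, pow_add]; exact Nat.mul_le_mul h1 h2
    refine ⟨h3.trans (Nat.pow_le_pow_right hp.out.pos (by omega)), fun he => ?_⟩
    rw [he, Nat.pow_le_pow_iff_right hp1] at h3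
    obtain rfl : j = 2 := by omega
    exact ⟨hk, hj⟩
  | 2, hrel, hk3, hk =>
    obtain rfl : j = 1 := by omega
    refine small ?_
    obtain ⟨y, hy, hyB, -, hyc⟩ := PGroupBasic.exists_mem_centralMod hG
      (lt_of_le_of_ne inf_le_right fun h => by
        rw [h, Subgroup.relIndex_self] at hrel; exact (Nat.one_lt_pow two_ne_zero hp1).ne hrel :
        B < A)
    obtain ⟨φ, -, hcard⟩ := exists_commHom F B y (fun f _ => hyc f)
      (fun f _ g hg => hBcomm g hg _ (hyc f))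
    have hr : Nat.card φ.range ≤ p :=
      (Subgroup.card_le_card_group φ.range).trans (by rw [hj, pow_one])
    set A₂ := B ⊔ Subgroup.zpowers y with hA₂def
    have hA₂A : A₂ ≤ A := sup_le inf_le_right (Subgroup.zpowers_le.2 hy)
    have hA₂n : A₂.Normal := PGroupBasic.normal_sup_zpowers hyc
    by_cases hA₂ : A₂ = A
    · have h1 : Nat.card ↥(F ⊓ Subgroup.centralizer {y}) ≤ p :=
        (Subgroup.card_le_of_le (hker F le_rfl y hy B hA₂ hBcomm)).trans (by rw [hj, pow_one])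
      rw [hcard]
      exact (Nat.mul_le_mul h1 hr).trans
        (by rw [← pow_two]; exact Nat.pow_le_pow_right hp.out.pos (by norm_num))
    have hrel₂ : A₂.relIndex A = p := by
      have h2 := Subgroup.relIndex_mul_relIndex B A₂ A le_sup_left hA₂A
      rw [hrel] at h2
      obtain ⟨m, hm, hm'⟩ := (Nat.dvd_prime_pow hp.out).1 (Dvd.intro_left _ h2)
      have hm0 : m ≠ 0 := fun h0 => by
        rw [h0, pow_zero, Subgroup.relIndex_eq_one] at hm'
        exact hA₂ (le_antisymm hA₂A hm')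
      have hm2 : m ≠ 2 := fun h0 => by
        rw [hm', h0] at h2
        have h3 : B.relIndex A₂ = 1 :=
          (Nat.mul_eq_right (pow_ne_zero 2 hp.out.ne_zero)).1 h2
        exact hyB (Subgroup.relIndex_eq_one.1 h3 (Subgroup.mem_sup_right (Subgroup.mem_zpowers y)))
      rw [hm', show m = 1 by omega, pow_one]
    obtain ⟨a, ha, haA₂⟩ := SetLike.not_le_iff_exists.1 fun h : A ≤ A₂ => hA₂ (le_antisymm hA₂A h)
    set F₀ := F ⊓ Subgroup.centralizer {y} with hF₀
    have hF₀D : ∀ f ∈ F₀, ∀ d ∈ A₂, f * d = d * f := by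
      intro f hf d hd
      have : A₂ ≤ Subgroup.centralizer {f} := by
        rw [hA₂def, sup_le_iff, Subgroup.zpowers_le]
        exact ⟨fun b hb => Subgroup.mem_centralizer_singleton_iff.2 (hBcomm f hf.1 b hb).symm,
          Subgroup.mem_centralizer_singleton_iff.2 (Subgroup.mem_centralizer_singleton_iff.1 hf.2).symm⟩
      exact (Subgroup.mem_centralizer_singleton_iff.1 (this hd)).symm
    -- values of the second map are fixed by `F`
    have hval : ∀ f ∈ F₀, f * a * f⁻¹ * a⁻¹ ∈ B := by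
      intro f hf
      set s := f * a * f⁻¹ * a⁻¹ with hs
      have hsA₂ : s ∈ A₂ := comm_mem_of_relIndex hG hA₂A hrel₂ ha f
      refine ⟨hB s (hA₂A hsA₂) fun g hg => ?_, hA₂A hsA₂⟩
      set t := g * a * g⁻¹ * a⁻¹ with ht
      have htA₂ : t ∈ A₂ := comm_mem_of_relIndex hG hA₂A hrel₂ ha g
      have hfg := hcommF f hf.1 g hg
      have hft := hF₀D f hf t htA₂
      have hts := hcommA t (hA₂A htA₂) s (hA₂A hsA₂)
      have e1 : f * g * a * (f * g)⁻¹ * a⁻¹ = (f * t) * f⁻¹ * s := by rw [ht, hs]; group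
      have e2 : g * f * a * (g * f)⁻¹ * a⁻¹ = g * s * g⁻¹ * t := by rw [ht, hs]; group
      rw [hft, mul_inv_cancel_right, hfg, e2, hts] at e1
      exact mul_inv_eq_iff_eq_mul.1 (mul_right_cancel e1)
    obtain ⟨ψ, -, hcard₀⟩ := exists_commHom F₀ B a hval
      (fun f hf g hg => hBcomm g hg.1 _ (hval f hf))
    have hr₀ : Nat.card ψ.range ≤ p :=
      (Subgroup.card_le_card_group ψ.range).trans (by rw [hj, pow_one])
    have hk₀ : Nat.card ↥(F₀ ⊓ Subgroup.centralizer {a}) ≤ p :=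
      (Subgroup.card_le_of_le (hker F₀ inf_le_left a ha A₂
        (sup_zpowers_eq hA₂A hrel₂ ha haA₂) hF₀D)).trans (by rw [hj, pow_one])
    rw [hcard, hcard₀, show p ^ 3 = p * p * p by ring]
    exact Nat.mul_le_mul (Nat.mul_le_mul hk₀ hr₀) hr
  | i + 3, _, hk3, _ => exact absurd hk3 (by omega)

theorem subgroupOf_elemAb {A S : Subgroup G} (hA : Cfsg.IsElementaryAbelian p A) (hle : A ≤ S) :
    Cfsg.IsElementaryAbelian p (A.subgroupOf S) :=
  (PLocal.elemAb_map_iff S.subtype_injective).1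
    (by rw [Subgroup.map_subgroupOf_eq_of_le hle]; exact hA)

theorem card_subgroupOf' {A S : Subgroup G} (hle : A ≤ S) :
    Nat.card (A.subgroupOf S) = Nat.card A :=
  Nat.card_congr (Subgroup.subgroupOfEquivOfLe hle).toEquiv

/-- An elementary abelian subgroup has order at most `p⁴`; with equality its trace on `A` is known. -/
theorem card_le (hG : IsPGroup p G) (A F : Subgroup G) [A.Normal]
    (hA : Cfsg.IsElementaryAbelian p A) (hA3 : Nat.card A ≤ p ^ 3) (hΩ : OmegaIn p A)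
    (hF : Cfsg.IsElementaryAbelian p F) :
    Nat.card F ≤ p ^ 4 ∧
      (Nat.card F = p ^ 4 → (∀ a ∈ A, (∀ f ∈ F, f * a = a * f) → a ∈ F) ∧
        Nat.card A = p ^ 3 ∧ Nat.card ↥(F ⊓ A) = p ^ 2) := by
  set C := A ⊓ Subgroup.centralizer (F : Set G) with hC
  set F' := F ⊔ C with hF'
  have hF'e : Cfsg.IsElementaryAbelian p F' := by
    rw [hF', sup_comm]
    exact PLocal.elemAb_sup (PLocal.elemAb_of_le hA inf_le_left) hF inf_le_right
  have hB' : ∀ a ∈ A, (∀ f ∈ F', f * a = a * f) → a ∈ F' := fun a ha h =>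
    Subgroup.mem_sup_right ⟨ha, Subgroup.mem_centralizer_iff.2 fun f hf =>
      h f (Subgroup.mem_sup_left hf)⟩
  set S := F' ⊔ A with hS
  have hF'S : F' ≤ S := le_sup_left
  have hAS : A ≤ S := le_sup_right
  have : (A.subgroupOf S).Normal := Subgroup.Normal.subgroupOf inferInstance S
  have hres := card_le_aux (G := S) (hG.to_subgroup S) (A.subgroupOf S) (F'.subgroupOf S)
    (subgroupOf_elemAb hA hAS) (by rw [card_subgroupOf' hAS]; exact hA3)
    (fun x hx hxp => hΩ x (Subgroup.mem_centralizer_iff.2 fun a ha => congrArg Subtype.val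
      (Subgroup.mem_centralizer_iff.1 hx ⟨a, hAS ha⟩ ha)) (by simpa using congrArg Subtype.val hxp))
    (subgroupOf_elemAb hF'e hF'S)
    (by rw [← Subgroup.subgroupOf_sup hF'S hAS, Subgroup.subgroupOf_self])
    (fun a ha h => hB' a ha fun f hf => congrArg Subtype.val (h ⟨f, hF'S hf⟩ hf))
  rw [card_subgroupOf' hF'S, card_subgroupOf' hAS, show F'.subgroupOf S ⊓ A.subgroupOf S = (F' ⊓ A).subgroupOf S from rfl,
    card_subgroupOf' (inf_le_left.trans hF'S)] at hres
  have hle : Nat.card F ≤ Nat.card F' := Subgroup.card_le_of_le le_sup_left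
  refine ⟨hle.trans hres.1, fun he => ?_⟩
  have heq : F = F' := Subgroup.eq_of_le_of_card_ge le_sup_left (hres.1.trans he.ge)
  rw [← heq] at hres hB'
  exact ⟨hB', hres.2 he⟩

/-- Two elements of order dividing the odd prime `p`, whose commutator centralizes both. -/
theorem mul_pow_eq_one (hp2 : p ≠ 2) {x y : G} (hx : x ^ p = 1) (hy : y ^ p = 1)
    (h1 : ⁅y, x⁆ * x = x * ⁅y, x⁆) (h2 : ⁅y, x⁆ * y = y * ⁅y, x⁆) : (x * y) ^ p = 1 := by
  set K := Subgroup.closure ({x, y} : Set G) with hK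
  set x' : K := ⟨x, Subgroup.subset_closure (Set.mem_insert _ _)⟩
  set y' : K := ⟨y, Subgroup.subset_closure (Set.mem_insert_of_mem _ rfl)⟩
  have hcen : ⁅y', x'⁆ ∈ Subgroup.center K := by
    rw [Subgroup.mem_center_iff]
    rintro ⟨g, hg⟩
    refine Subtype.ext ?_
    have hle : K ≤ Subgroup.centralizer {⁅y, x⁆} := by
      rw [hK, Subgroup.closure_le]
      rintro z (rfl | rfl) <;> rw [SetLike.mem_coe, Subgroup.mem_centralizer_singleton_iff]
      exacts [h1.symm, h2.symm]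
    exact Subgroup.mem_centralizer_singleton_iff.1 (hle hg)
  exact congrArg Subtype.val (PGroup.mul_pow_eq_one_of_central (hp.out.odd_of_ne_two hp2) hcen
    (Subtype.ext hx : x' ^ p = 1) (Subtype.ext hy : y' ^ p = 1))

/-- In a subgroup containing `A` there is at most one normal elementary abelian subgroup of order `p⁴`. -/
theorem le_of_normalized (hp2 : p ≠ 2) (hG : IsPGroup p G) (A M F F' : Subgroup G) [A.Normal]
    (hA : Cfsg.IsElementaryAbelian p A) (hA3 : Nat.card A ≤ p ^ 3) (hΩ : OmegaIn p A) (hAM : A ≤ M)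
    (hF : Cfsg.IsElementaryAbelian p F) (hFM : F ≤ M) (hFn : M ≤ Subgroup.normalizer (F : Set G))
    (hFc : Nat.card F = p ^ 4)
    (hF' : Cfsg.IsElementaryAbelian p F') (hF'M : F' ≤ M)
    (hF'n : M ≤ Subgroup.normalizer (F' : Set G)) (hF'c : Nat.card F' = p ^ 4) : F' ≤ F := by
  obtain ⟨hBF, hAc, hBc⟩ := (card_le hG A F hA hA3 hΩ hF).2 hFc
  obtain ⟨hBF', -, hB'c⟩ := (card_le hG A F' hA hA3 hΩ hF').2 hF'c
  have hAn : A.Normal := inferInstance
  set B := F ⊓ A with hB
  set B' := F' ⊓ A with hB'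
  have hrel : B.relIndex A = p := by
    rw [pow_card A B inf_le_right hAc hBc (i := 1) rfl, pow_one]
  have hrel' : B'.relIndex A = p := by
    rw [pow_card A B' inf_le_right hAc hB'c (i := 1) rfl, pow_one]
  have hconj : ∀ {X : Subgroup G}, M ≤ Subgroup.normalizer (X : Set G) → ∀ g ∈ M, ∀ x ∈ X,
      g * x * g⁻¹ ∈ X := fun hX g hg x hx => (Subgroup.mem_normalizer_iff.1 (hX hg) x).1 hx
  -- commutators of `A` with `F` lie in `F ∩ A`
  have hval : ∀ (X : Subgroup G), X ≤ M → M ≤ Subgroup.normalizer (X : Set G) → ∀ a ∈ A, ∀ f ∈ X,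
      f * a * f⁻¹ * a⁻¹ ∈ X ⊓ A := by
    intro X _ hX a ha f hf
    refine ⟨?_, A.mul_mem (hAn.conj_mem a ha f) (A.inv_mem ha)⟩
    have h1 : f * a * f⁻¹ * a⁻¹ = f * (a * f⁻¹ * a⁻¹) := by group
    rw [h1]
    exact X.mul_mem hf (hconj hX a (hAM ha) _ (X.inv_mem hf))
  -- the commutator map of an outside element is onto
  have honto : ∀ (X : Subgroup G), Cfsg.IsElementaryAbelian p X → X ≤ M →
      M ≤ Subgroup.normalizer (X : Set G) → Nat.card X = p ^ 4 → Nat.card ↥(X ⊓ A) = p ^ 2 →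
      (X ⊓ A).relIndex A = p → ∀ a ∈ A, a ∉ X →
      ∀ v ∈ X ⊓ A, ∃ f ∈ X, (f * a * f⁻¹ * a⁻¹)⁻¹ = v := by
    intro X hX hXM hXn hXc hXB hXr a ha haX v hv
    obtain ⟨φ, hφ, hcard⟩ := exists_commHom X (X ⊓ A) a (fun f hf => hval X hXM hXn a ha f hf)
      (fun f hf g hg => PLocal.elemAb_commute hX hg (hval X hXM hXn a ha f hf).1)
    have hk : Nat.card ↥(X ⊓ Subgroup.centralizer {a}) ≤ p ^ 2 := by
      refine hXB ▸ Subgroup.card_le_of_le ?_
      intro f hf
      refine ⟨hf.1, hΩ f (Subgroup.mem_centralizer_iff.2 fun a' ha' => ?_) (hX.2 f hf.1)⟩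
      have hle : A ≤ Subgroup.centralizer {f} := by
        rw [← sup_zpowers_eq inf_le_right hXr ha fun h => haX h.1, sup_le_iff, Subgroup.zpowers_le]
        exact ⟨fun d hd => Subgroup.mem_centralizer_singleton_iff.2
            (PLocal.elemAb_commute hX hd.1 hf.1),
          Subgroup.mem_centralizer_singleton_iff.2 (Subgroup.mem_centralizer_singleton_iff.1 hf.2).symm⟩
      exact Subgroup.mem_centralizer_singleton_iff.1 (hle ha')
    have htop : φ.range = ⊤ := by
      refine Subgroup.eq_top_of_card_eq _ (le_antisymm (Subgroup.card_le_card_group _) ?_)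
      rw [hXB]
      refine Nat.le_of_mul_le_mul_left ?_ (pow_pos hp.out.pos 2)
      rw [← pow_add]
      calc p ^ (2 + 2) = Nat.card X := hXc.symm
        _ ≤ p ^ 2 * Nat.card φ.range := hcard ▸ Nat.mul_le_mul_right _ hk
    obtain ⟨f, hf⟩ := (htop ▸ Subgroup.mem_top (⟨v, hv⟩ : ↥(X ⊓ A)) : (⟨v, hv⟩ : ↥(X ⊓ A)) ∈ φ.range)
    exact ⟨f, f.2, by rw [← hφ, hf]⟩
  -- the two traces agree
  have hBB' : B' ≤ B := by
    by_contra hne
    obtain ⟨b, hb, hb'⟩ : ∃ b ∈ B, b ∉ B' := SetLike.not_le_iff_exists.1 fun h =>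
      hne (Subgroup.eq_of_le_of_card_ge h (by rw [hBc, hB'c])).ge
    refine hne fun v hv => ?_
    obtain ⟨f, hf, rfl⟩ := honto F' hF' hF'M hF'n hF'c hB'c hrel' b hb.2 (fun h => hb' ⟨h, hb.2⟩) v hv
    refine inv_mem ⟨?_, (hval F' hF'M hF'n b hb.2 f hf).2⟩
    exact F.mul_mem (hconj hFn f (hF'M hf) b hb.1) (F.inv_mem hb.1)
  have hBeq : B' = B := Subgroup.eq_of_le_of_card_ge hBB' (by rw [hBc, hB'c])
  -- `F' ≤ F ⊔ A`
  obtain ⟨a, ha, haB⟩ := SetLike.not_le_iff_exists.1 fun h : A ≤ B => by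
    rw [Subgroup.relIndex_eq_one.2 h] at hrel; exact hp.out.ne_one hrel.symm
  have hcB : ∀ x, (x ∈ F ∨ x ∈ F') → ∀ d ∈ B, x * d = d * x := by
    rintro x (hx | hx) d hd
    · exact PLocal.elemAb_commute hF hx hd.1
    · exact PLocal.elemAb_commute hF' hx (hBeq ▸ hd).1
  have hdec : ∀ f' ∈ F', ∃ f ∈ F, ∃ t ∈ A, f' = f * t := by
    intro f' hf'
    obtain ⟨f, hf, hfe⟩ := honto F hF hFM hFn hFc hBc hrel a ha (fun h => haB ⟨h, ha⟩) _
      (inv_mem (hBeq ▸ hval F' hF'M hF'n a ha f' hf' : f' * a * f'⁻¹ * a⁻¹ ∈ B))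
    refine ⟨f, hf, f⁻¹ * f', hΩ _ ?_ ?_, by group⟩
    · have h1 : f * a * f⁻¹ = f' * a * f'⁻¹ := mul_right_cancel (inv_injective hfe)
      have h2 : (f⁻¹ * f') * a = a * (f⁻¹ * f') := by
        calc (f⁻¹ * f') * a = f⁻¹ * (f' * a * f'⁻¹) * f' := by group
          _ = a * (f⁻¹ * f') := by rw [← h1]; group
      have hle : A ≤ Subgroup.centralizer {f⁻¹ * f'} := by
        rw [← sup_zpowers_eq inf_le_right hrel ha haB, sup_le_iff, Subgroup.zpowers_le]
        exact ⟨fun d hd => Subgroup.mem_centralizer_singleton_iff.2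
          ((Commute.mul_left ((show Commute f d from hcB f (Or.inl hf) d hd).inv_left)
            (hcB f' (Or.inr hf') d hd)).eq).symm,
          Subgroup.mem_centralizer_singleton_iff.2 h2.symm⟩
      exact Subgroup.mem_centralizer_iff.2 fun a' ha' =>
        Subgroup.mem_centralizer_singleton_iff.1 (hle ha')
    · have hx : f⁻¹ ^ p = 1 := by rw [inv_pow, hF.2 f hf, inv_one]
      have hzF : ⁅f', f⁻¹⁆ ∈ F := by
        rw [commutatorElement_def]
        exact F.mul_mem (hconj hFn f' (hF'M hf') _ (F.inv_mem hf)) (F.inv_mem (F.inv_mem hf))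
      have hzF' : ⁅f', f⁻¹⁆ ∈ F' := by
        rw [commutatorElement_def, mul_assoc f', mul_assoc f']
        exact F'.mul_mem hf' (hconj hF'n _ (M.inv_mem (hFM hf)) _ (F'.inv_mem hf'))
      exact mul_pow_eq_one hp2 hx (hF'.2 f' hf') (PLocal.elemAb_commute hF hzF (F.inv_mem hf))
        (PLocal.elemAb_commute hF' hzF' hf')
  have hle : F' ≤ F ⊔ A := fun x hx => by
    obtain ⟨f, hf, t, ht, rfl⟩ := hdec x hx
    exact Subgroup.mul_mem_sup hf ht
  -- an element of `F ∩ F'` outside `B`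
  obtain ⟨g, hg, hgB⟩ : ∃ g ∈ F ⊓ F', g ∉ B := SetLike.not_le_iff_exists.1 fun h => by
    have h2 : F.relIndex F' ≤ p := by
      refine le_trans (Subgroup.relIndex_le_of_le_right hle ?_) (le_of_eq ?_)
      · rw [Subgroup.relIndex]; exact Subgroup.index_ne_zero_of_finite
      · have h3 : A.relIndex (F ⊔ A) = p ^ 2 := by
          rw [Subgroup.relIndex_sup_right, ← Subgroup.inf_relIndex_right A F, inf_comm, ← hB,
            pow_card F B inf_le_left hFc hBc (i := 2) rfl]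
        have h5 : Nat.card ↥(F ⊔ A) = p ^ 5 := by
          have h6 := Subgroup.relIndex_mul_relIndex ⊥ A (F ⊔ A) bot_le le_sup_right
          rw [Subgroup.relIndex_bot_left, Subgroup.relIndex_bot_left, hAc, h3, ← pow_add] at h6
          exact h6.symm
        rw [pow_card (F ⊔ A) F le_sup_left h5 hFc (i := 1) rfl, pow_one]
    have h4 := Subgroup.relIndex_mul_relIndex ⊥ (F ⊓ F') F' bot_le inf_le_right
    rw [Subgroup.relIndex_bot_left, Subgroup.relIndex_bot_left, hF'c, Subgroup.inf_relIndex_right] at h4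
    have h5 : Nat.card ↥(F ⊓ F') * F.relIndex F' ≤ p ^ 2 * p :=
      Nat.mul_le_mul (hBc ▸ Subgroup.card_le_of_le h) h2
    rw [h4, ← pow_succ, Nat.pow_le_pow_iff_right hp.out.one_lt] at h5
    omega
  intro f' hf'
  obtain ⟨f, hf, t, ht, rfl⟩ := hdec f' hf'
  by_cases htB : t ∈ B
  · exact F.mul_mem hf htB.1
  exfalso
  have h1 : Commute g (f * t) := PLocal.elemAb_commute hF' hg.2 hf'
  have h2 : Commute g t := by
    have := ((show Commute g f from PLocal.elemAb_commute hF hg.1 hf).inv_right).mul_right h1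
    rwa [inv_mul_cancel_left] at this
  refine hgB ⟨hg.1, hΩ g (Subgroup.mem_centralizer_iff.2 fun a' ha' => ?_) (hF.2 g hg.1)⟩
  have hle' : A ≤ Subgroup.centralizer {g} := by
    rw [← sup_zpowers_eq inf_le_right hrel ht htB, sup_le_iff, Subgroup.zpowers_le]
    exact ⟨fun d hd => Subgroup.mem_centralizer_singleton_iff.2 (hcB g (Or.inl hg.1) d hd).symm,
      Subgroup.mem_centralizer_singleton_iff.2 h2.symm.eq⟩
  exact Subgroup.mem_centralizer_singleton_iff.1 (hle' ha')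

/-- Descent from a larger normal elementary abelian subgroup. -/
theorem descend (hG : IsPGroup p G) : ∀ (k : ℕ) (W : Subgroup G), W.Normal →
    Cfsg.IsElementaryAbelian p W → Nat.card W = p ^ (4 + k) →
    ∃ U : Subgroup G, U.Normal ∧ Cfsg.IsElementaryAbelian p U ∧ Nat.card U = p ^ 4 := by
  intro k
  induction k with
  | zero => exact fun W h1 h2 h3 => ⟨W, h1, h2, h3⟩
  | succ k ih =>
    intro W hWn hW hcard
    have hWne : W ≠ ⊥ := fun h => by
      rw [h, Subgroup.card_bot] at hcard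
      exact absurd hcard (ne_of_lt (Nat.one_lt_pow (by omega) hp.out.one_lt))
    obtain ⟨B, hBn, hBW, hBi, -⟩ := PGroupBasic.exists_normal_relIndex_eq hG W hWne
    refine ih B hBn (PLocal.elemAb_of_le hW hBW) ?_
    have h := Subgroup.relIndex_mul_relIndex ⊥ B W bot_le hBW
    rw [Subgroup.relIndex_bot_left, Subgroup.relIndex_bot_left, hBi, hcard, ← add_assoc, pow_succ] at h
    exact Nat.eq_of_mul_eq_mul_right hp.out.pos h

/-- A `p`-group, `p` odd, with an elementary abelian subgroup of order `p⁴` has a normal one. -/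
theorem exists_normal_quad (hp2 : p ≠ 2) : ∀ (n : ℕ) (P : Type u) [Group P] [Finite P],
    Nat.card P = n → IsPGroup p P → ∀ E : Subgroup P, Cfsg.IsElementaryAbelian p E →
    Nat.card E = p ^ 4 →
    ∃ U : Subgroup P, U.Normal ∧ Cfsg.IsElementaryAbelian p U ∧ Nat.card U = p ^ 4 := by
  intro n
  induction n using Nat.strong_induction_on with
  | _ n ih =>
  intro P _ _ hn hP E hE hE4
  classical
  have := hP.isNilpotent
  obtain ⟨A, ⟨hAn, hA⟩, hmax⟩ := (Set.toFinite
    {A : Subgroup P | A.Normal ∧ Cfsg.IsElementaryAbelian p A}).exists_maximal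
      ⟨⊥, inferInstance, PLocal.elemAb_bot p⟩
  have hΩ : OmegaIn p A := by
    intro x hx hxp
    by_contra hxA
    obtain ⟨A', hA'n, hA'e, hlt⟩ :=
      OddOrder41.exists_normal_elementary_gt hp2 hP A hA x hx hxp hxA
    exact hlt.not_ge (hmax ⟨hA'n, hA'e⟩ hlt.le)
  obtain ⟨k, hk⟩ := IsPGroup.iff_card.1 (hP.to_subgroup A)
  by_cases h4 : 4 ≤ k
  · obtain ⟨d, rfl⟩ := Nat.exists_eq_add_of_le h4
    exact descend hP d A hAn hA hk
  have hA3 : Nat.card A ≤ p ^ 3 := hk ▸ Nat.pow_le_pow_right (Fact.out : p.Prime).pos (by omega)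
  obtain ⟨hBE, hAc, hBc⟩ := (card_le hP A E hA hA3 hΩ hE).2 hE4
  by_cases htop : E ⊔ A = ⊤
  · refine ⟨E, ?_, hE, hE4⟩
    have hBn : (E ⊓ A).Normal := by
      refine ⟨fun b hb g => ?_⟩
      have : (⊤ : Subgroup P) ≤ Subgroup.centralizer {b} := by
        rw [← htop, sup_le_iff]
        exact ⟨fun f hf => Subgroup.mem_centralizer_singleton_iff.2 (PLocal.elemAb_commute hE hf hb.1),
          fun a ha => Subgroup.mem_centralizer_singleton_iff.2 (PLocal.elemAb_commute hA ha hb.2)⟩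
      rw [Subgroup.mem_centralizer_singleton_iff.1 (this (Subgroup.mem_top g)), mul_inv_cancel_right]
      exact hb
    have hrel : (E ⊓ A).relIndex A = p := by
      rw [pow_card A (E ⊓ A) inf_le_right hAc hBc (i := 1) rfl, pow_one]
    rw [← Subgroup.normalizer_eq_top_iff, ← top_le_iff, ← htop, sup_le_iff]
    refine ⟨Subgroup.le_normalizer, Subgroup.le_normalizer_iff.2 fun a ha e he => ?_⟩
    have h1 := comm_mem_of_relIndex hP inf_le_right hrel ha e
    have h2 : a * e * a⁻¹ = (e * a * e⁻¹ * a⁻¹)⁻¹ * e := by group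
    rw [h2]
    exact E.mul_mem (E.inv_mem h1.1) he
  · obtain ⟨M, hM, hle⟩ := (Finite.to_isCoatomic : IsCoatomic (Subgroup P)).eq_top_or_exists_le_coatom
      (E ⊔ A) |>.resolve_left htop
    have hMn : M.Normal := Subgroup.NormalizerCondition.normal_of_coatom M
      Group.normalizerCondition_of_isNilpotent hM
    have hlt : Nat.card M < n := by
      rw [← hn]
      exact lt_of_le_of_ne (Subgroup.card_le_card_group M) fun h => hM.1 (Subgroup.eq_top_of_card_eq _ h)
    have hEM : E ≤ M := le_sup_left.trans hle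
    obtain ⟨U, hUn, hU, hU4⟩ := ih _ hlt M rfl (hP.to_subgroup M) (E.subgroupOf M)
      (subgroupOf_elemAb hE hEM) (by rw [card_subgroupOf' hEM]; exact hE4)
    set F := U.map M.subtype with hF
    have hFe : Cfsg.IsElementaryAbelian p F := PLocal.elemAb_map _ hU
    have hFc : Nat.card F = p ^ 4 := by rw [hF, Subgroup.card_subtype, hU4]
    have hFM : F ≤ M := Subgroup.map_subtype_le U
    have hFn : M ≤ Subgroup.normalizer (F : Set P) := by
      refine Subgroup.le_normalizer_iff.2 fun m hm x hx => ?_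
      obtain ⟨u, hu, rfl⟩ := hx
      exact ⟨⟨m, hm⟩ * u * ⟨m, hm⟩⁻¹, hUn.conj_mem u hu _, rfl⟩
    refine ⟨F, ⟨fun x hx g => ?_⟩, hFe, hFc⟩
    refine le_of_normalized hp2 hP A M F (F.map (MulAut.conj g).toMonoidHom) hA hA3 hΩ
      (le_sup_right.trans hle) hFe hFM hFn hFc (PLocal.elemAb_map _ hFe) ?_ ?_ ?_ ⟨x, hx, rfl⟩
    · rintro _ ⟨y, hy, rfl⟩; exact hMn.conj_mem y (hFM hy) g
    · refine le_trans ?_ (Subgroup.le_normalizer_map _)
      intro m hm
      refine ⟨g⁻¹ * m * g, hFn (by simpa using hMn.conj_mem m hm g⁻¹), ?_⟩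
      simp [mul_assoc]
    · rw [Subgroup.card_map_of_injective (MulAut.conj g).injective]; exact hFc

end CfsgLib.NormalQuad
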