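import Cfsg.Agent.Lib.PLocal5.QuadPair
import Cfsg.Agent.Lib.PLocal5.SL2Three
import Cfsg.Agent.Lib.PCore.PSolvable

/-! Consequences for groups generated by two quadratically acting elements. -/

set_option autoImplicit false

open scoped MatrixGroups commutatorElement

namespace CfsgLib.SL2Apps

open CfsgLib.SL2Unipotent

universe u v w

/-- A quotient section carried by an injective map into the image. -/
theorem exists_section {G : Type u} [Group G] {M : Type v} [Group M] {S : Type w} [Group S]
    (H : Subgroup G) (φ : H →* M) (ψ : S →* M) (hψ : Function.Injective ψ)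
    (hr : ψ.range ≤ φ.range) :
    ∃ (K L : Subgroup G) (hL : (L.subgroupOf K).Normal), K ≤ H ∧
      Nonempty ((K ⧸ L.subgroupOf K) ≃* S) := by
  set K := (ψ.range.comap φ).map H.subtype with hK
  set L := φ.ker.map H.subtype with hL
  have hKH : K ≤ H := Subgroup.map_subtype_le _
  let f : K →* ψ.range := (φ.comp (Subgroup.inclusion hKH)).codRestrict ψ.range fun k => by
    obtain ⟨h, hh, hk⟩ := k.2
    show φ _ ∈ _
    rw [show Subgroup.inclusion hKH k = h from Subtype.ext hk.symm]
    exact hh
  have hf : Function.Surjective f := by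
    rintro ⟨y, hy⟩
    obtain ⟨h, rfl⟩ := hr hy
    exact ⟨⟨h, h, hy, rfl⟩, Subtype.ext rfl⟩
  have hker : L.subgroupOf K = f.ker := by
    ext k
    rw [Subgroup.mem_subgroupOf, MonoidHom.mem_ker]
    constructor
    · rintro ⟨h, hh, hk⟩
      refine Subtype.ext ?_
      show φ _ = 1
      rw [show Subgroup.inclusion hKH k = h from Subtype.ext hk.symm]
      exact hh
    · intro h
      exact ⟨Subgroup.inclusion hKH k, congrArg Subtype.val h, rfl⟩
  have hN : (L.subgroupOf K).Normal := hker ▸ f.normal_ker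
  exact ⟨K, L, hN, hKH, ⟨(QuotientGroup.quotientMulEquivOfEq hker).trans
    ((QuotientGroup.quotientKerEquivOfSurjective f hf).trans (MonoidHom.ofInjective hψ).symm)⟩⟩

variable {K : Type u} [Field K] {p : ℕ} [hp : Fact p.Prime] [CharP K p]

/-- A `p`-group of `SL₂` cannot contain two opposite root elements. -/
theorem not_isPGroup_of_up_low {μ : K} (hμ : μ ≠ 0) (X : Subgroup SL(2, K)) (h1 : up μ ∈ X)
    (h2 : low 1 ∈ X) : ¬ IsPGroup p X := by
  intro h
  obtain ⟨n, hn⟩ := h ⟨up μ * low 1, X.mul_mem h1 h2⟩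
  have hn' : (up μ * low (1 : K)) ^ (p ^ n) = 1 := congrArg Subtype.val hn
  have hnil : IsNilpotent ((up μ * low (1 : K)).1 - 1) := by
    refine ⟨p ^ n, ?_⟩
    have : CharP (Matrix (Fin 2) (Fin 2) K) p := inferInstance
    rw [sub_pow_char_pow_of_commute p n (Commute.one_right _), one_pow,
      ← Matrix.SpecialLinearGroup.coe_pow, hn', Matrix.SpecialLinearGroup.coe_one, sub_self]
  have htr := (Matrix.isNilpotent_trace_of_isNilpotent hnil).eq_zero
  rw [Matrix.trace_sub, Matrix.trace_one, sub_eq_zero, Fintype.card_fin] at htr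
  have h' : tr (up μ * low (1 : K)) = 2 := by simpa [tr] using htr
  rw [tr_up_mul_low] at h'
  exact hμ (by linear_combination h')

/-- A finite subgroup with two opposite root elements has no normal element of order `p`. -/
theorem eq_one_of_commute_conj (hp2 : p ≠ 2) {μ : K} (hμ : μ ≠ 0) {g : SL(2, K)} (hg : g ^ p = 1)
    (ha : Commute g (up μ * g * (up μ)⁻¹)) (hb : Commute g (low 1 * g * (low (1 : K))⁻¹)) :
    g = 1 := by
  have h2 := two_ne_zero_of_char (K := K) hp2
  by_contra hg1
  have htg := tr_eq_two_of_pow_char hg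
  have hns : NonScalar g := nonScalar_of_ne hg1 fun h => by
    rw [h, tr_neg, show tr (1 : SL(2, K)) = 2 by simp [tr]] at htg
    exact h2 (mul_left_cancel₀ h2 (by linear_combination -htg) : (2 : K) = 0)
  have key : ∀ c : SL(2, K), Commute g (c * g * c⁻¹) →
      ∃ β : K, (c * g * c⁻¹).1 - 1 = β • (g.1 - 1) := by
    intro c hc
    obtain ⟨α, β, e⟩ := eq_add_smul hns hc
    refine ⟨β, ?_⟩
    have ht := tr_conj c g
    rw [htg, tr_eq, e] at ht
    rw [tr_eq] at htg
    simp at ht
    have hα : α = 1 - β := mul_left_cancel₀ h2 (by linear_combination ht - β * htg)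
    rw [e, hα, sub_smul, one_smul, smul_sub]
    abel
  obtain ⟨β, e1⟩ := key _ ha
  obtain ⟨γ, e2⟩ := key _ hb
  have f10 := congrFun (congrFun e1 1) 0
  have f00 := congrFun (congrFun e1 0) 0
  have k01 := congrFun (congrFun e2 0) 1
  have k00 := congrFun (congrFun e2 0) 0
  simp [coe_inv_eq, tr_eq, Matrix.SpecialLinearGroup.coe_mul, Matrix.mul_apply,
    Fin.sum_univ_two, Matrix.vecMul, dotProduct] at f10 f00 k01 k00
  have hd := det_eq g
  rw [tr_eq] at htg
  have hu : g.1 1 0 = 0 := by
    by_contra hu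
    have hβ : β = 1 := (mul_left_eq_self₀.1 (by linear_combination -f10)).resolve_right hu
    rw [hβ] at f00
    exact mul_ne_zero hμ hu (by linear_combination f00)
  have hn : g.1 0 0 - 1 = 0 := by
    refine pow_eq_zero_iff (n := 2) two_ne_zero |>.1 ?_
    rw [hu] at hd
    linear_combination -hd + g.1 0 0 * htg
  have hm : g.1 0 1 = 0 := by
    rw [sub_eq_zero.1 hn] at k00
    linear_combination -k00
  refine hg1 (Subtype.ext ?_)
  rw [sub_eq_zero] at hn
  ext i j
  fin_cases i <;> fin_cases j <;> simp [hu, hn, hm]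
  linear_combination htg - hn

end CfsgLib.SL2Apps
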