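import Cfsg.Agent.Lib.PLocal.SLTwoSection
import Cfsg.Agent.Lib.PLocal.StableBasic
import Cfsg.Agent.Lib.PGroup.Frattini
import Cfsg.Agent.Lib.Coprime.Commutator

/-! Groups without `SL₂(p)` section act `p`-stably on normal `p`-subgroups. -/

set_option autoImplicit false

open scoped MatrixGroups commutatorElement

namespace CfsgLib.SL2Free

universe u

variable {G : Type u} [Group G] [Finite G] {p : ℕ} [hp : Fact p.Prime]

/-- If `G` is not `p`-stable on some normal `p`-subgroup, `SL(2, p)` is a homomorphic image of a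
subgroup of `G`. -/
theorem exists_sl2_of_not_isPStableOn (hp2 : p ≠ 2) (V : Subgroup G) [V.Normal] (hV : IsPGroup p V)
    (hns : ¬ Cfsg.IsPStableOn p V) :
    ∃ (M : Subgroup G) (f : M →* SL(2, ZMod p)), Function.Surjective f := by
  set Φ := (frattini V).map V.subtype with hΦ
  have hΦn : Φ.Normal := inferInstance
  set q := QuotientGroup.mk' Φ with hq
  have hqs : Function.Surjective q := QuotientGroup.mk'_surjective Φ
  have hVn : (V.map q).Normal := Subgroup.Normal.map inferInstance q hqs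
  have helem : Cfsg.IsElementaryAbelian p (V.map q) := by
    refine ⟨⟨⟨?_⟩⟩, ?_⟩
    · rintro ⟨_, x, hx, rfl⟩ ⟨_, y, hy, rfl⟩
      refine Subtype.ext ?_
      show q x * q y = q y * q x
      rw [← map_mul, ← map_mul, hq, QuotientGroup.mk'_apply, QuotientGroup.mk'_apply, QuotientGroup.eq]
      refine ⟨((⟨x, hx⟩ : V) * ⟨y, hy⟩)⁻¹ * (⟨y, hy⟩ * ⟨x, hx⟩), ?_, by simp⟩
      refine CfsgLib.PGroup.commutator_le_frattini hV ?_
      have h : ((⟨x, hx⟩ : V) * ⟨y, hy⟩)⁻¹ * (⟨y, hy⟩ * ⟨x, hx⟩) =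
          ⁅(⟨y, hy⟩ : V)⁻¹, (⟨x, hx⟩ : V)⁻¹⁆ := by rw [commutatorElement_def]; group
      rw [h, commutator_def]
      exact Subgroup.commutator_mem_commutator (Subgroup.mem_top _) (Subgroup.mem_top _)
    · rintro _ ⟨x, hx, rfl⟩
      rw [← map_pow, hq, QuotientGroup.mk'_apply, QuotientGroup.eq_one_iff]
      exact ⟨⟨x, hx⟩ ^ p, CfsgLib.PGroup.pow_mem_frattini hV _, by simp⟩
  by_cases hst : Cfsg.IsPStableOn p (V.map q)
  · refine absurd (CfsgLib.PLocal.isPStableOn_iff_stabD.2 fun a ha => ?_) hns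
    have ha' : q a ∈ CfsgLib.PLocal.stabD p (V.map q) := by
      refine CfsgLib.PLocal.isPStableOn_iff_stabD.1 hst (q a) ?_
      have := congrArg (Subgroup.map q) ha
      rwa [Subgroup.map_commutator, Subgroup.map_commutator, MonoidHom.map_zpowers,
        Subgroup.map_bot] at this
    set D := (CfsgLib.PLocal.stabD p (V.map q)).comap q with hD
    have hDn : D.Normal := (CfsgLib.PLocal.stabD_normal p (V.map q)).comap q
    set r := QuotientGroup.mk' (Subgroup.centralizer (V : Set G)) with hr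
    suffices h : IsPGroup p (D.map r) from
      CfsgLib.PCore.le_pCore (Subgroup.Normal.map hDn r (QuotientGroup.mk'_surjective _)) h
        (Subgroup.mem_map_of_mem r (show a ∈ D from ha'))
    rintro ⟨_, x, hx, rfl⟩
    obtain ⟨k, hk⟩ := CfsgLib.PCore.pCore_isPGroup (⟨QuotientGroup.mk' _ (q x), hx⟩ :
      Cfsg.pCore p ((G ⧸ Φ) ⧸ Subgroup.centralizer ((V.map q : Subgroup (G ⧸ Φ)) : Set (G ⧸ Φ))))
    have hc : q (x ^ p ^ k) ∈ Subgroup.centralizer ((V.map q : Subgroup (G ⧸ Φ)) : Set (G ⧸ Φ)) := by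
      have h1 := congrArg Subtype.val hk
      rw [SubmonoidClass.coe_pow, Subgroup.coe_one] at h1
      refine (QuotientGroup.eq_one_iff _).1 ?_
      rw [map_pow, QuotientGroup.mk_pow]
      exact h1
    set y := x ^ p ^ k with hy
    obtain ⟨m, j, hj, hord⟩ :=
      Nat.exists_eq_pow_mul_and_not_dvd (orderOf_pos y).ne' p hp.out.ne_one
    have hyC : Subgroup.zpowers (y ^ p ^ m) ≤ Subgroup.centralizer (V : Set G) := by
      refine CfsgLib.Coprime.le_centralizer_of_trivial_on_frattini _ V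
        (by rw [Subgroup.normalizer_eq_top V]; exact le_top) ?_ ?_
      · rw [Nat.card_zpowers, orderOf_pow, hord, Nat.gcd_mul_right_left,
          Nat.mul_div_cancel_left _ (pow_pos hp.out.pos m)]
        obtain ⟨n, hn⟩ := IsPGroup.iff_card.1 (hV.to_subgroup (frattini V))
        rw [hn]
        exact ((hp.out.coprime_iff_not_dvd.2 hj).symm).pow_right n
      · intro b hb v hv
        obtain ⟨i, rfl⟩ := Subgroup.mem_zpowers_iff.1 hb
        rw [← QuotientGroup.eq_one_iff]
        show q ((y ^ p ^ m) ^ i * v * ((y ^ p ^ m) ^ i)⁻¹ * v⁻¹) = 1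
        have h2 : Commute (q v) (q y) :=
          Subgroup.mem_centralizer_iff.1 hc (q v) (Subgroup.mem_map_of_mem q hv)
        have h3 : Commute (q v) (q ((y ^ p ^ m) ^ i)) := by
          rw [map_zpow, map_pow]; exact (h2.pow_right _).zpow_right _
        rw [map_mul, map_mul, map_mul, map_inv, map_inv, ← h3.eq, mul_inv_cancel_right,
          mul_inv_cancel]
    refine ⟨k + m, Subtype.ext ?_⟩
    rw [SubmonoidClass.coe_pow, Subgroup.coe_one]
    show r x ^ p ^ (k + m) = 1
    rw [← map_pow, pow_add, pow_mul, ← hy]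
    exact (QuotientGroup.eq_one_iff _).2 (hyC (Subgroup.mem_zpowers _))
  · obtain ⟨M, f, hf⟩ := CfsgLib.PLocal.exists_sl2_of_not_isPStableOn hp2 _ helem hst
    set s := (QuotientGroup.mk' (Subgroup.centralizer ((V.map q : Subgroup (G ⧸ Φ)) : Set (G ⧸ Φ)))).comp q
    refine ⟨M.comap s, f.comp (s.subgroupComap M), hf.comp ?_⟩
    rintro ⟨z, hz⟩
    obtain ⟨g, rfl⟩ := ((QuotientGroup.mk'_surjective _).comp hqs : Function.Surjective s) z
    exact ⟨⟨g, hz⟩, rfl⟩

end CfsgLib.SL2Free
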