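import Cfsg.Prelude.Def_Solvable
import Cfsg.Agent.Lib.PLocal5.SL2Basic
import Cfsg.Agent.Lib.Frobenius.Theorem
import Cfsg.Agent.Lib.SubgroupCount.Basic

/-! Finite subgroups of `SL₂` containing two opposite root elements, odd characteristic. -/

set_option autoImplicit false

open scoped MatrixGroups Pointwise

namespace CfsgLib.SL2Unipotent

universe u

variable {K : Type u} [Field K] {p : ℕ} [hp : Fact p.Prime] [CharP K p]

theorem two_ne_zero_of_char (hp2 : p ≠ 2) : (2 : K) ≠ 0 :=
  Ring.two_ne_zero (by rw [ringChar.eq K p]; exact hp2)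

theorem not_commute_up_low {μ : K} (hμ : μ ≠ 0) : ¬ Commute (up μ) (low 1) := fun h => hμ (by
  have := congrArg (fun g : SL(2, K) => g.1 0 0) h.eq
  simpa [Matrix.SpecialLinearGroup.coe_mul] using this)

theorem tr_sq_ne_four_of_odd (hp2 : p ≠ 2) (X : Subgroup SL(2, K)) [Finite X]
    (hodd : Odd (Nat.card X)) {x : SL(2, K)} (hx : x ∈ X) (ht : tr x ≠ 2) : tr x ^ 2 ≠ 4 := by
  have h2 := two_ne_zero_of_char (K := K) hp2
  intro h
  rcases eq_or_eq_neg_of_sq_eq_sq (tr x) 2 (by rw [h]; norm_num) with h' | h'
  · exact ht h'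
  have hneg : (-x) ^ p = 1 := by
    have hsq : IsNilpotent ((-x).1 - 1) := ⟨2, by
      have e := coe_mul_self x
      rw [h'] at e
      rw [Matrix.SpecialLinearGroup.coe_neg, pow_two]
      linear_combination (norm := (simp [sub_mul, mul_sub, two_smul, neg_smul]; abel)) e⟩
    obtain ⟨m, hm⟩ := hsq
    have h0 : ((-x).1 - 1) ^ p = 0 := by
      refine pow_eq_zero_of_le (m := 2) hp.out.two_le ?_
      have e := coe_mul_self x
      rw [h'] at e
      rw [Matrix.SpecialLinearGroup.coe_neg, pow_two]
      linear_combination (norm := (simp [sub_mul, mul_sub, two_smul, neg_smul]; abel)) e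
    have : CharP (Matrix (Fin 2) (Fin 2) K) p := inferInstance
    rw [sub_pow_char_of_commute p (Commute.one_right _), one_pow, sub_eq_zero,
      ← Matrix.SpecialLinearGroup.coe_pow] at h0
    exact Subtype.ext h0
  rw [Odd.neg_pow (hp.out.odd_of_ne_two hp2), neg_eq_iff_eq_neg] at hneg
  have hmem : (-1 : SL(2, K)) ∈ X := hneg ▸ X.pow_mem hx p
  have hd : orderOf (⟨-1, hmem⟩ : X) = 2 :=
    orderOf_eq_prime (Subtype.ext (by simp)) fun he => neg_one_ne_one h2 (congrArg Subtype.val he)
  exact Nat.not_even_iff_odd.2 hodd (even_iff_two_dvd.2 (hd.symm.dvd.trans (orderOf_dvd_natCard _)))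

/-- A finite group containing opposite root elements of `SL₂` has even order. -/
theorem two_dvd_card (hp2 : p ≠ 2) {μ : K} (hμ : μ ≠ 0) (X : Subgroup SL(2, K))
    (hX : X = Subgroup.closure {up μ, low 1}) [Finite X] : 2 ∣ Nat.card X := by
  by_contra hcon
  have hodd : Odd (Nat.card X) := Nat.not_even_iff_odd.1 fun h => hcon (even_iff_two_dvd.1 h)
  have h2 := two_ne_zero_of_char (K := K) hp2
  set a : X := ⟨up μ, hX ▸ Subgroup.subset_closure (by simp)⟩ with ha
  set b : X := ⟨low 1, hX ▸ Subgroup.subset_closure (by simp)⟩ with hb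
  set x : X := a * b with hx
  have hxt : tr (x : SL(2, K)) ≠ 2 := by
    show tr (up μ * low 1) ≠ 2
    rw [tr_up_mul_low]
    intro h; exact hμ (by linear_combination h)
  have ht4 := tr_sq_ne_four_of_odd hp2 X hodd x.2 hxt
  have hns : ∀ y : X, y ≠ 1 → NonScalar (y : SL(2, K)) := by
    intro y hy
    refine nonScalar_of_ne (fun h => hy (Subtype.ext h)) fun h => ?_
    have hd : orderOf y = 2 :=
      orderOf_eq_prime (Subtype.ext (by push_cast; rw [h]; simp)) hy
    exact hcon (hd.symm.dvd.trans (orderOf_dvd_natCard _))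
  have hx1 : x ≠ 1 := fun h => hxt (by rw [h]; simp [tr])
  have hxns := hns x hx1
  set A : Subgroup X := Subgroup.centralizer {x} with hA
  have hmemA : ∀ y : X, y ∈ A ↔ Commute (x : SL(2, K)) y := fun y => by
    rw [hA, Subgroup.mem_centralizer_singleton_iff]
    constructor
    · exact fun h => (congrArg Subtype.val h).symm
    · exact fun h => Subtype.ext h.eq.symm
  have hoddX : ∀ g : X, ∃ k : ℕ, g = (g ^ 2) ^ k := fun g => by
    obtain ⟨k, hk⟩ := hodd
    refine ⟨k + 1, ?_⟩
    rw [← pow_mul, show 2 * (k + 1) = Nat.card X + 1 by omega, pow_succ, pow_card_eq_one', one_mul]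
  have hF : Cfsg.IsFrobeniusComplement A := by
    refine ⟨?_, ?_, fun g hg => ?_⟩
    · intro h
      have hxA : x ∈ A := (hmemA x).2 (Commute.refl _)
      rw [h, Subgroup.mem_bot] at hxA
      exact hx1 hxA
    · intro h
      have ha' : Commute (x : SL(2, K)) a := (hmemA a).1 (h ▸ Subgroup.mem_top a)
      have : Commute (up μ * low 1) (up μ) := ha'
      refine not_commute_up_low hμ ?_
      have h' := this.eq
      rw [mul_assoc] at h'
      exact (mul_left_cancel h').symm
    · rw [eq_bot_iff]
      rintro y ⟨hy, hy'⟩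
      rw [Subgroup.mem_bot]
      by_contra hy1
      have hy2 : g⁻¹ * y * g ∈ A := by
        replace hy' : y ∈ MulAut.conj g • A := hy'
        rw [Subgroup.mem_pointwise_smul_iff_inv_smul_mem] at hy'
        simpa [MulAut.smul_def] using hy'
      have h1 : Commute (x : SL(2, K)) (g⁻¹ * y * g : X) := (hmemA _).1 hy2
      have h3 : Commute ((g : SL(2, K)) * x * (g : SL(2, K))⁻¹) y := by
        have := h1.map (MulAut.conj (g : SL(2, K))).toMonoidHom
        simpa [mul_assoc] using this
      have h4 : Commute (x : SL(2, K)) ((g : SL(2, K)) * x * (g : SL(2, K))⁻¹) :=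
        commute_trans (hns y hy1) ((hmemA y).1 hy).symm h3.symm
      have hgo : ((g : SL(2, K))) ^ Nat.card X = 1 := by
        exact congrArg Subtype.val (pow_card_eq_one' (x := g))
      exact hg ((hmemA g).2 (commute_of_conj h2 hxns ht4 hodd hgo h4).symm)
  obtain ⟨N, hN, -, hNc⟩ := CfsgLib.Frobenius.exists_normal_kernel hF
  have hgen : ∀ g : X, (g : SL(2, K)) ^ p = 1 → g ∈ N := by
    intro g hg
    rw [← SetLike.mem_coe, hN]
    by_cases hg1 : g = 1
    · exact Or.inl hg1
    refine Or.inr fun h hh => hg1 ?_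
    rw [Subgroup.mem_pointwise_smul_iff_inv_smul_mem] at hh
    have h1 : Commute (x : SL(2, K)) (h⁻¹ * g * h : X) := (hmemA _).1 (by simpa [MulAut.smul_def] using hh)
    have h2 := eq_one_of_commute (p := p) hp2 hxns ht4 (g := ((h⁻¹ * g * h : X) : SL(2, K)))
      (by
        push_cast
        have := conj_pow (α := SL(2, K)) (i := p) (a := (h : SL(2, K))⁻¹) (b := (g : SL(2, K)))
        rw [inv_inv] at this
        rw [this, hg]; group) h1
    have h3 : h⁻¹ * g * h = 1 := Subtype.ext h2
    calc g = h * (h⁻¹ * g * h) * h⁻¹ := by group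
      _ = 1 := by rw [h3]; group
  have htop : N = ⊤ := by
    rw [eq_top_iff]
    intro g _
    have hle : Subgroup.closure {up μ, low 1} ≤ N.map X.subtype := by
      rw [Subgroup.closure_le]
      rintro z (rfl | rfl)
      · exact ⟨a, hgen a (up_pow_char μ), rfl⟩
      · exact ⟨b, hgen b (low_pow_char 1), rfl⟩
    obtain ⟨n, hn, hng⟩ := hle (hX.le g.2)
    have : n = g := Subtype.ext hng
    rwa [← this]
  rw [htop] at hNc
  exact hF.1 (Subgroup.isComplement'_top_left.1 hNc)

/-- A finite group containing opposite root elements of `SL₂` has non-abelian Sylow `2`-subgroups. -/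
theorem sylow_two_not_commutative (hp2 : p ≠ 2) {μ : K} (hμ : μ ≠ 0) (X : Subgroup SL(2, K))
    (hX : X = Subgroup.closure {up μ, low 1}) [Finite X] (T : Sylow 2 X) :
    ¬ IsMulCommutative T := by
  intro hT
  have h2 := two_ne_zero_of_char (K := K) hp2
  have : Fact (Nat.Prime 2) := ⟨Nat.prime_two⟩
  have heven := two_dvd_card hp2 hμ X hX
  have hinv : ∀ g : T, g * g = 1 → g ≠ 1 → ((g : X) : SL(2, K)) = -1 := fun g h h1 =>
    eq_neg_one_of_mul_self h2 (congrArg (fun t : T => ((t : X) : SL(2, K))) h)
      fun he => h1 (Subtype.ext (Subtype.ext he))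
  have hcyc : IsCyclic T := by
    obtain ⟨n, hn⟩ := IsPGroup.iff_card.1 T.isPGroup'
    refine CfsgLib.SubgroupCount.isCyclic_of_unique Nat.prime_two n hn ?_ ?_
    · intro a b ha hb
      have e : ∀ c : T, orderOf c = 2 → c * c = 1 ∧ c ≠ 1 := fun c hc =>
        ⟨by rw [← pow_two]; exact orderOf_dvd_iff_pow_eq_one.1 hc.dvd, fun h => by rw [h, orderOf_one] at hc; omega⟩
      have : b = a := Subtype.ext (Subtype.ext
        ((hinv b (e b hb).1 (e b hb).2).trans (hinv a (e a ha).1 (e a ha).2).symm))
      rw [this]; exact Subgroup.mem_zpowers a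
    · intro _
      -- every element `h` with `h^4 = 1` lies in the cyclic group of any element of order four
      have key : ∀ H : Subgroup T, Nat.card H = 4 → ∀ c : T, c ^ 4 = 1 → c ∈ H := by
        intro H hH c hc
        obtain ⟨h, hh, hh4⟩ : ∃ h ∈ H, h * h ≠ 1 := by
          by_contra! hcon
          have hsub : ∀ y z : H, y ≠ 1 → z ≠ 1 → y = z := fun y z hy hz =>
            Subtype.ext (Subtype.ext (Subtype.ext
              ((hinv y (hcon y y.2) (fun h => hy (Subtype.ext h))).trans
                (hinv z (hcon z z.2) (fun h => hz (Subtype.ext h))).symm)))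
          classical
          have hcard : Nat.card H ≤ 2 := by
            let f : H → Bool := fun y => decide (y = 1)
            have hf : Function.Injective f := by
              intro y z hyz
              simp only [f, decide_eq_decide] at hyz
              by_cases hy : y = 1
              · rw [hy, hyz.1 hy]
              · exact hsub y z hy fun hz => hy (hyz.2 hz)
            simpa using Nat.card_le_card_of_injective f hf
          omega
        have hpow4 : h ^ 4 = 1 := by
          have := pow_card_eq_one' (x := (⟨h, hh⟩ : H))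
          rw [hH] at this
          simpa using congrArg Subtype.val this
        have hh2 : ((h * h : T) : X).1 = -1 :=
          hinv _ (by rw [← hpow4]; simp [pow_succ, mul_assoc]) hh4
        by_cases hc1 : c * c = 1
        · by_cases hc0 : c = 1
          · rw [hc0]; exact H.one_mem
          · have : c = h * h := Subtype.ext (Subtype.ext ((hinv c hc1 hc0).trans hh2.symm))
            rw [this]; exact H.mul_mem hh hh
        · have hc2 : c * c = h * h := Subtype.ext (Subtype.ext
            ((hinv _ (by rw [← hc]; simp [pow_succ, mul_assoc]) hc1).trans hh2.symm))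
          have hcomm : Commute c h⁻¹ := (mul_comm' c h⁻¹ : _)
          have hq : (c * h⁻¹) * (c * h⁻¹) = 1 := by
            rw [hcomm.symm.mul_mul_mul_comm, hc2]; group
          by_cases hq1 : c * h⁻¹ = 1
          · rw [mul_inv_eq_one.1 hq1]; exact hh
          · have hch : c * h⁻¹ = h * h := Subtype.ext (Subtype.ext ((hinv _ hq hq1).trans hh2.symm))
            have : c = h * h * h := by rw [← hch, inv_mul_cancel_right]
            rw [this]; exact H.mul_mem (H.mul_mem hh hh) hh
      intro H H' hH hH'
      refine le_antisymm (fun c hc => key H' hH' c ?_) (fun c hc => key H hH c ?_)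
      · have := pow_card_eq_one' (x := (⟨c, hc⟩ : H))
        rw [hH] at this
        simpa using congrArg Subtype.val this
      · have := pow_card_eq_one' (x := (⟨c, hc⟩ : H'))
        rw [hH'] at this
        simpa using congrArg Subtype.val this
  have hmin : (Nat.card X).minFac = 2 := (Nat.minFac_eq_two_iff _).2 heven
  have hNC := IsCyclic.normalizer_le_centralizer hmin hcyc
  set N := (MonoidHom.transferSylow T hNC).ker with hN
  have hc : N.IsComplement' (T : Subgroup X) := MonoidHom.ker_transferSylow_isComplement' T hNC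
  have hgen : ∀ g : X, (g : SL(2, K)) ^ p = 1 → g ∈ N := by
    intro g hg
    rw [hN, MonoidHom.mem_ker]
    have h1 : (MonoidHom.transferSylow T hNC g) ^ p = 1 := by
      rw [← map_pow, show g ^ p = 1 from Subtype.ext hg, map_one]
    obtain ⟨k, hk⟩ := IsPGroup.iff_orderOf.1 T.isPGroup' (MonoidHom.transferSylow T hNC g)
    have hco : Nat.Coprime (2 ^ k) p :=
      Nat.Coprime.pow_left k ((Nat.coprime_primes Nat.prime_two hp.out).2 (Ne.symm hp2))
    exact orderOf_eq_one_iff.1 (Nat.eq_one_of_dvd_coprimes hco (hk ▸ dvd_rfl) (orderOf_dvd_of_pow_eq_one h1))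
  have htop : N = ⊤ := by
    rw [eq_top_iff]
    intro g _
    have hle : Subgroup.closure {up μ, low 1} ≤ N.map X.subtype := by
      rw [Subgroup.closure_le]
      rintro z (rfl | rfl)
      · exact ⟨⟨up μ, hX ▸ Subgroup.subset_closure (by simp)⟩, hgen _ (up_pow_char μ), rfl⟩
      · exact ⟨⟨low 1, hX ▸ Subgroup.subset_closure (by simp)⟩, hgen _ (low_pow_char 1), rfl⟩
    obtain ⟨n, hn, hng⟩ := hle (hX.le g.2)
    have : n = g := Subtype.ext hng
    rwa [← this]
  rw [htop, Subgroup.isComplement'_top_left] at hc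
  have hi := T.not_dvd_index
  rw [hc, Subgroup.index_bot] at hi
  exact hi heven

end CfsgLib.SL2Unipotent
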